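import Cfsg.Agent.Lib.LXQ.Sg

/-! plans/LXQ.md, package A12: the weakly closed case with `φ ≠ 0` -/

set_option autoImplicit false

namespace CfsgLib.LXQ

open Subgroup QuadraticMap Module CfsgLib.ExtraTwo CfsgLib.LargeExtra CfsgLib.OrthE CfsgLib.W4

variable {G : Type*} [Group G] [Finite G]

namespace Sg

variable {z s a b d x : G} {c : Cd z} {n w : V} (h : Sg c s n w) (hφ : Phi (Qx z) z s)
include h hφ

theorem D_N (hd : d ∈ DD z s) (hN : c.π d ∈ Ln n w) : d = 1 :=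
  let ⟨_, hy, e⟩ := h.exists_nn hd.1 hN; h.wp.D_inf_N hφ hd.2 hy e

omit [Finite G] in
theorem dimA : finrank (ZMod 2) (c.co.img (AA z s)) = 3 := by
  have h1 := c.co.card_img (P := AA z s) inf_le_left h.z_mem
  rw [h.cardA_one hφ, Small9.card_eq] at h1
  exact Nat.pow_right_injective (le_refl 2) (by simp only; omega)

omit hφ in
theorem mem_img {v : V} (hv : v ∈ Ln n w) : v ∈ c.co.img (AA z s) ↔ c.q v = 0 := by
  obtain ⟨x, hx, rfl⟩ := c.co.surj v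
  rw [← h.mem_A_iff hx hv]
  refine ⟨fun ⟨y, h1, h2, e⟩ => ?_, fun h => ⟨x, h, hx, rfl⟩⟩
  rcases (c.co.eq_iff h2 hx).1 e with rfl | rfl
  exacts [h1, mul_mem h1 h.z_mem]

omit hφ [Finite G] in
theorem img_le : c.co.img (AA z s) ≤ Small9.pp c.q (Ln n w) := by
  rintro _ ⟨y, h1, -, rfl⟩
  exact mem_pp_Ln.2 (h.perp h1)

theorem qw [IsSimpleGroup G] : c.q w = 0 := by
  by_contra qw
  have hn := (h.mem_img (ln1 n w)).2 h.qn
  have hw := mt (h.mem_img (ln2 n w)).1 qw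
  have hD : ∀ d ∈ DD z s, d = 1 := fun d hd => h.D_N hφ hd (mem_Ln c.nd fun v v1 v2 => by
    have k : ∀ u ∈ c.co.img (AA z s), polar c.q (c.π d) u = 0 := by
      rintro _ ⟨y, h1, -, rfl⟩
      rw [polar_comm]; exact h.b_D c h1 hd
    rcases mem_hyp h.img_le (by rw [h.dimC, h.dimA hφ]) (mem_pp_Ln.2 ⟨h.nw, bself w⟩) hw
      (mem_pp_Ln.2 ⟨v1, v2⟩) with e | e
    · exact k v e
    · have := k _ e
      rwa [polar_add_right, polar_comm _ _ w, (h.perp (h.D_le_A hd)).2, add_zero] at this)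
  have h1 := h.card_B c
  rw [(eq_bot_iff_forall _).2 hD, card_bot, one_mul] at h1
  have h2 := h.symm.cardA_ge
  have := card_le_eight c.nd (h.dimA hφ) h.qn h.n0 hn hw
    (fun a ha => by rw [polar_comm]; exact (mem_pp_Ln.1 (h.img_le ha)).1)
    (fun a ha => by rw [polar_comm]; exact (mem_pp_Ln.1 (h.img_le ha)).2)
    (P := ((Qx s).subgroupOf (CC z)).map c.ρ) fun g hg => by
      obtain ⟨b, hb, rfl⟩ := (WA.mem_Bbar c).1 hg
      have k : ∀ a ∈ c.co.img (AA z s), (c.r b).1 a = a := by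
        rintro _ ⟨y, h1, -, rfl⟩
        exact (h.fix_iff_comm c h1 hb).2 (comm_of_conj_eq (mul_inv_eq_one.1 (hD _ (h.comm_D h1 hb))))
      refine ⟨k, eich_inj c.nd h.qn h.nw ?_ h.n0 ?_⟩
      · rw [← k n hn, O_polar, h.nw]
      · rw [← k n hn, ← conj_eich, k n hn, ← h.eq, h.r_comm c hb, mul_inv_cancel_right]
  omega

variable [IsSimpleGroup G]

theorem N_le : Ln n w ≤ c.co.img (AA z s) := Submodule.span_le.2 (by
  rintro _ (rfl | rfl)
  exacts [(h.mem_img (ln1 _ _)).2 h.qn, (h.mem_img (ln2 _ _)).2 (h.qw hφ)])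

theorem hyp_A {u v : V} (hu : u ∈ c.co.img (AA z s)) (hu' : u ∉ Ln n w) (hv : v ∈ c.co.img (AA z s)) :
    v ∈ Ln n w ∨ v + u ∈ Ln n w :=
  mem_hyp (h.N_le hφ) (by rw [h.dimA hφ, dim_Ln h.n0 h.w0 h.wn]) hu hu' hv

theorem iso_A : ∀ u ∈ c.co.img (AA z s), ∀ v ∈ c.co.img (AA z s), polar c.q u v = 0 := by
  intro u hu v hv
  by_cases hu' : u ∈ Ln n w
  · exact h.img_le hv u hu'
  rw [polar_comm]
  rcases h.hyp_A hφ hu hu' hv with e | e
  · exact h.img_le hu v e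
  · have := h.img_le hu _ e
    rwa [polar_add_left, bself, add_zero] at this

theorem mov_A {g : O c.q} (hg : ∀ u ∈ c.co.img (AA z s), g.1 u = u) (v : V) :
    g.1 v + v ∈ c.co.img (AA z s) :=
  mem_of_perp c.nd (h.iso_A hφ) (h.dimA hφ).ge fun u hu => b_fix (hg u hu) v

theorem exists_D : ∃ d ∈ DD z s, d ≠ 1 := by
  by_contra hD
  push Not at hD
  have hc : ∀ a ∈ AA z s, ∀ b ∈ AA s z, b * a = a * b := fun a ha b hb =>
    comm_of_conj_eq (mul_inv_eq_one.1 (hD _ (h.comm_D ha hb)))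
  have hb : ∀ b ∈ AA s z, b * b = 1 := fun b hb => by
    have k : ∀ a ∈ c.co.img (AA z s), (c.r b).1 a = a := by
      rintro _ ⟨y, h1, -, rfl⟩
      exact (h.fix_iff_comm c h1 hb).2 (hc y h1 b hb)
    have hz := mem_cent.1 hb.2
    refine hD _ ⟨(c.r_eq_one (mem_cent.1 (mul_mem hb.2 hb.2))).1 ?_, mul_mem hb.1 hb.1⟩
    rw [c.r_mul hz hz]
    refine O_ext fun v => ?_
    have := k _ (h.mov_A hφ k v)
    rw [map_add] at this
    rw [O_mul_apply, O_one_apply]; grind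
  obtain ⟨c1⟩ := h.symm.hyp.exists_cd
  have h1 := c1.co.card_img (P := AA s z) inf_le_left h.symm.z_mem
  have h2 := h.symm.cardA_ge
  rw [h1, Small9.card_eq] at h2
  obtain ⟨u1, m1, u2, m2, u3, m3, ts⟩ := exists_ts3 (q := c1.q) (S := c1.co.img (AA s z)) (by
    rintro _ ⟨y, h1, h2, rfl⟩
    exact (c1.co.sq y h2).2 (hb y h1)) (by
    by_contra h3
    have := Nat.pow_le_pow_right two_pos (show finrank (ZMod 2) (c1.co.img (AA s z)) ≤ 2 by omega)
    omega)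
  have h3 := h.symm.card_B c1
  rw [(eq_bot_iff_forall (DD s z)).2 fun d hd => hD d ⟨hd.2, hd.1⟩, card_bot, one_mul,
    h.cardA_one hφ] at h3
  have := ts.card_fix c1.nd (P := ((Qx z).subgroupOf (CC s)).map c1.ρ) fun g hg => by
    obtain ⟨a, ha, rfl⟩ := (WA.mem_Bbar c1).1 hg
    have k : ∀ u ∈ c1.co.img (AA s z), (c1.r a).1 u = u := by
      rintro _ ⟨y, h1, -, rfl⟩
      exact (h.symm.fix_iff_comm c1 h1 ha).2 (hc a ha y h1).symm
    exact ⟨k _ m1, k _ m2, k _ m3⟩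
  omega

theorem t2 : T2 z s ∧ Phi (Qx s) s z := by
  obtain ⟨d, hd, d1⟩ := h.exists_D hφ
  have dN : c.π d ∉ Ln n w := fun e => d1 (h.D_N hφ hd e)
  have dA : c.π d ∈ c.co.img (AA z s) := ⟨d, h.D_le_A hd, hd.1, rfl⟩
  have qN : ∀ v ∈ Ln n w, c.q v = 0 := fun v hv => (h.mem_img hv).1 (h.N_le hφ hv)
  have qA : ∀ v ∈ c.co.img (AA z s), c.q v = 0 := fun v hv => by
    rcases h.hyp_A hφ dA dN hv with e | e
    · exact qN v e
    · have := qN _ e
      rwa [qadd, h.q_D c hd, h.iso_A hφ v hv _ dA, add_zero, add_zero] at this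
  have hc : ∀ a ∈ AA z s, ∀ b ∈ AA s z, a * b = b * a := fun a ha b hb => by
    refine (comm_of_conj_eq (mul_inv_eq_one.1 (h.D_N hφ (h.comm_D ha hb) ?_))).symm
    rw [c.π_comm (mem_cent.1 hb.2) ha.1]
    rcases h.hyp_A hφ dA dN ⟨a, ha, ha.1, rfl⟩ with e | e
    · exact add_mem (h.N_inv hb e) e
    · have := add_mem (h.N_inv hb e) e
      rw [map_add, h.fix_D c hb hd] at this
      convert this using 1; grind
  have hD : Nat.card (DD z s) = 2 := le_antisymm (h.wp.card_D_le_two hφ)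
    (Finite.one_lt_card_iff_nontrivial.2 ⟨⟨d, hd⟩, 1, fun e => d1 (congrArg Subtype.val e)⟩)
  obtain ⟨u1, m1, u2, m2, u3, m3, ts⟩ := exists_ts3 qA (h.dimA hφ).ge
  have k : ∀ P : Subgroup G, (∀ g ∈ P, g * z = z * g → ∀ a ∈ AA z s, a * g = g * a) →
      Nat.card ((P.subgroupOf (CC z)).map c.ρ) ≤ 8 := fun P hP => ts.card_fix c.nd (by
    rintro _ ⟨g, hg, rfl⟩
    have k : ∀ u ∈ c.co.img (AA z s), (c.ρ g).1 u = u := by
      rintro _ ⟨y, h1, h2, rfl⟩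
      rw [c.act g y h2, conj_eq_of_comm (hP g hg (mem_cent.1 g.2) y h1).symm]
    exact ⟨k _ m1, k _ m2, k _ m3⟩)
  refine ⟨⟨h.toWA, hφ, fun a ha => (c.co.sq a ha.1).1 (qA _ ⟨a, ha, ha.1, rfl⟩), h.cardA_one hφ, hD, hc,
    ?_⟩, by_contra fun h1 => ?_⟩
  · have h1 := card_inf_mul_card_map (Q1 := centralizer (AA z s : Set G)) h.hyp.pre.le_cent c.ρ c.ker
    have h2 : Qx z ⊓ centralizer (AA z s : Set G) = AA z s := by
      refine le_antisymm (fun x hx => ?_) fun x hx => ⟨hx.1, fun y hy =>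
        (c.co.polar_iff hy.1 hx.1).1 (h.iso_A hφ _ ⟨y, hy, hy.1, rfl⟩ _ ⟨x, hx, hx.1, rfl⟩)⟩
      rw [← c.co.sub_img (P := AA z s) inf_le_left h.z_mem]
      refine ⟨hx.1, mem_of_perp c.nd (h.iso_A hφ) (h.dimA hφ).ge ?_⟩
      rintro _ ⟨y, h1, h2, rfl⟩
      exact (c.co.polar_iff h2 hx.1).2 (hx.2 y h1)
    rw [h2, h.cardA_one hφ, inf_eq_left.2 fun g hg => mem_cent.2 (hg z h.z_mem).symm] at h1
    exact h1 ▸ Nat.mul_le_mul_left 16 (k (centralizer (AA z s : Set G)) fun g hg _ a ha => hg a ha)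
  · obtain ⟨c1⟩ := h.symm.hyp.exists_cd
    obtain ⟨n', w', h'⟩ := h.symm.exists_sg c1
    have h2 := h.card_B c
    rw [hD, h'.cardA_zero h1] at h2
    have := k (Qx s) fun g hg hz a ha => hc a ha g ⟨hg, mem_cent.2 hz⟩
    omega

end Sg

theorem WA.t2 [IsSimpleGroup G] {z s : G} (p : WA z s) (h : Phi (Qx z) z s) : T2 z s ∧ T2 s z := by
  have k : ∀ {z s : G}, WA z s → Phi (Qx z) z s → T2 z s ∧ Phi (Qx s) s z := fun p h => by
    obtain ⟨c⟩ := p.hyp.exists_cd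
    obtain ⟨n, w, h'⟩ := p.exists_sg c
    exact h'.t2 h
  exact ⟨(k p h).1, (k p.symm (k p h).2).1⟩

end CfsgLib.LXQ
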