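import Cfsg.Agent.Lib.LXQ.Sg

/-! plans/LXQ.md, package A3: pairs of type (3) -/

set_option autoImplicit false
set_option linter.unusedSectionVars false

namespace CfsgLib.LXQ

open Subgroup QuadraticMap Module CfsgLib.ExtraTwo CfsgLib.LargeExtra CfsgLib.OrthE CfsgLib.W4

variable {G : Type*} [Group G] [Finite G]

namespace Sg

variable {z s a b d d' x : G} {c : Cd z} {n w : V} (h : Sg c s n w) (hφ : ¬ Phi (Qx z) z s)
include h hφ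

omit [Finite G] in
theorem mem_A (hx : x ∈ Qx z) (h1 : polar c.q n (c.π x) = 0) (h2 : polar c.q w (c.π x) = 0) :
    x ∈ AA z s := mem_AA.2 ⟨hx, h.wp.comm_of_fixed hφ c.co (h.hσ c) hx (h.fix_iff.2 ⟨h1, h2⟩)⟩

theorem qw' : c.q w = 0 := by
  obtain ⟨x, hx, e⟩ := c.co.surj w
  rw [← e, ← h.mem_A_iff hx (e ▸ ln2 n w)]
  exact h.mem_A hφ hx (e ▸ h.nw) (by rw [e, bself])

theorem D_mem (hd : d ∈ DD z s) : c.π d ∈ Ln n w := by
  by_cases h1 : d = 1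
  · rw [h1, c.co.map_one]; exact zero_mem _
  obtain ⟨x, hx, rfl⟩ := h.wp.exists_D_eq hφ hd.1 hd.2 h1
  rw [c.co.map_mul_z (h.wp.nn_mem hx), h.wp.π_nn c.co (h.hσ c) hx]
  exact h.mov _

omit [Finite G] in
theorem exists_A {v : V} (h1 : polar c.q n v = 0) (h2 : polar c.q w v = 0) :
    ∃ a ∈ AA z s, c.π a = v := by
  obtain ⟨x, hx, rfl⟩ := c.co.surj v
  exact ⟨x, h.mem_A hφ hx h1 h2, rfl⟩

omit [Finite G] in
theorem mov_D (hb : b ∈ AA s z) {v : V} (h1 : polar c.q n v = 0) (h2 : polar c.q w v = 0) :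
    ∃ d ∈ DD z s, (c.r b).1 v + v = c.π d := by
  obtain ⟨a, ha, rfl⟩ := h.exists_A hφ h1 h2
  exact ⟨_, h.comm_D ha hb, (c.π_comm (mem_cent.1 hb.2) ha.1).symm⟩

/-- a second basis vector of `N` -/
theorem exists_rebase {δ : V} (h1 : δ ∈ Ln n w) (h0 : δ ≠ 0) : ∃ ν, Sg c s δ ν ∧ Ln δ ν = Ln n w := by
  obtain ⟨ν, h2, h3, h4⟩ := Small9.exists_ne (dim_Ln h.n0 h.w0 h.wn).ge δ
  exact ⟨ν, h.rebase (h.qw' hφ) h1 h2 h0 h3 h4, Ln_eq h1 h2 h0 h3 h4⟩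

end Sg

namespace T3

variable [IsSimpleGroup G] {z s : G} (p : T3 z s) {a b d d' x : G}
include p

theorem cardA : Nat.card (AA z s) = 32 := by
  obtain ⟨c⟩ := p.hyp.exists_cd
  obtain ⟨n, w, h⟩ := p.exists_sg c
  exact h.cardA_zero p.p0

theorem exists_D : ∃ d ∈ DD z s, ∃ d' ∈ DD z s, d ≠ 1 ∧ d' ≠ 1 ∧ d' ≠ d := by
  by_contra hD
  push Not at hD
  obtain ⟨c⟩ := p.hyp.exists_cd
  obtain ⟨n, w, h⟩ := p.exists_sg c
  obtain ⟨δ, ν, h, h1, h2⟩ : ∃ δ ν, Sg c s δ ν ∧ (∀ d ∈ DD z s, c.π d = 0 ∨ c.π d = δ) ∧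
      ∀ b ∈ AA s z, (c.r b).1 δ = δ := by
    by_cases h1 : ∀ d ∈ DD z s, d = 1
    · refine ⟨n, w, h, fun d hd => .inl (by rw [h1 d hd, c.co.map_one]), fun b hb => ?_⟩
      obtain ⟨d, hd, e⟩ := h.mov_D p.p0 hb (bself n) (by rw [polar_comm, h.nw])
      rw [h1 d hd, c.co.map_one] at e
      exact eq_of_add_eq_zero e
    push Not at h1
    obtain ⟨d, hd, d1⟩ := h1
    obtain ⟨ν, h', -⟩ := h.exists_rebase p.p0 (h.D_mem p.p0 hd) fun e => d1 (p.π_D c hd e)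
    refine ⟨_, ν, h', fun d' hd' => ?_, fun b hb => p.fix_D c hb hd⟩
    by_cases e : d' = 1
    · exact .inl (by rw [e, c.co.map_one])
    · exact .inr (by rw [hD d hd d' hd' d1 e])
  have k : ∀ b ∈ AA s z, ∃ y, polar c.q δ y = 0 ∧ c.r b = eich c.q δ y := fun b hb =>
    tool c.nd h.qn (h.qw' p.p0) h.nw h.n0 (h2 b hb) fun v v1 v2 => by
      obtain ⟨d, hd, e⟩ := h.mov_D p.p0 hb v1 v2
      have := h1 d hd
      grind
  have es := p.toWA.symm.hyp.es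
  have := card_sq_le_of_comm es (A := AA s z) inf_le_left p.toWA.symm.z_mem fun b hb b' hb' => by
    by_contra hc
    obtain ⟨y, y1, e⟩ := k b hb
    obtain ⟨y', y1', e'⟩ := k b' hb'
    have hz := mem_cent.1 hb.2
    have hz' := mem_cent.1 hb'.2
    have h3 := congrArg c.r (es.comm_of_ne hb.1 hb'.1 hc)
    rw [c.r_mul p.comm (mem_cent.1 (mul_mem hb'.2 hb.2)), c.r_mul hz hz', c.r_mul hz' hz, e, e',
      eich_comm h.qn y1 y1', right_eq_mul] at h3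
    exact p.wp.s_not_mem ((c.r_eq_one p.comm).1 h3)
  rw [p.symm.cardA, p.toWA.symm.hyp.card] at this
  omega

theorem cardD : Nat.card (DD z s) = 4 := by
  obtain ⟨d, hd, d', hd', h1, h2, h3⟩ := p.exists_D
  have h4 := p.wp.card_D_le_four p.p0
  have h5 : IsPGroup 2 (DD z s) := p.hyp.es.isPGroup.to_le inf_le_left
  obtain ⟨k, hk⟩ := IsPGroup.iff_card.1 h5
  have h6 : 2 < Nat.card (DD z s) := by
    have := Fintype.ofFinite (DD z s)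
    rw [Nat.card_eq_fintype_card, Fintype.two_lt_card_iff]
    exact ⟨1, ⟨d, hd⟩, ⟨d', hd'⟩, fun e => h1 (congrArg Subtype.val e).symm,
      fun e => h2 (congrArg Subtype.val e).symm, fun e => h3 (congrArg Subtype.val e).symm⟩
  change Nat.card (DD z s) ≤ 4 at h4
  rw [hk] at h4 h6 ⊢
  have h7 : k < 3 := (Nat.pow_lt_pow_iff_right (a := 2) (by norm_num)).1 (by omega)
  interval_cases k <;> simp_all

theorem sg (c : Cd z) (hd : d ∈ DD z s) (hd' : d' ∈ DD z s) (h1 : d ≠ 1) (h2 : d' ≠ 1)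
    (h3 : d' ≠ d) : Sg c s (c.π d) (c.π d') := by
  obtain ⟨n, w, h⟩ := p.exists_sg c
  exact h.rebase (h.qw' p.p0) (h.D_mem p.p0 hd) (h.D_mem p.p0 hd') (fun e => h1 (p.π_D c hd e))
    (fun e => h2 (p.π_D c hd' e)) fun e => h3 (p.π_inj c hd' hd e)

theorem r_s (c : Cd z) (hd : d ∈ DD z s) (hd' : d' ∈ DD z s) (h1 : d ≠ 1) (h2 : d' ≠ 1)
    (h3 : d' ≠ d) : c.r s = eich c.q (c.π d) (c.π d') := (p.sg c hd hd' h1 h2 h3).eq

/-- `π D₀ = N` -/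
theorem exists_lift {c : Cd z} {n w v : V} (h : Sg c s n w) (hv : v ∈ Ln n w) :
    ∃ d ∈ DD z s, c.π d = v := by
  obtain ⟨d, hd, d', hd', h1, h2, h3⟩ := p.exists_D
  have h' := p.sg c hd hd' h1 h2 h3
  rw [← Ln_eq (h.D_mem p.p0 hd) (h.D_mem p.p0 hd') h'.n0 h'.w0 h'.wn] at hv
  rcases mem_span2.1 hv with rfl | rfl | rfl | rfl
  exacts [⟨1, one_mem _, c.co.map_one⟩, ⟨d, hd, rfl⟩, ⟨d', hd', rfl⟩,
    ⟨d * d', mul_mem hd hd', c.co.map_mul _ hd.1 _ hd'.1⟩]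

theorem mem_N_iff {c : Cd z} {n w : V} (h : Sg c s n w) (hx : x ∈ Qx z) :
    c.π x ∈ Ln n w ↔ x ∈ Qx s ∨ x * z ∈ Qx s := by
  refine ⟨fun hv => ?_, ?_⟩
  · obtain ⟨d, hd, e⟩ := p.exists_lift h hv
    rcases (c.co.eq_iff hd.1 hx).1 e with rfl | rfl
    exacts [.inl hd.2, .inr (by rw [p.hyp.es.zz']; exact hd.2)]
  · rintro (h1 | h1)
    · exact h.D_mem p.p0 ⟨hx, h1⟩
    · rw [← c.co.map_mul_z hx]; exact h.D_mem p.p0 ⟨mul_mem hx p.hyp.es.mem, h1⟩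

/-- `A = C_Q(D₀)` -/
theorem mem_A (hx : x ∈ Qx z) : x * s = s * x ↔ ∀ d ∈ DD z s, x * d = d * x := by
  refine ⟨fun h d hd => p.wp.D_comm_A hd.1 hd.2 hx h, fun h => ?_⟩
  obtain ⟨c⟩ := p.hyp.exists_cd
  obtain ⟨d, hd, d', hd', h1, h2, h3⟩ := p.exists_D
  exact mem_cent.1 ((p.sg c hd hd' h1 h2 h3).mem_A p.p0 hx ((c.co.polar_iff hd.1 hx).2 (h d hd).symm)
    ((c.co.polar_iff hd'.1 hx).2 (h d' hd').symm)).2

theorem pt (hd : d ∈ DD z s) (h1 : d ≠ 1) : ∃ x ∈ Qx z, x⁻¹ * s * x = s * d * z := by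
  obtain ⟨x, hx, rfl⟩ := p.wp.exists_D_eq p.p0 hd.1 hd.2 h1
  exact ⟨x, hx, by rw [p.wp.conj_nn, ← mul_assoc, p.hyp.es.zz']⟩

theorem pt' (hx : x ∈ Qx z) (h : x * s ≠ s * x) :
    ∃ d ∈ DD z s, d ≠ 1 ∧ x⁻¹ * s * x = s * d * z := by
  obtain ⟨c⟩ := p.hyp.exists_cd
  obtain ⟨n, w, h'⟩ := p.exists_sg c
  have hn := p.wp.nn_mem hx
  have e := p.wp.π_nn c.co (p.hσ c) hx
  rcases (p.mem_N_iff h' hn).1 (e ▸ h'.mov _) with h1 | h1
  · exact absurd (p.wp.nn_eq_one.1 (p.wp.eq_one_of_conj h1 (p.wp.isConj_nn x))) h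
  · refine ⟨_, ⟨mul_mem hn p.hyp.es.mem, h1⟩, fun e1 => h ?_,
      by rw [p.wp.conj_nn, ← mul_assoc, p.hyp.es.zz']⟩
    rw [← c.co.map_mul_z hn, e1, c.co.map_one] at e
    exact p.wp.comm_of_fixed p.p0 c.co (p.hσ c) hx (eq_of_add_eq_zero e.symm)

omit [Finite G] [IsSimpleGroup G] in
theorem mem_of_r {c : Cd z} (hb : b ∈ AA s z) (h : c.r b = 1 ∨ c.r b = c.r s) :
    b ∈ Qx z ∨ b * s ∈ Qx z := by
  have hz := mem_cent.1 hb.2
  refine h.imp (c.r_eq_one hz).1 fun e => ?_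
  rw [← c.r_eq_one (mem_cent.1 (mul_mem hb.2 (mem_cent.2 p.comm))), c.r_mul hz p.comm, e,
    ← c.r_mul p.comm p.comm, p.wp.ss, c.r_eq_one (by simp)]
  exact one_mem _

theorem rank (ha : a ∈ AA z s) (hb : b ∈ AA s z) (h : b * a = a * b) :
    (a ∈ Qx s ∨ a * z ∈ Qx s) ∨ (b ∈ Qx z ∨ b * s ∈ Qx z) := by
  obtain ⟨c⟩ := p.hyp.exists_cd
  obtain ⟨n, w, h'⟩ := p.exists_sg c
  rw [← p.mem_N_iff h' ha.1, or_iff_not_imp_left]
  intro aN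
  have hz := mem_cent.1 hb.2
  have fN : ∀ v ∈ Ln n w, (c.r b).1 v = v := fun v hv => by
    obtain ⟨d, hd, rfl⟩ := p.exists_lift h' hv
    exact p.fix_D c hb hd
  by_cases h1 : ∀ v, polar c.q n v = 0 → polar c.q w v = 0 → (c.r b).1 v = v
  · exact p.mem_of_r hb (h'.eq ▸ fix_perp c.nd h'.qn (h'.qw' p.p0) h'.nw h'.n0 h1)
  push Not at h1
  obtain ⟨u, u1, u2, u3⟩ := h1
  obtain ⟨d₁, hd₁, e₁⟩ := h'.mov_D p.p0 hb u1 u2
  have m1 := h'.D_mem p.p0 hd₁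
  obtain ⟨ν, h'', e⟩ := h'.exists_rebase p.p0 m1 fun e => u3 (eq_of_add_eq_zero (e₁.trans e))
  have nC : ∀ v ∈ Ln n w, v ∈ fixSp (c.r b) ⊓ Small9.pp c.q (Ln n w) := fun v hv =>
    ⟨mem_fixSp.2 (fN v hv), fun x hx => by
      obtain ⟨d, hd, rfl⟩ := p.exists_lift h' hx
      obtain ⟨d', hd', rfl⟩ := p.exists_lift h' hv
      exact p.b_D c (p.D_le_A hd) hd'⟩
  obtain ⟨y, y1, ey⟩ := tool c.nd h''.qn (h''.qw' p.p0) h''.nw h''.n0 (fN _ m1) fun v v1 v2 => by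
    have d3 := three_le_dim (nC n (ln1 n w)) (nC w (ln2 n w)) (c := c.π a)
      ⟨mem_fixSp.2 ((p.fix_iff_comm c ha hb).2 h), mem_pp_Ln.2 (h'.perp ha)⟩ h'.n0 h'.w0 h'.wn
      (fun e => aN (e ▸ zero_mem _)) (fun e => aN (e ▸ ln1 n w)) (fun e => aN (e ▸ ln2 n w))
      fun e => aN (e ▸ add_mem (ln1 n w) (ln2 n w))
    rcases mem_hyp (S := fixSp (c.r b) ⊓ Small9.pp c.q (Ln n w)) inf_le_right (by rw [h'.dimC]; omega)
      (mem_pp_Ln.2 ⟨u1, u2⟩) (fun e => u3 (mem_fixSp.1 e.1)) (e ▸ mem_pp_Ln.2 ⟨v1, v2⟩) with e | e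
    · exact .inl (mem_fixSp.1 e.1)
    · have := mem_fixSp.1 e.1
      rw [map_add] at this
      exact .inr (by grind)
  by_cases hy : y ∈ Ln (c.π d₁) ν
  · refine p.mem_of_r hb (h''.eq ▸ fix_perp c.nd h''.qn (h''.qw' p.p0) h''.nw h''.n0 fun v v1 v2 => ?_)
    rw [ey, eich_apply_of_orth] <;> rw [polar_comm]
    exacts [v1, b_Ln v1 v2 hy]
  obtain ⟨v, v1, v2⟩ := exists_sep c.nd (S := Ln (c.π d₁) y) (x := ν) fun e => hy (by
    have := h''.w0; have := h''.wn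
    rcases mem_span2.1 e with e | e | e | e
    · exact absurd e h''.w0
    · exact absurd e h''.wn
    · exact e ▸ ln2 _ _
    · rw [show y = c.π d₁ + ν by grind]; exact add_mem (ln1 _ _) (ln2 _ _))
  obtain ⟨x, hx, rfl⟩ := c.co.surj v
  have es := p.hyp.es
  have es' := p.toWA.symm.hyp.es
  obtain ⟨d, hd, d1, e1⟩ := p.pt' hx fun e => by
    rw [(h''.perp (mem_AA.2 ⟨hx, e⟩)).2] at v2; exact zero_ne_one v2
  obtain ⟨x₁, hx₁, e2⟩ := p.symm.pt (d := d) ⟨hd.2, hd.1⟩ d1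
  have c1 := es.comm_z d hd.1
  have c2 := es'.comm_z d hd.2
  have e3 : z * d * s = s * d * z := by rw [← c1, mul_assoc, ← p.comm, ← mul_assoc, c2]
  have e4 : x₁ * z * x₁⁻¹ = s * d * z := by
    have : x₁ * x₁ * z = z * (x₁ * x₁) := by
      rcases es'.sq hx₁ with e | e <;> rw [e]
      exacts [by simp, p.comm]
    rw [← e3, ← e2]
    calc _ = x₁⁻¹ * (x₁ * x₁ * z) * x₁⁻¹ := by group
      _ = _ := by rw [this]; group
  have h2 : x₁ * (x⁻¹ * b * x) * x₁⁻¹ ∈ Qx z :=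
    conj_mem_Qx (x := s * d * z) (by rw [← e3, ← e2]; group)
      (by simpa using conj_mem_Qx (g := x⁻¹) (x := s) (by rw [inv_inv, e1]) hb.1)
  have h3 : x⁻¹ * b * x = b ∨ x⁻¹ * b * x = b * z := by
    have : (c.r b).1 (c.π x⁻¹) = c.π x⁻¹ := by
      rw [c.co.map_inv hx, ey, eich_apply_of_orth] <;> rw [polar_comm]
      exacts [v1 _ (ln1 _ _), v1 _ (ln2 _ _)]
    have h4 : (c.r b⁻¹).1 (c.π x⁻¹) = c.π x⁻¹ := by rw [c.r_inv hz]; exact O_inv_apply_eq _ this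
    rcases (c.r_fix (mem_cent.1 (inv_mem hb.2)) (inv_mem hx)).1 h4 with e | e
    · left
      calc _ = b * (b⁻¹ * x⁻¹ * b⁻¹⁻¹) * x := by group
        _ = _ := by rw [e]; group
    · right
      calc _ = b * (b⁻¹ * x⁻¹ * b⁻¹⁻¹) * x := by group
        _ = _ := by rw [e, ← mul_assoc, mul_assoc _ z, ← es.comm_z x hx]; group
  have dz : d * z ∈ Qx z := mul_mem hd.1 es.mem
  rcases h3 with e | e <;> rw [e] at h2
  · rcases es'.conj hb.1 hx₁ with e' | e' <;> rw [e'] at h2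
    exacts [.inl h2, .inr h2]
  · rw [← conj_mul, e4, mul_assoc s, ← mul_assoc, mul_mem_cancel_right dz] at h2
    rcases es'.conj hb.1 hx₁ with e' | e' <;> rw [e'] at h2
    exacts [.inr h2, .inl (by rwa [es'.zz'] at h2)]

theorem rank' {c : Cd z} {n w v : V} (h : Sg c s n w) (hb : b ∈ AA s z) (h1 : b ∉ Qx z)
    (h2 : b * s ∉ Qx z) (v1 : polar c.q n v = 0) (v2 : polar c.q w v = 0) (e : (c.r b).1 v = v) :
    v ∈ Ln n w := by
  obtain ⟨a, ha, rfl⟩ := h.exists_A p.p0 v1 v2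
  exact (p.mem_N_iff h ha.1).2
    ((p.rank ha hb ((p.fix_iff_comm c ha hb).1 e)).resolve_right (not_or.2 ⟨h1, h2⟩))

theorem sq' (hb : b ∈ AA s z) (h1 : b ∉ Qx z) (h2 : b * s ∉ Qx z) : b * b = s := by
  refine (p.toWA.symm.hyp.es.sq hb.1).resolve_left fun e => ?_
  obtain ⟨c⟩ := p.hyp.exists_cd
  obtain ⟨n, w, h⟩ := p.exists_sg c
  have hz := mem_cent.1 hb.2
  obtain ⟨n', w', q1, q2, -, -, -, e'⟩ := invol_eich c.nd (c.lk.om (c.r_mem b))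
    (by rw [← c.r_mul hz hz, e, c.r_eq_one (by simp)]; exact one_mem _)
    fun e => h1 ((c.r_eq_one hz).1 e)
  obtain ⟨u, hu, u0⟩ := exists_not_mem h.dimC.ge [0, n, w, n + w] (by simp)
  obtain ⟨v, hv, v0⟩ := exists_not_mem h.dimC.ge [0, n, w, n + w, u, n + u, w + u, n + w + u] (by simp)
  simp only [List.mem_cons, List.not_mem_nil, or_false, not_or] at u0 v0
  have k : ∀ v ∈ Small9.pp c.q (Ln n w), v ∉ Ln n w → (c.r b).1 v + v ≠ 0 := fun v hv h3 e =>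
    h3 (p.rank' h hb h1 h2 (mem_pp_Ln.1 hv).1 (mem_pp_Ln.1 hv).2 (eq_of_add_eq_zero e))
  have k1 := k u hu (by rw [mem_span2]; grind)
  have k2 := k v hv (by rw [mem_span2]; grind)
  have k3 := k _ (add_mem hu hv) (by rw [mem_span2]; grind)
  rw [map_add] at k3
  have m : ∀ v, (c.r b).1 v + v ∈ Ln n' w' := fun v => mem_Ln c.nd fun u u1 u2 => by
    rw [polar_comm]
    exact b_fix (by rw [e', eich_apply_of_orth] <;> rwa [polar_comm]) v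
  have m' : ∀ v ∈ Small9.pp c.q (Ln n w), (c.r b).1 v + v ∈ Ln n w := fun v hv => by
    obtain ⟨d, hd, e⟩ := h.mov_D p.p0 hb (mem_pp_Ln.1 hv).1 (mem_pp_Ln.1 hv).2
    exact e ▸ h.D_mem p.p0 hd
  have e1 := (Ln_eq (m u) (m v) k1 k2 (by grind)).symm.trans (Ln_eq (m' u hu) (m' v hv) k1 k2 (by grind))
  refine k1 (add_eq_zero_zmod2.2 ?_)
  rw [e', eich_apply_of_orth] <;> rw [polar_comm]
  exacts [hu _ (e1 ▸ ln1 n' w'), hu _ (e1 ▸ ln2 n' w')]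

theorem sq (ha : a ∈ AA z s) (h1 : a ∉ Qx s) (h2 : a * z ∉ Qx s) : a * a = z := p.symm.sq' ha h1 h2

theorem mem_of_sq (ha : a ∈ AA z s) (h : a * a = 1) : a ∈ Qx s ∨ a * z ∈ Qx s := by
  by_contra hc
  push Not at hc
  exact p.hyp.es.ne_one ((p.sq ha hc.1 hc.2).symm.trans h)

theorem coset (hx : x ∈ Qx z) (h : IsConj z (s * x)) : ∃ y ∈ Qx z, y⁻¹ * s * y = s * x := by
  obtain ⟨c⟩ := p.hyp.exists_cd
  have h1 := p.hyp.sq h
  have h2 : s * x * s⁻¹ = x⁻¹ := by rw [p.wp.s_inv, eq_inv_iff_mul_eq_one, ← h1]; group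
  have h3 := p.wp.comm_of_fixed p.p0 c.co (p.hσ c) hx (by rw [p.hσ c x hx, h2, c.co.map_inv hx])
  rw [conj_eq_of_comm h3.symm, eq_inv_iff_mul_eq_one] at h2
  rcases p.mem_of_sq (mem_AA.2 ⟨hx, h3⟩) h2 with e | e
  · exact ⟨1, one_mem _, by rw [p.wp.eq_one_of_conj e h]; simp⟩
  by_cases h4 : x * z = 1
  · obtain ⟨d, hd, -, -, d1, -⟩ := p.exists_D
    rw [eq_inv_of_mul_eq_one_left h4, p.hyp.es.inv_eq] at h
    exact absurd h (p.wp.not_conj_sz' p.p0 hd.1 hd.2 d1)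
  · obtain ⟨y, hy, e'⟩ := p.pt ⟨mul_mem hx p.hyp.es.mem, e⟩ h4
    exact ⟨y, hy, by rw [e', ← mul_assoc, p.hyp.es.zz']⟩

theorem exists_la (c : Cd z) : ∃ B n₁ n₂, LA c.q c.K B n₁ n₂ := by
  obtain ⟨n, w, h⟩ := p.exists_sg c
  have hs := p.toWA.symm.z_mem
  have nb : ∀ b ∈ AA s z, c.r b ≠ 1 → c.r b ≠ eich c.q n w → b ∉ Qx z ∧ b * s ∉ Qx z := fun b hb h1 h2 => by
    have hz := mem_cent.1 hb.2
    refine ⟨fun e => h1 ((c.r_eq_one hz).2 e), fun e => h2 ?_⟩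
    rw [← c.r_eq_one (mem_cent.1 (mul_mem hb.2 hs.2)), c.r_mul hz p.comm, h.eq] at e
    rw [eq_inv_of_mul_eq_one_left e, eich_inv h.qn h.nw]
  refine ⟨((Qx s).subgroupOf (CC z)).map c.ρ, n, w, c.lk, map_le_range _ _, ?_, h.qn, h.qw' p.p0, h.nw,
    h.n0, h.w0, h.wn, (WA.mem_Bbar c).2 ⟨s, hs, h.eq⟩, fun g hg => ?_, fun g hg => ?_, fun g hg => ?_,
    fun g hg => ?_, fun v v1 v2 e => ?_, fun k hk e g hg => ?_⟩
  · have := p.card_B c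
    rw [p.cardD, p.symm.cardA] at this
    omega
  rotate_right 2
  · obtain ⟨a, ha, rfl⟩ := h.exists_A p.p0 v1 v2
    exact (p.mem_N_iff h ha.1).2 (p.mem_of_sq ha ((c.co.sq a ha.1).1 e))
  all_goals obtain ⟨b, hb, rfl⟩ := (WA.mem_Bbar c).1 hg
  · obtain ⟨g, hg, rfl⟩ := c.mem_K.1 hk
    have hg' := mem_cent.1 (inv_mem (mem_cent.2 hg))
    have h1 := mem_cent.1 (mul_mem (mem_cent.2 hg) hs.2)
    have h2 := mem_cent.1 (mul_mem (mem_cent.2 h1) (mem_cent.2 hg'))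
    obtain ⟨y, hy, e1⟩ := p.coset ((c.r_eq_iff p.comm h2).1
      (by rw [c.r_mul h1 hg', c.r_mul hg p.comm, c.r_inv hg, h.eq, e, mul_inv_cancel_right]))
      (by rw [mul_inv_cancel_left]; exact isConj_conj p.conj g)
    have hy' := p.hyp.es.comm_z y hy
    have h3 := mem_cent.1 (mul_mem (mem_cent.2 hy') (mem_cent.2 hg))
    have h4 := mem_cent.1 (mul_mem (mem_cent.2 h3) hb.2)
    have h5 := mem_cent.1 (inv_mem (mem_cent.2 h3))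
    refine (WA.mem_Bbar c).2 ⟨y * g * b * (y * g)⁻¹, ⟨conj_mem_Qx (x := s) ?_ hb.1,
      mul_mem (mem_cent.2 h4) (mem_cent.2 h5)⟩, ?_⟩
    · rw [mul_inv_cancel_left] at e1
      calc _ = y * (g * s * g⁻¹) * y⁻¹ := by group
        _ = _ := by rw [← e1]; group
    · rw [c.r_mul h4 h5, c.r_mul h3 (mem_cent.1 hb.2), c.r_inv h3, c.r_mul hy' hg,
        (c.r_eq_one hy').2 hy, one_mul]
  · intro h1 h2
    rw [← c.r_mul (mem_cent.1 hb.2) (mem_cent.1 hb.2), p.sq' hb (nb b hb h1 h2).1 (nb b hb h1 h2).2, h.eq]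
  · obtain ⟨d, hd, e⟩ := p.exists_lift h (ln1 n w)
    obtain ⟨d', hd', e'⟩ := p.exists_lift h (ln2 n w)
    exact ⟨e ▸ p.fix_D c hb hd, e' ▸ p.fix_D c hb hd'⟩
  · intro v v1 v2
    obtain ⟨d, hd, e⟩ := h.mov_D p.p0 hb v1 v2
    exact e ▸ h.D_mem p.p0 hd
  · exact fun h1 h2 v => p.rank' h hb (nb b hb h1 h2).1 (nb b hb h1 h2).2

end T3

end CfsgLib.LXQ
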