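import Cfsg.Agent.Lib.LXQ.Defs
import Cfsg.Agent.Lib.ONan.Invol
import Cfsg.Agent.Lib.ClassSz.Isaacs
import Cfsg.Agent.Lib.C3.BasicA
import Cfsg.Agent.Lib.Coprime.Glauberman

/-! plans/LXQ.md, package A57: not all pairs are of type (2) -/

set_option autoImplicit false
set_option linter.unusedSectionVars false

namespace CfsgLib.LXQ

open Subgroup QuadraticMap Module CfsgLib.ExtraTwo CfsgLib.LargeExtra CfsgLib.OrthE CfsgLib.W4

variable {G : Type*} [Group G] [Finite G]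

/-- `F = C(A)` -/
noncomputable abbrev FF (x y : G) : Subgroup G := centralizer (AA x y : Set G)

theorem comm_of_sq {A : Subgroup G} (h : ∀ a ∈ A, a * a = 1) {a b : G} (ha : a ∈ A) (hb : b ∈ A) :
    a * b = b * a := by
  rw [← inv_eq_of_mul_eq_one_right (h _ (mul_mem ha hb)), mul_inv_rev,
    inv_eq_of_mul_eq_one_right (h a ha), inv_eq_of_mul_eq_one_right (h b hb)]

namespace T2

variable {x y : G} (p : T2 x y)
include p

theorem x_mem : x ∈ AA x y := ⟨p.hyp.es.mem, mem_cent.2 p.comm.symm⟩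

theorem A_le : AA x y ≤ FF x y := fun _ ha =>
  mem_centralizer_iff.2 fun _ hb => comm_of_sq p.sq hb ha

theorem B_le : AA y x ≤ FF x y := fun b hb => mem_centralizer_iff.2 fun a ha => p.commAB a ha b hb

theorem rel : (AA x y).relIndex (Qx x) = 8 := by
  have := Tech.card_mul_relIndex' (inf_le_left : AA x y ≤ Qx x)
  rw [p.hyp.card] at this
  have h := p.cardA
  change Nat.card (AA x y) * (AA x y).relIndex (Qx x) = 128 at this
  rw [h] at this
  omega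

theorem Q_le : Qx x ≤ normalizer (FF x y : Set G) := fun q hq => by
  suffices h : q ∈ normalizer (AA x y : Set G) by
    rw [Tech.mem_normalizer_iff_cj, Tech.cj_centralizer, Tech.mem_normalizer_iff_cj.1 h]
  refine Tech.mem_normalizer_of_forall fun a ha => ?_
  rcases p.hyp.es.conj ha.1 hq with e | e <;> rw [e]
  exacts [ha, mul_mem ha p.x_mem]

variable (p' : T2 y x)
include p'

theorem card_sup : Nat.card (AA x y ⊔ AA y x : Subgroup G) = 128 := by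
  have h1 := Coprime.card_sup_mul_card_inf (p.B_le.trans (centralizer_le_normalizer _))
  have h2 : AA x y ⊓ AA y x = DD x y := le_antisymm (inf_le_inf inf_le_left inf_le_left)
    (le_inf (inf_le_inf_left _ p'.hyp.pre.le_cent)
      (le_inf inf_le_right (inf_le_left.trans p.hyp.pre.le_cent)))
  rw [h2, p.cardA, p'.cardA, p.cardD] at h1
  omega

theorem F_eq : FF x y = AA x y ⊔ AA y x :=
  (eq_of_le_of_card_ge (sup_le p.A_le p.B_le) (p.card_sup p' ▸ p.cardC)).symm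

theorem F_symm : FF x y = FF y x := by rw [p.F_eq p', p'.F_eq p, sup_comm]

theorem F_sq : ∀ a ∈ FF x y, a * a = 1 := fun a ha => by
  rw [p.F_eq p', Coprime.mem_sup_iff_of_le_normalizer
    (p.B_le.trans (centralizer_le_normalizer _))] at ha
  obtain ⟨u, hu, v, hv, rfl⟩ := ha
  rw [mul_assoc, ← mul_assoc v, ← p.commAB u hu v hv, mul_assoc, p'.sq v hv, mul_one, p.sq u hu]

theorem F_inf {a : G} (ha : a ∈ FF x y) (hq : a ∈ Qx x) : a ∈ AA x y :=
  ⟨hq, mem_cent.2 (comm_of_sq (p.F_sq p') ha (p.B_le p'.x_mem))⟩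

end T2

/-- the conjugates of `z` in `F` -/
def Om (z s : G) : Set G := {x | IsConj z x ∧ x ∈ FF z s}

/-- all pairs are of type (2) -/
structure AT (z s : G) : Prop extends WA z s where
  all : ∀ x y, IsConj z x → WA x y → T2 x y

namespace AT

variable {z s x y y' : G} (p : AT z s)
include p

theorem t : T2 z s := p.all z s (IsConj.refl z) p.toWA

theorem t' : T2 s z := p.all s z p.conj p.symm

theorem sq : ∀ a ∈ FF z s, a * a = 1 := p.t.F_sq p.t'

theorem zΩ : z ∈ Om z s := ⟨IsConj.refl z, p.t.A_le p.t.x_mem⟩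

theorem sΩ : s ∈ Om z s := ⟨p.conj, p.t.B_le p.t'.x_mem⟩

theorem wa (hx : x ∈ Om z s) (hy : y ∈ Om z s) (hn : y ≠ x) : T2 x y :=
  p.all x y hx.1 (p.of hx.1 hy.1 (comm_of_sq p.sq hy.2 hx.2) hn)

theorem step (hx : x ∈ Om z s) (hy : y ∈ Om z s) (hy' : y' ∈ Om z s) (h1 : y ≠ x) (h2 : y' ≠ x)
    (e : FF x y = FF z s) : AA x y = AA x y' :=
  eq_of_le_of_card_ge
    (fun _ ha => ⟨ha.1, mem_cent.2 (comm_of_sq p.sq (e.le ((p.wa hx hy h1).A_le ha)) hy'.2)⟩)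
    (by rw [(p.wa hx hy h1).cardA, (p.wa hx hy' h2).cardA])

theorem ex (hx : x ∈ Om z s) : ∃ y ∈ Om z s, y ≠ x ∧ FF x y = FF z s := by
  by_cases e : x = z
  · exact ⟨s, p.sΩ, e ▸ p.ne, e ▸ rfl⟩
  · exact ⟨z, p.zΩ, Ne.symm e, by
      rw [(p.wa hx p.zΩ (Ne.symm e)).F_symm (p.wa p.zΩ hx e), FF,
        ← p.step p.zΩ p.sΩ hx p.ne e rfl]⟩

theorem QN (hx : x ∈ Om z s) : Qx x ≤ normalizer (FF z s : Set G) := by
  obtain ⟨y, hy, hn, e⟩ := p.ex hx
  exact e ▸ (p.wa hx hy hn).Q_le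

omit p in
theorem inv {g : G} (hg : g ∈ normalizer (FF z s : Set G)) (hy : y ∈ Om z s) :
    g * y * g⁻¹ ∈ Om z s := ⟨isConj_conj hy.1 g, Tech.conj_mem_of_mem_normalizer hg hy.2⟩

theorem dvd (hx : x ∈ Om z s) {S : Set G} (hS : S ⊆ Om z s) (hn : x ∉ S)
    (hq : ∀ q ∈ Qx x, ∀ y ∈ S, q * y * q⁻¹ ∈ S) : 8 ∣ S.ncard := by
  obtain ⟨y, hy, hy', e⟩ := p.ex hx
  rw [← (p.wa hx hy hy').rel]
  refine ONan.relIndex_dvd_ncard_conj hq fun q hq' u hu hc => ?_
  rw [p.step hx hy (hS hu) hy' (fun e => hn (e ▸ hu)) e]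
  exact ⟨hq', mem_cent.2 hc.symm⟩

theorem conj_ne {q u : G} (hq : q ∈ Qx z) (hu : u ≠ z) : q * u * q⁻¹ ≠ z := fun e =>
  hu (mul_left_cancel (mul_right_cancel (e.trans (conj_eq_of_comm (p.hyp.es.comm_z q hq)).symm)))

/-- the orbit of `z` under `N(F)` -/
theorem orb : {u | ∃ g ∈ normalizer (FF z s : Set G), g * z * g⁻¹ = u} = Om z s := by
  set O := {u | ∃ g ∈ normalizer (FF z s : Set G), g * z * g⁻¹ = u}
  have h1 : O ⊆ Om z s := by rintro _ ⟨g, hg, rfl⟩; exact inv hg p.zΩ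
  have h2 : ∀ g ∈ normalizer (FF z s : Set G), ∀ u ∈ O, g * u * g⁻¹ ∈ O := by
    rintro g hg _ ⟨k, hk, rfl⟩
    exact ⟨g * k, mul_mem hg hk, by group⟩
  refine h1.antisymm fun y hy => by_contra fun hn => ?_
  have h3 := p.dvd hy h1 hn fun q hq => h2 q (p.QN hy hq)
  have h4 := p.dvd p.zΩ (S := O \ {z}) (Set.sdiff_subset.trans h1) (fun e => e.2 rfl)
    fun q hq u hu => ⟨h2 q (p.QN p.zΩ hq) u hu.1, p.conj_ne hq hu.2⟩
  have h5 := Set.ncard_sdiff_singleton_add_one (show z ∈ O from ⟨1, one_mem _, by simp⟩)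
  omega

theorem fib (hx : x ∈ Om z s \ {z}) :
    {y ∈ Om z s \ {z} | (y : G ⧸ AA z s) = x}.ncard = 8 := by
  have tx := p.wa p.zΩ hx.1 hx.2
  have h1 := p.dvd p.zΩ (S := {y ∈ Om z s \ {z} | (y : G ⧸ AA z s) = x}) (fun y hy => hy.1.1)
    (fun e => e.1.2 rfl) fun q hq y hy => by
      have h2 := inv (p.QN p.zΩ hq) hy.1.1
      refine ⟨⟨h2, p.conj_ne hq hy.1.2⟩, Eq.trans ?_ hy.2⟩
      refine (QuotientGroup.eq.2 (p.t.F_inf p.t' (mul_mem (inv_mem hy.1.1.2) h2.2) ?_)).symm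
      have := p.hyp.pre.norm y⁻¹ (comm_of_sq p.sq (inv_mem hy.1.1.2) p.zΩ.2) q hq
      simpa [mul_assoc] using mul_mem this (inv_mem hq)
  obtain ⟨d, hd⟩ : ∃ d : DD z x, d ≠ 1 :=
    have := Finite.one_lt_card_iff_nontrivial.1 (tx.cardD ▸ one_lt_two)
    exists_ne 1
  have dA : (d : G) ∈ AA z s := by
    rw [p.step p.zΩ p.sΩ hx.1 p.ne hx.2 rfl]
    exact ⟨d.2.1, (p.hyp.conj hx.1.1).pre.le_cent d.2.2⟩
  have h3 : {y ∈ Om z s \ {z} | (y : G ⧸ AA z s) = x} ⊂ (fun a => x * a) '' (AA z s : Set G) := by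
    refine ⟨fun y hy => ⟨_, QuotientGroup.eq.1 hy.2.symm, by simp⟩, fun hh => hd (Subtype.ext ?_)⟩
    exact tx.toWA.wp.eq_one_of_conj d.2.2 (hh ⟨d, dA, rfl⟩).1.1.1
  have h4 := Set.ncard_lt_ncard h3
  have h6 : (AA z s : Set G).ncard = 16 := p.t.cardA
  rw [Set.ncard_image_of_injective _ (mul_right_injective x), h6] at h4
  have h5 := (Set.ncard_pos (s := {y ∈ Om z s \ {z} | (y : G ⧸ AA z s) = x})).2 ⟨x, hx, rfl⟩
  omega

theorem sum : (Om z s \ {z}).ncard = 8 * (((↑) : G → G ⧸ AA z s) '' (Om z s \ {z})).ncard := by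
  classical
  have hfin := Set.toFinite (Om z s \ {z})
  rw [Set.ncard_eq_toFinset_card _ hfin, Finset.card_eq_sum_card_image ((↑) : G → G ⧸ AA z s),
    Finset.sum_const_nat (m := 8), mul_comm, ← Set.ncard_coe_finset, Finset.coe_image,
    Set.Finite.coe_toFinset]
  intro c hc
  obtain ⟨x, hx, rfl⟩ := Finset.mem_image.1 hc
  rw [← p.fib (hfin.mem_toFinset.1 hx), ← Set.ncard_coe_finset, Finset.coe_filter]
  simp only [Set.Finite.mem_toFinset]

theorem up : (((↑) : G → G ⧸ AA z s) '' (Om z s \ {z})).ncard ≤ 7 := by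
  have h1 : ((1 : G) : G ⧸ AA z s) ∉ ((↑) : G → G ⧸ AA z s) '' (Om z s \ {z}) := by
    rintro ⟨y, hy, e⟩
    exact hy.2 (p.wc y (by simpa using (QuotientGroup.eq.1 e.symm).1) hy.1.1)
  have h2 : QuotientGroup.mk ⁻¹' insert ((1 : G) : G ⧸ AA z s)
      (((↑) : G → G ⧸ AA z s) '' (Om z s \ {z})) ⊆ (FF z s : Set G) := by
    rintro y (e | ⟨x, hx, e⟩)
    · exact p.t.A_le (one_mul y ▸ inv_one (G := G) ▸ QuotientGroup.eq.1 e.symm)
    · exact mul_inv_cancel_left x y ▸ mul_mem hx.1.2 (p.t.A_le (QuotientGroup.eq.1 e))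
  have h3 := Set.ncard_le_ncard h2
  rw [← Nat.card_coe_set_eq, QuotientGroup.card_preimage_mk, p.t.cardA, Nat.card_coe_set_eq,
    Set.ncard_insert_of_notMem h1] at h3
  have h4 : (FF z s : Set G).ncard ≤ 128 := p.t.cardC
  omega

theorem low : 7 ≤ (((↑) : G → G ⧸ AA z s) '' (Om z s \ {z})).ncard := by
  set O := {u | ∃ g ∈ Qx s, g * z * g⁻¹ = u}
  have h1 : O.ncard = 8 := by
    rw [← ClassSz.relIndex_cent_eq_ncard, ← inf_relIndex_left, p.t'.rel]
  have h2 : O ⊆ Om z s := by rintro _ ⟨g, hg, rfl⟩; exact inv (p.QN p.sΩ hg) p.zΩ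
  have h3 : Set.InjOn ((↑) : G → G ⧸ AA z s) O := by
    rintro _ ⟨g, hg, rfl⟩ _ ⟨k, hk, rfl⟩ e
    have w := p.symm.wp
    have h4 : (g * z * g⁻¹)⁻¹ * (k * z * k⁻¹) ∈ Qx z := (QuotientGroup.eq.1 e).1
    have h5 : g⁻¹ * ((g * z * g⁻¹)⁻¹ * (k * z * k⁻¹)) * g⁻¹⁻¹ = nn z (k⁻¹ * g) := by
      rw [nn, mul_inv_rev (g * z), mul_inv_rev g, p.hyp.es.inv_eq]; group
    have h6 : (g * z * g⁻¹)⁻¹ * (k * z * k⁻¹) ∈ Qx s := by
      have := mul_mem (mul_mem hg (h5 ▸ w.nn_mem (mul_mem (inv_mem hk) hg))) (inv_mem hg)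
      simpa [mul_assoc] using this
    refine inv_mul_eq_one.1 (w.D_inf_N p.t'.phi h4 (mul_mem (inv_mem hk) hg) ?_)
    rcases w.h0.es.conj h6 (inv_mem hg) with e | e <;> rw [h5] at e
    · exact .inl e.symm
    · exact .inr (by rw [e, w.h0.es.zz'])
  have h5 := Set.ncard_sdiff_singleton_add_one (show z ∈ O from ⟨1, one_mem _, by simp⟩)
  have h6 := Set.ncard_le_ncard (Set.image_mono (f := ((↑) : G → G ⧸ AA z s))
    (Set.sdiff_subset_sdiff_left (t := {z}) h2))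
  rw [(h3.mono Set.sdiff_subset).ncard_image] at h6
  omega

theorem false : False := by
  have h57 := Set.ncard_sdiff_singleton_add_one p.zΩ
  have h19 : 19 ∣ Nat.card (normalizer (FF z s : Set G)) := by
    refine Dvd.dvd.trans ?_ (relIndex_dvd_card (CC z) _)
    rw [ClassSz.relIndex_cent_eq_ncard, p.orb]
    have := p.sum
    have := p.up
    have := p.low
    omega
  have := Fact.mk (by norm_num : Nat.Prime 19)
  obtain ⟨g, hg⟩ := exists_prime_orderOf_dvd_card' 19 h19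
  have g19 : (g : G) ^ 19 = 1 := by rw [← coe_pow, ← hg, pow_orderOf_eq_one, coe_one]
  have h1 := C3.card_modEq_cent this.out g19 g.2
  have h2 : Nat.card (FF z s) = 2 ^ 7 := by rw [p.t.F_eq p.t', p.t.card_sup p.t']; rfl
  obtain ⟨j, hj, e⟩ := (Nat.dvd_prime_pow Nat.prime_two).1
    (h2 ▸ card_dvd_of_le (inf_le_left : FF z s ⊓ CC g ≤ FF z s))
  have h3 : FF z s ⊓ CC g = FF z s := eq_of_le_of_card_ge inf_le_left (by
    rw [h2, e] at h1
    rw [h2, e]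
    interval_cases j <;> first | rfl | exact absurd h1 (by decide))
  have h4 : (g : G) ∈ FF z s :=
    mem_centralizer_iff.2 fun a ha => mem_cent.1 (h3.ge (p.t.A_le ha)).2
  have h5 : orderOf g ∣ 2 :=
    orderOf_dvd_of_pow_eq_one (Subtype.ext (by simpa [pow_two] using p.sq g h4))
  rw [hg] at h5
  omega

end AT

theorem WA.not_t2 {z s : G} (p : WA z s) (h : ∀ x y, IsConj z x → WA x y → T2 x y) : False :=
  AT.false ⟨p, h⟩

end CfsgLib.LXQ
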