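import Cfsg.Agent.Lib.LXQ.Lin

/-! plans/LXQ.md, package B3: `dim (E t) = 2`, and the types t.s. and anisotropic -/

set_option autoImplicit false

namespace CfsgLib.LXQ

open QuadraticMap Module CfsgLib.ExtraTwo CfsgLib.OrthE CfsgLib.Small9

variable {q : QuadraticForm (ZMod 2) V}

local notation "β" => polar q
local notation "dim" => finrank (ZMod 2)

theorem bc {a b : V} {x : ZMod 2} (h : β a b = x) : β b a = x := by rwa [polar_comm]

theorem mem_span3 {a b c v : V} (h : v ∈ Submodule.span (ZMod 2) {a, b, c}) :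
    ∃ x y w : ZMod 2, v = x • a + y • b + w • c :=
  let ⟨x, y, w, e⟩ := Submodule.mem_span_triple.1 h; ⟨x, y, w, e.symm⟩

namespace LD

variable {K : Subgroup (O q)} {T : Set V} {E U : V → Sub} (h : LD q K T E U) {t t' : V}
include h

theorem dimU_eq (ht : t ∈ T) (ht' : t' ∈ T) : dim (U t) = dim (U t') := by
  have := h.dimEU t ht
  have := h.dimEU t' ht'
  have := h.dimE_eq ht ht'
  omega

/-- properties of `U t` are shared by all points -/
theorem transU (ht : t ∈ T) (ht' : t' ∈ T) :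
    ∃ g ∈ K, g.1 t' = t ∧ ∀ u ∈ U t', g.1 u ∈ U t :=
  let ⟨g, hg, e⟩ := h.tr t' ht' t ht; ⟨g, hg, e, fun u hu => e ▸ h.eqU g hg t' ht' u hu⟩

theorem moveT (ht : t ∈ T) (ht' : t' ∈ T) (hb : β t t' = 1) {u : V} (hu : u ∈ U t)
    (hu' : β u t' = 0) : t' + u + q u • t ∈ T :=
  h.move ht hb hu hu' ▸ h.inv _ (h.sieg t ht u hu) t' ht'

theorem three_a {s s' : V} (hs : s ∈ T) (hs' : s' ∈ T) (h2 : dim (E s) = 2) (hne : s' ≠ s)
    (hb : β s s' = 0) : False := by
  have d1 := h.dimEU s hs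
  have d2 := h.dimU_eq hs hs'
  have d3 := dim_inf_pv (q := q) (U s') s
  obtain ⟨w, ⟨hw, w1⟩, w0⟩ := exists_not_mem (S := U s' ⊓ pv q s) (k := 3) (by omega)
    [0, s, s', s + s'] (by simp)
  obtain ⟨e, he, e0⟩ := exists_not_mem h2.ge [0, s] (by simp)
  simp only [List.mem_cons, List.not_mem_nil, or_false, not_or] at w0 e0
  have w1 : β s w = 0 := w1
  have w2 := h.perp s' hs' w hw
  have hg := h.sieg s' hs' w hw
  have gs : (eich q s' w).1 s = s := eich_apply_of_orth hb w1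
  have s0 := h.ne s hs
  have s1 := h.ne s' hs'
  have hE : ∀ x ∈ E s, x = 0 ∨ x = s ∨ x = e ∨ x = s + e := fun x hx =>
    mem2 h2.le (h.tE s hs) he hx s0 e0.1 e0.2
  have ge : β e s' = 0 ∧ β e w = 0 := by
    have e1 := hE _ (gs ▸ h.eqE _ hg s hs e he)
    have e2 := g_ne_zero (eich q s' w) e0.1
    have e3 : (eich q s' w).1 e ≠ s := fun e3 => e0.2 ((eich q s' w).1.injective (e3.trans gs.symm))
    rw [eich_eq (h.qt hs') w2] at e1 e2 e3
    rcases zmod2_cases (β e s') with a | a <;> rcases zmod2_cases (β e w) with b | b <;>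
      rcases zmod2_cases (q w) with c | c <;> simp only [a, b, c, zero_smul, one_smul, mul_zero,
        mul_one] at e1 e2 e3 <;> grind
  have gE : ∀ x ∈ E s, β x s' = 0 ∧ β x w = 0 := fun x hx => by
    rcases hE x hx with rfl | rfl | rfl | rfl <;> simp [polar_add_left, hb, w1, ge]
  have key : ∀ {a b : V}, b ∉ Submodule.span (ZMod 2) {s, a} → (∀ x ∈ E s, β x a = 0 ∧ β x b = 0) →
      ∃ u ∈ U s, β u a = 0 ∧ β u b = 1 := fun {a b} hb hE => by
    obtain ⟨v, v1, v2⟩ := exists_sep h.nd hb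
    obtain ⟨x, hx, u, hu, rfl⟩ := h.sum hs (v1 s (Submodule.subset_span (by simp)))
    have v3 := v1 a (Submodule.subset_span (by simp))
    rw [polar_add_right, bc (hE x hx).1, zero_add] at v3
    rw [polar_add_right, bc (hE x hx).2, zero_add] at v2
    exact ⟨u, hu, bc v3, bc v2⟩
  obtain ⟨u, hu, u1, u2⟩ := key (a := s') (b := w) (by rw [mem_span2]; grind) gE
  obtain ⟨u', hu', u3, u4⟩ := key (a := w) (b := s') (by rw [mem_span2]; grind)
    fun x hx => (gE x hx).symm
  have m1 : s' ∈ U s := by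
    have := h.fixU hg hs gs hu
    rw [eich_eq (h.qt hs') w2, u1, u2] at this
    convert this using 1
    simp only [zero_smul, one_smul, mul_zero]
    grind
  have m2 : w ∈ U s := by
    have := (U s).add_mem (h.fixU hg hs gs hu') ((U s).smul_mem (q w) m1)
    rw [eich_eq (h.qt hs') w2, u3, u4] at this
    convert this using 1
    simp only [zero_smul, one_smul, mul_one]
    grind
  have m3 : e ∈ Submodule.span (ZMod 2) {s, s', w} := mem_of_perp h.nd (fun a ha b hb' => by
      obtain ⟨x, y, z, rfl⟩ := mem_span3 ha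
      obtain ⟨x', y', z', rfl⟩ := mem_span3 hb'
      simp [-polar_self, polar_add_left, polar_add_right, polar_smul_left, polar_smul_right, bself, hb,
        w1, w2, bc hb, bc w1, bc w2])
    (three_le_dim (Submodule.subset_span (by simp)) (Submodule.subset_span (by simp))
      (Submodule.subset_span (by simp)) s0 s1 hne w0.1 w0.2.1 w0.2.2.1 w0.2.2.2) fun a ha => by
      obtain ⟨x, y, z, rfl⟩ := mem_span3 ha
      simp [polar_add_left, polar_smul_left, h.bE hs (h.tE s hs) he, bc ge.1, bc ge.2]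
  obtain ⟨x, y, z, e1⟩ := mem_span3 m3
  exact (h.disj s hs e he (e1 ▸ (U s).add_mem ((U s).add_mem ((U s).smul_mem _ (h.tU s hs))
    ((U s).smul_mem _ m1)) ((U s).smul_mem _ m2))).elim e0.1 e0.2

theorem an1 {s s' a a' : V} (hs : s ∈ T) (hs' : s' ∈ T) (hb : β s s' = 1) (h3 : dim (E s) = 3)
    (qa : q a = 1) (qa' : q a' = 1) (hne : a' ≠ a) (ha : a ∈ U s) (ha1 : a ∈ U s') (ha' : a' ∈ U s)
    (ha2 : a' ∈ U s') : False := by
  have key : ∀ a ∈ U s, a ∈ U s' → q a = 1 → ∃ n ∈ K, n.1 s = s' ∧ n.1 s' = s ∧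
      ∀ x, β x s = 0 → β x s' = 0 → n.1 x = x + β x a • a := fun a h1 h2 qa => by
    have p1 := h.perp s hs a h1
    have p2 := h.perp s' hs' a h2
    have A1 := h.move hs hb h1 (bc p2)
    have B1 := h.move hs' (bc hb) h2 (bc p1)
    rw [qa, one_smul] at A1 B1
    have A2 : (eich q s a).1 a = a := eich_apply_of_orth (bc p1) (bself a)
    have B2 : (eich q s' a).1 a = a := eich_apply_of_orth (bc p2) (bself a)
    refine ⟨eich q s a * eich q s' a * eich q s a, K.mul_mem (K.mul_mem (h.sieg s hs a h1)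
      (h.sieg s' hs' a h2)) (h.sieg s hs a h1), ?_, ?_, fun x x1 x2 => ?_⟩
    · simp only [O_mul_apply, eich_apply_self, B1, map_add, A1, A2]
      grind
    · simp only [O_mul_apply, A1, map_add, eich_apply_self, B1, B2, A2]
      grind
    · simp only [O_mul_apply, eich_apply_of_orth_left (h.qt hs) p1 x1, map_add, map_smul, B1,
        eich_apply_of_orth_left (h.qt hs') p2 x2, eich_apply_self, A1, A2]
      rcases zmod2_cases (β x a) with e | e <;> simp only [e, zero_smul, one_smul, add_zero]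
      grind
  obtain ⟨n, hn, -, n2, n3⟩ := key a ha ha1 qa
  obtain ⟨n', hn', n1, -, n4⟩ := key a' ha' ha2 qa'
  have p1 := h.perp s' hs' a ha1
  have p2 := h.perp s' hs' a' ha2
  have z : ∀ {a : V}, q a = 1 → a ≠ 0 := fun h e => by simp [e] at h
  obtain ⟨e₀, he₀, e1, e2⟩ := h.dual hs h3 ha ha' (z qa) (fun e => by simp [e, bc hb] at p1) (z qa')
    (fun e => by simp [e, bc hb] at p2) hne (fun e => by simp [e, bc hb, polar_add_right, p1] at p2)
    1 0
  obtain ⟨e, he, e3, e4⟩ := h.lift hs hb (h.tE s hs) he₀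
  have e5 : β e a = 1 ∧ β e a' = 0 := by
    rcases e4 with rfl | rfl <;> simp [polar_add_left, e1, e2, h.perp s hs a ha, h.perp s hs a' ha']
  have e6 := h.bE hs he (h.tE s hs)
  have := h.sing s hs _ (h.fixE (K.mul_mem hn hn') hs (by rw [O_mul_apply, n1, n2]) he)
  rw [O_mul_apply, n4 e e6 e3, e5.2, zero_smul, add_zero, n3 e e6 e3, e5.1, one_smul,
    show e + a + e = a by grind, qa] at this
  exact one_ne_zero this

variable (ht : t ∈ T) (ht' : t' ∈ T) (hb : polar q t t' = 1)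
include ht ht' hb

theorem three : dim (E t) ≠ 2 := by
  intro h2
  have d1 := h.dimEU t ht
  have d3 := dim_inf_pv (q := q) (U t) t'
  obtain ⟨w, ⟨hw, w1⟩, w0, qw⟩ := exists_sing (q := q) (S := U t ⊓ pv q t') (by omega)
  have w1 : β t' w = 0 := w1
  have := h.moveT ht ht' hb hw (bc w1)
  rw [qw, zero_smul, add_zero] at this
  exact h.three_a ht' this (h.dimE_eq ht ht' ▸ h2) (by grind)
    (by rw [polar_add_right, bself, w1, add_zero])

theorem ts (h3 : dim (E t) = 3) : ¬ ∀ u ∈ U t, q u = 0 := by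
  intro hU
  have d1 := h.dimEU t ht
  obtain ⟨g, hg, e⟩ := h.tr t ht t' ht'
  obtain ⟨w, hw, hw', w0⟩ : ∃ w ∈ U t, w ∈ U t' ∧ w ≠ 0 := by
    have := (CfsgLib.Orth.dickson_eq_one_iff_lag ((nondeg_iff q).1 h.nd)
      (.inr (by rw [dimV]; decide)) (U := U t) ⟨hU, by rw [dimV]; omega⟩ g).1
      ((CfsgLib.Orth.mem_commutator_iff_of_charTwo _ _ rfl g).1 (h.om hg))
    obtain ⟨w, ⟨h1, h2⟩, w0⟩ := exists_not_mem (S := U t ⊓ CfsgLib.Orth.act g (U t)) (k := 1) (by
      by_contra hc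
      rw [show dim (U t) = 3 by omega, show dim (U t ⊓ CfsgLib.Orth.act g (U t) : Sub) = 0 by omega]
        at this
      exact absurd this (by decide)) [0] (by simp)
    obtain ⟨u, hu, rfl⟩ := CfsgLib.Orth.mem_act.1 h2
    exact ⟨_, h1, e ▸ h.eqU g hg t ht u hu, by simpa using w0⟩
  have w1 := h.perp t ht w hw
  have w2 := h.perp t' ht' w hw'
  have d3 := dim_inf_pv (q := q) (U t) t'
  obtain ⟨v, ⟨hv, v1⟩, v0⟩ := exists_not_mem (S := U t ⊓ pv q t') (k := 2) (by omega) [0, w] (by simp)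
  simp only [List.mem_cons, List.not_mem_nil, or_false, not_or] at v0
  have v1 : β t' v = 0 := v1
  have m := h.move ht' (bc hb) hw' (bc w1)
  rw [hU w hw, zero_smul, add_zero] at m
  have hT : t + w ∈ T := m ▸ h.inv _ (h.sieg t' ht' w hw') t ht
  have hv' := h.eqU _ (h.sieg t' ht' w hw') t ht v hv
  rw [m, eich_apply_of_orth (bc v1) (bsing hU hv hw)] at hv'
  have v2 : v ≠ t := fun e => by simp [e, bc hb] at v1
  obtain ⟨x, hx, x1, x2⟩ := h.dual ht h3 hw hv w0 (fun e => by simp [e, bc hb] at w2) v0.1 v2 v0.2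
    (fun e => by simp [e, bc hb, polar_add_right, w2] at v1) 1 0
  have := h.fixE (h.sieg _ hT v hv') ht (eich_apply_of_orth
    (by rw [polar_add_right, bself, w1, add_zero]) (h.perp t ht v hv)) hx
  rw [eich_eq (h.qt hT) (h.perp _ hT v hv'), polar_add_right, h.bE ht hx (h.tE t ht), x1, x2,
    hU v hv] at this
  simp only [zero_smul, one_smul, zero_mul, add_zero, zero_add] at this
  exact (h.disj t ht v (by convert this using 1; grind) hv).elim v0.1 v2

theorem an (h3 : dim (E t) = 3) : ¬ ∀ u ∈ U t, q u = 0 → u = 0 ∨ u = t := by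
  intro hU
  have hU' : ∀ u ∈ U t', q u = 0 → u = 0 ∨ u = t' := fun u hu qu => by
    obtain ⟨g, -, e, hg⟩ := h.transU ht ht'
    rcases hU _ (hg u hu) (by rwa [O_map]) with e1 | e1
    · exact .inl (by simpa using e1)
    · exact .inr (g.1.injective (e1.trans e.symm))
  have d1 := h.dimEU t ht
  have d2 := h.dimU_eq ht ht'
  have d3 := dim_inf_pv (q := q) (U t) t'
  have d4 := dim_inf_pv (q := q) (U t') t
  have d5 : dim (U t ⊓ pv q t' : Sub) < dim (U t) := dim_lt inf_le_left (h.tU t ht) fun e => by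
    simpa [bc hb] using mem_pv.1 e.2
  have ns : ∀ u ∈ U t ⊓ pv q t', u ≠ 0 → q u = 1 := fun u hu u0 => zmod2_ne_zero.1 fun e =>
    (hU u hu.1 e).elim u0 fun e => by simpa [e, bc hb] using mem_pv.1 hu.2
  have ns' : ∀ u ∈ U t' ⊓ pv q t, u ≠ 0 → q u = 1 := fun u hu u0 => zmod2_ne_zero.1 fun e =>
    (hU' u hu.1 e).elim u0 fun e => by simpa [e, hb] using mem_pv.1 hu.2
  have key : ∀ x, q x = 1 → β t x = 0 → β x t' = 0 → x ∉ U t → ∀ u ∈ U t ⊓ pv q t', β u x = 0 := by
    intro x qx x1 x2 x3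
    obtain ⟨e, he, u, hu, u1, rfl⟩ : ∃ e ∈ E t, ∃ u ∈ U t, β u t' = 0 ∧ e + u = x := by
      obtain ⟨e, he, u, hu, rfl⟩ := h.sum ht x1
      obtain ⟨u', hu', u1, rfl | rfl⟩ := h.lift ht hb (h.tU t ht) hu
      · exact ⟨e, he, _, hu', u1, rfl⟩
      · exact ⟨e + t, (E t).add_mem he (h.tE t ht), _, hu', u1, by grind⟩
    have hu' : u ∈ U t ⊓ pv q t' := ⟨hu, bc u1⟩
    rw [polar_add_left, u1, add_zero] at x2
    rw [qadd, h.sing t ht e he] at qx
    have u0 : u ≠ 0 := fun e => by simp [e] at qx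
    rw [ns u hu' u0] at qx
    have e1 : β e u = 0 := by grind
    obtain ⟨v, hv, v0⟩ := exists_not_mem (S := U t ⊓ pv q t') (k := 2) (by omega) [0, u] (by simp)
    simp only [List.mem_cons, List.not_mem_nil, or_false, not_or] at v0
    have cs := fun {y} hy => mem2 (S := U t ⊓ pv q t') (by omega) hu' hv (v := y) hy u0 v0.1 v0.2
    have e2 : β u v = 1 := by
      have := ns _ (Submodule.add_mem _ hu' hv) (by grind)
      rw [qadd, ns u hu' u0, ns v hv v0.1] at this
      grind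
    have e3 : β e v = 1 := by
      refine zmod2_ne_zero.1 fun e3 => ?_
      rcases eq_of_perp h.nd (t := t) (x := e) fun y hy => by
        obtain ⟨e', he', u', hu', rfl⟩ := h.sum ht hy
        obtain ⟨u'', h1, h2, h3⟩ := h.lift ht hb (h.tU t ht) hu'
        have : β e u'' = 0 := by
          rcases cs ⟨h1, bc h2⟩ with rfl | rfl | rfl | rfl <;> simp [polar_add_right, e1, e3]
        rw [polar_add_right, h.bE ht he he', zero_add]
        rcases h3 with rfl | rfl
        · exact this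
        · rwa [polar_add_right, h.bE ht he (h.tE t ht), add_zero] at this with rfl | rfl
      · exact x3 (by simpa)
      · simp [hb] at x2
    intro y hy
    rcases cs hy with rfl | rfl | rfl | rfl <;>
      simp [-polar_self, polar_add_left, polar_add_right, bc e1, bc e2, bc e3, bself, add_self_zmod2]
  have two : ∀ S : Sub, 2 ≤ dim S → ∃ a ∈ S, ∃ a' ∈ S, a ≠ 0 ∧ a' ≠ 0 ∧ a' ≠ a := fun S hS => by
    obtain ⟨a, ha, a0⟩ := exists_not_mem hS [0] (by simp)
    obtain ⟨a', ha', a1⟩ := exists_not_mem hS [0, a] (by simp)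
    simp only [List.mem_cons, List.not_mem_nil, or_false, not_or] at a0 a1
    exact ⟨a, ha, a', ha', a0, a1.1, a1.2⟩
  by_cases hc : ∀ w ∈ U t' ⊓ pv q t, w ∈ U t
  · obtain ⟨a, ha, a', ha', a0, a1, a2⟩ := two (U t' ⊓ pv q t) (by omega)
    exact h.an1 ht ht' hb h3 (ns' a ha a0) (ns' a' ha' a1) a2 (hc a ha) ha.1 (hc a' ha') ha'.1
  push Not at hc
  obtain ⟨w, hw, w1⟩ := hc
  have qw := ns' w hw fun e => w1 (e ▸ Submodule.zero_mem _)
  have w2 := key w qw hw.2 (bc (h.perp t' ht' w hw.1)) w1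
  obtain ⟨a, ha, a', ha', a0, a1, a2⟩ := two (U t ⊓ pv q t') (by omega)
  have hg := h.sieg t' ht' w hw.1
  have k : ∀ a ∈ U t ⊓ pv q t', a ∈ U ((eich q t' w).1 t) := fun a ha => by
    have := h.eqU _ hg t ht a ha.1
    rwa [eich_apply_of_orth (x := a) (bc ha.2) (w2 a ha)] at this
  refine h.an1 ht (h.inv _ hg t ht) ?_ h3 (ns a ha a0) (ns a' ha' a1) a2 ha.1 (k a ha) ha'.1 (k a' ha')
  rw [h.move ht' (bc hb) hw.1 (bc hw.2), qw, one_smul, polar_add_right, polar_add_right, bself, hb,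
    show β t w = 0 from hw.2]
  rfl

end LD

end CfsgLib.LXQ
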