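import Cfsg.Agent.Lib.LXQ.B3

/-! plans/LXQ.md, package B4: the types isotropic and hyperbolic; `E t = ⟨t⟩` -/

set_option autoImplicit false

namespace CfsgLib.LXQ

open QuadraticMap Module CfsgLib.ExtraTwo CfsgLib.OrthE CfsgLib.Small9

variable {q : QuadraticForm (ZMod 2) V}

local notation "β" => polar q
local notation "dim" => finrank (ZMod 2)

namespace LD

variable {K : Subgroup (O q)} {T : Set V} {E U : V → Sub} (h : LD q K T E U) {t t' : V}
include h

section li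
variable (h3 : ∀ p ∈ T, finrank (ZMod 2) (E p) = 3)
  (hi : ∀ p ∈ T, ∀ u ∈ U p, ∀ w ∈ U p, polar q u w = 0)
include h3 hi

theorem li_sn (hn : ∀ p ∈ T, ∃ n ∈ U p, q n = 1) {p p' : V} (hp : p ∈ T) (hb : β p p' = 1) :
    ∃ s ∈ U p, ∃ n ∈ U p, β s p' = 0 ∧ β n p' = 0 ∧ s ≠ 0 ∧ q s = 0 ∧ q n = 1 := by
  obtain ⟨n₀, h0, q0⟩ := hn p hp
  obtain ⟨n, h1, n1, e⟩ := h.lift hp hb (h.tU p hp) h0
  have qn : q n = 1 := by
    rcases e with rfl | rfl
    · exact q0
    · rw [qadd, q0, h.qt hp, hi p hp _ h0 _ (h.tU p hp), add_zero, add_zero]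
  have d1 := h.dimEU p hp
  have d2 := h3 p hp
  have d3 := dim_inf_pv (q := q) (U p) p'
  obtain ⟨u, ⟨hu, u1⟩, u0⟩ := exists_not_mem (S := U p ⊓ pv q p') (k := 2) (by omega) [0, n] (by simp)
  simp only [List.mem_cons, List.not_mem_nil, or_false, not_or] at u0
  have u1 : β u p' = 0 := bc u1
  rcases zmod2_cases (q u) with e | e
  · exact ⟨u, hu, n, h1, u1, n1, u0.1, e, qn⟩
  · exact ⟨u + n, (U p).add_mem hu h1, n, h1, by rw [polar_add_left, u1, n1, add_zero], n1,
      by grind, by rw [qadd, e, qn, hi p hp _ hu _ h1]; rfl, qn⟩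

theorem li1 {p p' s n s' : V} (hp : p ∈ T) (hp' : p' ∈ T) (hb : β p p' = 1) (hs : s ∈ U p)
    (hn : n ∈ U p) (hs' : s' ∈ U p') (s1 : β s p' = 0) (n1 : β n p' = 0) (s2 : β s' p = 0)
    (s0 : s ≠ 0) (s0' : s' ≠ 0) (qs : q s = 0) (qs' : q s' = 0) (qn : q n = 1) :
    β s s' = 0 ∧ β n s' = 1 := by
  have hg := h.sieg p' hp' s' hs'
  have m := h.move hp' (bc hb) hs' s2
  rw [qs', zero_smul, add_zero] at m
  have hT : p + s' ∈ T := m ▸ h.inv _ hg p hp
  have k : ∀ u ∈ U p, β u p' = 0 → β u s' = 0 → u ∈ U (p + s') := fun u hu u1 u2 => by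
    have := h.eqU _ hg p hp u hu
    rwa [m, eich_apply_of_orth u1 u2] at this
  have fx : ∀ u ∈ U p, (eich q (p + s') u).1 p = p := fun u hu =>
    eich_apply_of_orth (by rw [polar_add_right, bself, bc s2, add_zero]) (h.perp p hp u hu)
  have e1 : β s s' = 0 := by
    refine (zmod2_cases _).resolve_right fun e1 => ?_
    obtain ⟨m, hm, m1, m2, m3⟩ : ∃ m ∈ U p, β m p' = 0 ∧ β m s' = 0 ∧ q m = 1 := by
      rcases zmod2_cases (β n s') with e | e
      · exact ⟨n, hn, n1, e, qn⟩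
      · exact ⟨n + s, (U p).add_mem hn hs, by rw [polar_add_left, n1, s1, add_zero],
          by rw [polar_add_left, e, e1]; rfl, by rw [qadd, qn, qs, hi p hp _ hn _ hs]; rfl⟩
    have hm' := k m hm m1 m2
    have := (U p).add_mem (h.fixU (h.sieg _ hT m hm') hp (fx m hm) hs)
      ((U p).add_mem hm (h.tU p hp))
    rw [eich_eq (h.qt hT) (h.perp _ hT m hm'), hi p hp _ hs _ hm, polar_add_right,
      hi p hp _ hs _ (h.tU p hp), e1, m3] at this
    simp only [zero_smul, one_smul, mul_one, add_zero, zero_add] at this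
    rw [hi p hp _ hs s' (by convert this using 1; grind)] at e1
    exact zero_ne_one e1
  refine ⟨e1, (zmod2_cases _).resolve_left fun e2 => ?_⟩
  have d1 := h.dimEU p hp
  have d2 := h3 p hp
  have pb : ∀ {x}, β x p' = 0 → x ≠ p := fun hx e => by simp [e, hb] at hx
  have qz : ∀ {x}, q x = 0 → n ≠ x := fun hx e => by simp [← e, qn] at hx
  have hs2 : s' ∈ U p := mem_of_perp h.nd (hi p hp) (by omega) fun v hv => by
    obtain ⟨x, y, w, rfl⟩ := mem3 (by omega) (h.tU p hp) hs hn hv (h.ne p hp) s0 (pb s1)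
      (qz q.map_zero) (pb n1) (qz qs) (qz (by rw [qadd, qs, h.qt hp, h.perp p hp s hs]; rfl))
    simp [polar_add_left, polar_smul_left, bc s2, e1, e2]
  have s3 : s' ≠ p := pb (bc (h.perp p' hp' s' hs'))
  obtain ⟨e, he, e3, e4⟩ := h.dual hp d2 hs2 hn s0' s3 (qz q.map_zero) (pb n1) (qz qs')
    (qz (h.qt hT)) 0 1
  have hn' := k n hn n1 e2
  have := (E p).add_mem (h.fixE (h.sieg _ hT n hn') hp (fx n hn) he) (h.tE p hp)
  rw [eich_eq (h.qt hT) (h.perp _ hT n hn'), e4, polar_add_right, h.bE hp he (h.tE p hp), e3] at this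
  simp only [zero_smul, one_smul, mul_zero, add_zero] at this
  exact (h.disj p hp s' (by convert this using 1; grind) hs2).elim s0' s3

end li

section hy
variable (h3 : ∀ p ∈ T, finrank (ZMod 2) (E p) = 3)
  (hh : ∀ p ∈ T, ∃ a ∈ U p, ∃ b ∈ U p, q a = 0 ∧ q b = 0 ∧ polar q a b = 1)
include h3

theorem hy_span {p a b u : V} (hp : p ∈ T) (ha : a ∈ U p) (hb : b ∈ U p) (e : β a b = 1)
    (hu : u ∈ U p) : ∃ x y w : ZMod 2, u = x • p + y • a + w • b := by
  have d1 := h.dimEU p hp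
  have d2 := h3 p hp
  have p1 := h.perp p hp a ha
  have p2 := h.perp p hp b hb
  refine mem3 (by omega) (h.tU p hp) ha hb hu (h.ne p hp) ?_ ?_ ?_ ?_ ?_ ?_ <;> rintro rfl <;>
    simp [-polar_self, bself, p2, bc p1, polar_add_right] at e

include hh

theorem hy0 {p : V} (hp : p ∈ T) : ∃ ν, (q ν = 1 ∧ ∀ u ∈ U p, β u ν = 0) ∧
    ∀ ν', q ν' = 1 → (∀ u ∈ U p, β u ν' = 0) → ν' = ν ∨ ν' = ν + p := by
  obtain ⟨a, ha, b, hb, qa, qb, e⟩ := hh p hp
  have p1 := h.perp p hp a ha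
  have p2 := h.perp p hp b hb
  have dl := h.dual hp (h3 p hp) ha hb (by rintro rfl; simp at e) (by rintro rfl; simp [p2] at e)
    (by rintro rfl; simp at e) (by rintro rfl; simp [bc p1] at e)
    (by rintro rfl; simp [-polar_self, bself] at e)
    (by rintro rfl; simp [-polar_self, bself, polar_add_right, bc p1] at e)
  obtain ⟨e₁, h1, a1, b1⟩ := dl 1 0
  obtain ⟨e₂, h2, a2, b2⟩ := dl 0 1
  have c1 := h.bE hp (h.tE p hp) h1
  have c2 := h.bE hp (h.tE p hp) h2
  have x1 : e₁ + b ∈ pp q (U p) := fun u hu => by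
    obtain ⟨x, y, w, rfl⟩ := h.hy_span h3 hp ha hb e hu
    simp [-polar_self, bself, polar_add_left, polar_add_right, polar_smul_left, c1, p2, bc a1, bc b1, e,
      add_self_zmod2]
  have x2 : e₂ + a ∈ pp q (U p) := fun u hu => by
    obtain ⟨x, y, w, rfl⟩ := h.hy_span h3 hp ha hb e hu
    simp [-polar_self, bself, polar_add_left, polar_add_right, polar_smul_left, c2, p1, bc a2, bc b2,
      bc e, add_self_zmod2]
  have x3 : p ∈ pp q (U p) := fun u hu => bc (h.perp p hp u hu)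
  have q1 : q (e₁ + b) = 0 := by rw [qadd, h.sing p hp _ h1, qb, b1]; rfl
  have q2 : q (e₂ + a) = 0 := by rw [qadd, h.sing p hp _ h2, qa, a2]; rfl
  have x4 : β (e₁ + b) (e₂ + a) = 1 := by
    rw [polar_add_left, polar_add_right, polar_add_right, h.bE hp h1 h2, a1, bc b2, bc e]; rfl
  have x5 : β p (e₁ + b) = 0 := x1 p (h.tU p hp)
  have x6 : β p (e₂ + a) = 0 := x2 p (h.tU p hp)
  generalize e₁ + b = x₁, e₂ + a = x₂ at *
  refine ⟨x₁ + x₂, ⟨by rw [qadd, q1, q2, x4]; rfl, Submodule.add_mem _ x1 x2⟩, fun ν qν hν => ?_⟩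
  have d1 := h.dimEU p hp
  have d2 := h3 p hp
  have d3 := dim_pp h.nd (U p)
  obtain ⟨x, y, w, rfl⟩ := mem3 (S := pp q (U p)) (by omega) x3 x1 x2 hν (h.ne p hp)
    (by rintro rfl; simp at x4) (by rintro rfl; simp [x6] at x4) (by rintro rfl; simp at x4)
    (by rintro rfl; simp [bc x5] at x4) (by rintro rfl; simp [-polar_self, bself] at x4)
    (by rintro rfl; simp [-polar_self, bself, polar_add_right, bc x5] at x4)
  simp only [qadd, Q_smul, h.qt hp, q1, q2, polar_add_left, polar_smul_left, polar_smul_right, x4, x5,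
    x6, smul_eq_mul, mul_zero, add_zero, zero_add, mul_one] at qν
  rcases zmod2_cases x with rfl | rfl <;> rcases zmod2_cases y with rfl | rfl <;>
    rcases zmod2_cases w with rfl | rfl <;> simp at qν ⊢
  grind

theorem hy1 {p p' ν : V} (hp : p ∈ T) (hp' : p' ∈ T) (hb : β p p' = 0) (qν : q ν = 1)
    (hν : ∀ u ∈ U p, β u ν = 0) : β p' ν = 0 := by
  by_cases e : p' = p
  · exact e ▸ hν p (h.tU p hp)
  have two : ∀ {p p'}, p ∈ T → (∀ w ∈ U p, β p' w = 0 → w = 0 ∨ w = p ∨ w = p' ∨ w = p + p') →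
      p' ∈ U p := fun {p p'} hp hc => by
    have d1 := h.dimEU p hp
    have d2 := h3 p hp
    have d3 := dim_inf_pv (q := q) (U p) p'
    obtain ⟨w, ⟨hw, w1⟩, w0⟩ := exists_not_mem (S := U p ⊓ pv q p') (k := 2) (by omega) [0, p]
      (by simp)
    simp only [List.mem_cons, List.not_mem_nil, or_false, not_or] at w0
    rcases hc w hw w1 with rfl | rfl | rfl | rfl
    · exact absurd rfl w0.1
    · exact absurd rfl w0.2
    · exact hw
    · exact (Submodule.add_mem_iff_right _ (h.tU p hp)).1 hw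
  by_cases hc : ∀ w ∈ U p', β p w = 0 → w = 0 ∨ w = p' ∨ w = p ∨ w = p' + p
  · refine hν p' (two hp fun w hw w1 => ?_)
    have m := two hp' hc
    obtain ⟨u, hu, u1⟩ : ∃ u ∈ U p', β u p = 1 := by
      obtain ⟨a, ha, b, hb', -, -, e1⟩ := hh p' hp'
      obtain ⟨x, y, w, e2⟩ := h.hy_span h3 hp' ha hb' e1 m
      have p0 := h.ne p hp
      have f1 : β a p = w := by
        simp [-polar_self, e2, bself, polar_add_right, polar_smul_right, bc (h.perp p' hp' a ha), e1]
      have f2 : β b p = y := by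
        simp [-polar_self, e2, bself, polar_add_right, polar_smul_right, bc (h.perp p' hp' b hb'),
          bc e1]
      rcases zmod2_cases w with rfl | rfl
      · rcases zmod2_cases y with rfl | rfl
        · rcases zmod2_cases x with rfl | rfl <;> simp at e2 <;> grind
        · exact ⟨b, hb', f2⟩
      · exact ⟨a, ha, f1⟩
    have w2 := h.perp p hp w hw
    have := (U p').add_mem (h.fixU (h.sieg p hp w hw) hp' (eich_apply_of_orth (bc hb) w1) hu)
      ((U p').smul_mem (β u w + q w) m)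
    rw [eich_eq (h.qt hp) w2, u1, one_smul, mul_one, add_smul] at this
    have := hc w (by convert this using 1; grind) w2
    grind
  push Not at hc
  obtain ⟨w, hw, w1, w0⟩ := hc
  have hg := h.sieg p' hp' w hw
  have gp : (eich q p' w).1 p = p := eich_apply_of_orth hb w1
  obtain ⟨μ, -, hμ⟩ := h.hy0 h3 hh hp
  have e1 := hμ ν qν hν
  have e2 := hμ ((eich q p' w).1 ν) (by rwa [O_map]) fun u hu => by
    rw [← O_polar_inv_left]
    exact hν _ (h.eqU' hg hp (gp.symm ▸ hu))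
  refine (zmod2_cases _).resolve_right fun e3 => ?_
  rw [eich_eq (h.qt hp') (h.perp p' hp' w hw), bc e3, one_smul, mul_one] at e2
  rcases zmod2_cases (β ν w) with a | a <;> rcases zmod2_cases (q w) with b | b <;>
    simp only [a, b, zero_smul, one_smul, add_zero] at e2 <;> grind

theorem hy_of {p p' ν : V} (hp : p ∈ T) (hp' : p' ∈ T) (hb : β p p' = 1) (h1 : β p ν = 0)
    (h2 : β p' ν = 0) (hT : ∀ s ∈ U p, p' + s ∈ T → β p' (p' + s) = 0 → β (p' + s) ν = 0) :
    ∀ u ∈ U p, β u ν = 0 := by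
  obtain ⟨a, ha, b, hb', qa, qb, e⟩ := hh p hp
  have k : ∀ a ∈ U p, q a = 0 → β a ν = 0 := fun a ha qa => by
    obtain ⟨s, hs, s1, e⟩ := h.lift hp hb (h.tU p hp) ha
    have qs : q s = 0 := by
      rcases e with rfl | rfl
      · exact qa
      · rw [qadd, qa, h.qt hp, bc (h.perp p hp a ha)]; rfl
    have := h.moveT hp hp' hb hs s1
    rw [qs, zero_smul, add_zero] at this
    have := hT s hs this (by rw [polar_add_right, bself, bc s1, add_zero])
    rw [polar_add_left, h2, zero_add] at this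
    rcases e with rfl | rfl
    · exact this
    · rwa [polar_add_left, h1, add_zero] at this
  intro u hu
  obtain ⟨x, y, w, rfl⟩ := h.hy_span h3 hp ha hb' e hu
  simp [polar_add_left, polar_smul_left, h1, k a ha qa, k b hb' qb]

theorem hy_perp {p p' : V} (hp : p ∈ T) (hb : β p p' = 1) :
    ∃ ν, q ν = 1 ∧ (∀ u ∈ U p, β u ν = 0) ∧ β p' ν = 0 := by
  obtain ⟨μ, ⟨h1, h2⟩, -⟩ := h.hy0 h3 hh hp
  rcases zmod2_cases (β p' μ) with e | e
  · exact ⟨μ, h1, h2, e⟩
  · exact ⟨μ + p, by rw [qadd, h1, h.qt hp, bc (h2 p (h.tU p hp))]; rfl, fun u hu => by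
      rw [polar_add_right, h2 u hu, bc (h.perp p hp u hu), add_zero],
      by rw [polar_add_right, e, bc hb]; rfl⟩

theorem hy_eq {p p' ν ν' : V} (hp : p ∈ T) (hb : β p p' = 1) (qν : q ν = 1)
    (hν : ∀ u ∈ U p, β u ν = 0) (h1 : β p' ν = 0) (qν' : q ν' = 1) (hν' : ∀ u ∈ U p, β u ν' = 0)
    (h1' : β p' ν' = 0) : ν' = ν := by
  obtain ⟨μ, -, hμ⟩ := h.hy0 h3 hh hp
  have : ν' = ν ∨ ν' = ν + p := by
    have := hμ ν qν hν
    have := hμ ν' qν' hν'
    grind
  refine this.resolve_right ?_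
  rintro rfl
  simp [polar_add_right, h1, bc hb] at h1'

theorem hy2 {p p' ν : V} (hp : p ∈ T) (hp' : p' ∈ T) (hb : β p p' = 1) (qν : q ν = 1)
    (hν : ∀ u ∈ U p, β u ν = 0) (h1 : β p' ν = 0) : ∀ u ∈ U p', β u ν = 0 := by
  obtain ⟨ν', q1, h2, h4⟩ := h.hy_perp h3 hh hp' (bc hb)
  have h5 := h2 p' (h.tU p' hp')
  rwa [← h.hy_eq h3 hh hp hb qν hν h1 q1 (h.hy_of h3 hh hp hp' hb h4 h5 fun s _ hs e =>
    h.hy1 h3 hh hp' hs e q1 h2) h5]

end hy

variable (ht : t ∈ T) (ht' : t' ∈ T) (hb : polar q t t' = 1)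
include ht ht' hb

theorem li (h3 : dim (E t) = 3) (hi : ∀ u ∈ U t, ∀ w ∈ U t, β u w = 0) : ∀ u ∈ U t, q u = 0 := by
  intro n₀ h0
  refine (zmod2_cases _).resolve_right fun q0 => ?_
  have h3' : ∀ p ∈ T, dim (E p) = 3 := fun p hp => h.dimE_eq ht hp ▸ h3
  have hi' : ∀ p ∈ T, ∀ u ∈ U p, ∀ w ∈ U p, β u w = 0 := fun p hp u hu w hw => by
    obtain ⟨g, -, -, hg⟩ := h.transU ht hp
    rw [← O_polar g, hi _ (hg u hu) _ (hg w hw)]
  have hn : ∀ p ∈ T, ∃ n ∈ U p, q n = 1 := fun p hp => by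
    obtain ⟨g, -, -, hg⟩ := h.transU hp ht
    exact ⟨_, hg n₀ h0, by rwa [O_map]⟩
  obtain ⟨s, hs, n, hn', s1, n1, s0, qs, qn⟩ := h.li_sn h3' hi' hn ht hb
  obtain ⟨s', hs', -, -, s2, -, s0', qs', -⟩ := h.li_sn h3' hi' hn ht' (bc hb)
  have e := (h.li1 h3' hi' ht ht' hb hs hn' hs' s1 n1 s2 s0 s0' qs qs' qn).2
  have hg := h.sieg t ht n hn'
  have m := h.move ht hb hn' n1
  rw [qn, one_smul] at m
  have hT : t' + n + t ∈ T := m ▸ h.inv _ hg t' ht'
  have p1 := h.perp t' ht' s' hs'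
  have b1 : β t' (t' + n + t) = 1 := by
    rw [polar_add_right, polar_add_right, bself, bc n1, bc hb]; rfl
  obtain ⟨-, -, n', hn'', -, n2, -, -, qn'⟩ := h.li_sn h3' hi' hn ht' b1
  have m1 := h.eqU _ hg t' ht' s' hs'
  rw [m, eich_apply_of_orth_left (h.qt ht) (h.perp t ht n hn') s2, bc e, one_smul] at m1
  have q1 : q (s' + t') = 0 := by rw [qadd, qs', h.qt ht', bc p1]; rfl
  have b2 : β (s' + t') n = 1 := by rw [polar_add_left, bc e, bc n1]; rfl
  have := (h.li1 h3' hi' ht' hT b1 (s := s' + t') (s' := s' + t' + n)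
    ((U t').add_mem hs' (h.tU t' ht')) hn''
    (by convert (U _).add_mem m1 (h.tU _ hT) using 1; grind)
    (by rw [polar_add_right, polar_add_right, b2, polar_add_left, polar_add_left, bc p1, bself, s2,
      bc hb]; rfl) n2
    (by rw [polar_add_left, polar_add_left, bc p1, bself, n1]; rfl)
    (fun e => by
      have := congrArg (β t) e
      simp [polar_add_right, bc s2, hb] at this)
    (fun e => by simp [← eq_of_add_eq_zero e, q1] at qn) q1 (by rw [qadd, q1, qn, b2]; rfl) qn').1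
  rw [polar_add_right, bself, b2] at this
  exact absurd this (by decide)

theorem hy (h3 : dim (E t) = 3) : ¬ ∃ a ∈ U t, ∃ b ∈ U t, q a = 0 ∧ q b = 0 ∧ β a b = 1 := by
  rintro ⟨a, ha, b, hb', qa, qb, e⟩
  have h3' : ∀ p ∈ T, dim (E p) = 3 := fun p hp => h.dimE_eq ht hp ▸ h3
  have hh : ∀ p ∈ T, ∃ a ∈ U p, ∃ b ∈ U p, q a = 0 ∧ q b = 0 ∧ β a b = 1 := fun p hp => by
    obtain ⟨g, -, -, hg⟩ := h.transU hp ht
    exact ⟨_, hg a ha, _, hg b hb', by rwa [O_map], by rwa [O_map], by rwa [O_polar]⟩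
  obtain ⟨ν, qν, hν, h1⟩ := h.hy_perp h3' hh ht hb
  have hν' := h.hy2 h3' hh ht ht' hb qν hν h1
  have all : ∀ p ∈ T, β p ν = 0 := fun p hp => by
    rcases zmod2_cases (β t p) with e1 | e1
    · exact h.hy1 h3' hh ht hp e1 qν hν
    rcases zmod2_cases (β t' p) with e2 | e2
    · exact h.hy1 h3' hh ht' hp e2 qν hν'
    refine (zmod2_cases _).resolve_right fun e3 => ?_
    have k : ∀ s ∈ T, β s p = 1 → (∀ u ∈ U s, β u ν = 0) →
        q (ν + s) = 1 ∧ ∀ u ∈ U p, β u (ν + s) = 0 := fun s hs e hν => by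
      have q1 : q (ν + s) = 1 := by rw [qadd, qν, h.qt hs, bc (hν s (h.tU s hs))]; rfl
      exact ⟨q1, h.hy2 h3' hh hs hp e q1 (fun u hu => by
        rw [polar_add_right, hν u hu, bc (h.perp s hs u hu), add_zero])
        (by rw [polar_add_right, e3, bc e]; rfl)⟩
    obtain ⟨μ, -, hμ⟩ := h.hy0 h3' hh hp
    have k1 := hμ _ (k t ht e1 hν).1 (k t ht e1 hν).2
    have k2 := hμ _ (k t' ht' e2 hν').1 (k t' ht' e2 hν').2
    have k3 : t' = t ∨ p = t + t' := by grind
    rcases k3 with rfl | rfl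
    · simp [-polar_self, bself] at hb
    · have := h.qt hp
      simp [qadd, h.qt ht, h.qt ht', hb] at this
  have := h.nofix ν fun g hg => by
    have all' : ∀ p ∈ T, β p (g.1 ν) = 0 := fun p hp => by
      rw [← O_polar_inv_left]
      exact all _ (h.inv _ (K.inv_mem hg) p hp)
    exact h.hy_eq h3' hh ht hb qν hν h1 (by rwa [O_map]) (h.hy_of h3' hh ht ht' hb (all' t ht)
      (all' t' ht') fun s _ hs _ => all' _ hs) (all' t' ht')
  simp [this] at qν

theorem small : ∀ e ∈ E t, e = 0 ∨ e = t := by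
  intro e he
  by_contra hc
  push Not at hc
  have t0 := h.ne t ht
  have d1 : 1 < dim (E t) := le_dim_of [0, t, e] (by
    simp only [List.nodup_cons, List.mem_cons, List.not_mem_nil, or_false, not_or, List.nodup_nil]
    grind) (by simp [he, h.tE t ht]) (by simp)
  have d2 := h.dimE_le ht
  have d3 := h.three ht ht' hb
  have h3 : dim (E t) = 3 := by omega
  by_cases hi : ∀ u ∈ U t, ∀ w ∈ U t, β u w = 0
  · exact h.ts ht ht' hb h3 (h.li ht ht' hb h3 hi)
  push Not at hi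
  obtain ⟨u, hu, w, hw, e1⟩ := hi
  have e1 := zmod2_ne_zero.1 e1
  have := h.an ht ht' hb h3
  push Not at this
  obtain ⟨s, hs, qs, s0, s1⟩ := this
  obtain ⟨v, hv, e2⟩ : ∃ v ∈ U t, β s v = 1 := by
    obtain ⟨x, y, z, e2⟩ := h.hy_span (fun p hp => h.dimE_eq ht hp ▸ h3) ht hu hw e1 hs
    have f1 : β s w = y := by
      simp [-polar_self, e2, bself, polar_add_left, polar_smul_left, h.perp t ht w hw, e1]
    have f2 : β s u = z := by
      simp [-polar_self, e2, bself, polar_add_left, polar_smul_left, h.perp t ht u hu, bc e1]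
    rcases zmod2_cases y with rfl | rfl
    · rcases zmod2_cases z with rfl | rfl
      · rcases zmod2_cases x with rfl | rfl <;> simp at e2 <;> grind
      · exact ⟨u, hu, f2⟩
    · exact ⟨w, hw, f1⟩
  refine h.hy ht ht' hb h3 ⟨s, hs, ?_⟩
  rcases zmod2_cases (q v) with e3 | e3
  · exact ⟨v, hv, qs, e3, e2⟩
  · exact ⟨s + v, (U t).add_mem hs hv, qs, by rw [qadd, qs, e3, e2]; rfl,
      by rw [polar_add_right, bself, e2, zero_add]⟩

end LD

end CfsgLib.LXQ
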