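import Cfsg.Agent.Lib.LXQ.Lin
import Cfsg.Agent.Lib.W4.WC
import Cfsg.Agent.Lib.LargeExtra.Trans
import Cfsg.Agent.Lib.LargeExtra.Sub
import Cfsg.Agent.Lib.LargeExtra.Struct
import Cfsg.Agent.S3299

/-!
# `F*(C(z)) = O₂(C(z))` extraspecial of order `2^7`: definitions (plans/LXQ.md)
-/

set_option autoImplicit false

namespace CfsgLib.LXQ

open Subgroup QuadraticMap CfsgLib.ExtraTwo CfsgLib.LargeExtra CfsgLib.OrthE CfsgLib.W4

variable {G : Type*} [Group G]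

abbrev CC (x : G) : Subgroup G := centralizer ({x} : Set G)

/-- `Q_x = O₂(C(x))` -/
noncomputable def Qx (x : G) : Subgroup G := amb (Cfsg.pCore 2 (CC x))

theorem Qx_conj (g x : G) : Qx (g * x * g⁻¹) = (Qx x).map (MulAut.conj g).toMonoidHom := by
  have : (CC x).map (MulAut.conj g).toMonoidHom = CC (g * x * g⁻¹) := by
    ext y
    rw [mem_map_conj, mem_cent, mem_cent]
    constructor <;> intro e
    · calc _ = g * (g⁻¹ * y * g * x) * g⁻¹ := by group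
        _ = _ := by rw [e]; group
    · calc _ = g⁻¹ * (y * (g * x * g⁻¹)) * g := by group
        _ = _ := by rw [e]; group
  rw [Qx, Qx, amb, amb, Core.map_conj_map_pCore, this]

theorem mem_Qx_conj {g x y : G} : g * y * g⁻¹ ∈ Qx (g * x * g⁻¹) ↔ y ∈ Qx x := by
  rw [Qx_conj, mem_map_conj, show g⁻¹ * (g * y * g⁻¹) * g = y by group]

theorem conj_mem_Qx {g x x' y : G} (e : g * x * g⁻¹ = x') (h : y ∈ Qx x) : g * y * g⁻¹ ∈ Qx x' :=
  e ▸ mem_Qx_conj.2 h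

theorem isConj_conj {z x : G} (h : IsConj z x) (g : G) : IsConj z (g * x * g⁻¹) :=
  h.trans (isConj_iff.2 ⟨g, rfl⟩)

structure Hyp (z : G) : Prop where
  pre : Pre (Qx z) z
  card : Nat.card (Qx z) = 128

/-- `z` is weakly closed in `Q_z` -/
def WC (z : G) : Prop := ∀ x ∈ Qx z, IsConj z x → x = z

theorem WC.conj {z s : G} (h : WC z) (hs : IsConj z s) : WC s := by
  obtain ⟨g, rfl⟩ := isConj_iff.1 hs
  intro x hx e
  have := h (g⁻¹ * x * g) ((mem_Qx_conj (g := g)).1 (by simpa [mul_assoc] using hx))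
    (by simpa using isConj_conj (hs.trans e) g⁻¹)
  rw [← this]; group

namespace Hyp

variable {z s t : G} (h : Hyp z)
include h

theorem es : ES (Qx z) z := h.pre.es

theorem conj (hs : IsConj z s) : Hyp s := by
  obtain ⟨g, rfl⟩ := isConj_iff.1 hs
  exact ⟨Qx_conj g z ▸ h.pre.conj g, by rw [Qx_conj, card_map_conj, h.card]⟩

theorem sq (hs : IsConj z s) : s * s = 1 := (h.conj hs).es.mul_self

theorem ncomm : ¬ IsMulCommutative G := fun hc =>
  let ⟨x, _, y, _, e⟩ := h.es.nonab; e (hc.is_comm.comm x y)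

theorem pair [Finite G] (ht : IsConj z t) (hQ : t ∈ Qx z) (hne : t ≠ z) : Pair (Qx z) (Qx t) z t := by
  obtain ⟨g, rfl⟩ := isConj_iff.1 ht
  exact Qx_conj g z ▸ h.pre.pair (by rw [h.card]; decide) hQ hne

end Hyp

/-- coordinates for `Q_z / ⟨z⟩` and the action of `C(z)` -/
structure Cd (z : G) where
  hyp : Hyp z
  q : QuadraticForm (ZMod 2) V
  π : G → V
  ρ : CC z →* O q
  co : Coord (Qx z) z q π
  act : ∀ g, ∀ x ∈ Qx z, (ρ g).1 (π x) = π (g * x * (g : G)⁻¹)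
  ker : ∀ g, ρ g = 1 ↔ (g : G) ∈ Qx z

theorem Hyp.exists_cd [Finite G] {z : G} (h : Hyp z) : Nonempty (Cd z) := by
  obtain ⟨n, q, π, co⟩ := h.es.exists_coord
  obtain rfl : n = 6 := by simpa using co.finrank_eq (m := 6) h.card
  obtain ⟨ρ, h1, h2, h3⟩ := h.pre.exists_act co
  exact ⟨⟨h, q, π, ρ.codRestrict _ h2, co, h1, fun g => Subtype.ext_iff.trans (h3 g)⟩⟩

namespace Cd

variable {z : G} (c : Cd z)

/-- the image of `C(z)` -/
abbrev K : Subgroup (O c.q) := c.ρ.range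

/-- `ρ` as a function on `G` -/
noncomputable def r (g : G) : O c.q :=
  haveI := Classical.dec (g * z = z * g)
  if h : g * z = z * g then c.ρ ⟨g, mem_cent.2 h⟩ else 1

theorem nd : Nondeg c.q := fun _ h => c.co.eq_zero_of_polar h

theorem r_eq {g : G} (h : g * z = z * g) : c.r g = c.ρ ⟨g, mem_cent.2 h⟩ := dif_pos h

theorem r_coe (g : CC z) : c.r g = c.ρ g := c.r_eq (mem_cent.1 g.2)

theorem r_mem (g : G) : c.r g ∈ c.K := by
  unfold r; split_ifs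
  exacts [⟨_, rfl⟩, one_mem _]

theorem mem_K {k : O c.q} : k ∈ c.K ↔ ∃ g, g * z = z * g ∧ c.r g = k :=
  ⟨fun ⟨g, e⟩ => ⟨g, mem_cent.1 g.2, (c.r_coe g).trans e⟩, fun ⟨g, _, e⟩ => e ▸ c.r_mem g⟩

theorem r_mul {g g' : G} (h : g * z = z * g) (h' : g' * z = z * g') :
    c.r (g * g') = c.r g * c.r g' := by
  rw [c.r_eq h, c.r_eq h', ← map_mul]; exact c.r_coe (⟨g, mem_cent.2 h⟩ * ⟨g', mem_cent.2 h'⟩)

theorem r_inv {g : G} (h : g * z = z * g) : c.r g⁻¹ = (c.r g)⁻¹ := by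
  rw [c.r_eq h, ← map_inv]; exact c.r_coe (⟨g, mem_cent.2 h⟩⁻¹)

theorem r_act {g x : G} (h : g * z = z * g) (hx : x ∈ Qx z) :
    (c.r g).1 (c.π x) = c.π (g * x * g⁻¹) := by rw [c.r_eq h]; exact c.act _ x hx

theorem r_eq_one {g : G} (h : g * z = z * g) : c.r g = 1 ↔ g ∈ Qx z := by
  rw [c.r_eq h]; exact c.ker _

theorem r_eq_iff {g g' : G} (h : g * z = z * g) (h' : g' * z = z * g') :
    c.r g = c.r g' ↔ g⁻¹ * g' ∈ Qx z := by
  have h1 : g⁻¹ * z = z * g⁻¹ := mem_cent.1 ((CC z).inv_mem (mem_cent.2 h))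
  rw [← c.r_eq_one (mem_cent.1 ((CC z).mul_mem (mem_cent.2 h1) (mem_cent.2 h'))), c.r_mul h1 h',
    c.r_inv h, inv_mul_eq_one]

/-- `π [g, x] = g (π x) + π x` -/
theorem π_comm {g x : G} (h : g * z = z * g) (hx : x ∈ Qx z) :
    c.π (g * x * g⁻¹ * x⁻¹) = (c.r g).1 (c.π x) + c.π x := by
  rw [c.co.map_mul _ (c.hyp.pre.norm g h x hx) _ (inv_mem hx), c.co.map_inv hx, c.r_act h hx]

theorem r_fix {g x : G} (h : g * z = z * g) (hx : x ∈ Qx z) :
    (c.r g).1 (c.π x) = c.π x ↔ g * x * g⁻¹ = x ∨ g * x * g⁻¹ = x * z := by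
  rw [c.r_act h hx, eq_comm, c.co.eq_iff hx (c.hyp.pre.norm g h x hx)]

theorem card_cent : Nat.card (CC z) = 128 * Nat.card c.K := by
  have : c.ρ.ker = (Qx z).subgroupOf (CC z) := by ext g; exact c.ker g
  rw [← c.ρ.ker.card_mul_index, index_ker, this, ← card_amb, c.hyp.pre.amb_subgroupOf, c.hyp.card]

theorem o2 (N : Subgroup (O c.q)) (hN : N ≤ c.K) (hn : ∀ g ∈ c.K, ∀ x ∈ N, g * x * g⁻¹ ∈ N)
    (h2 : IsPGroup 2 N) : N = ⊥ := by
  have h1 : (N.comap c.ρ).Normal := ⟨fun x hx g => by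
    rw [mem_comap, map_mul, map_mul, map_inv]; exact hn _ ⟨g, rfl⟩ _ hx⟩
  have h3 : IsPGroup 2 c.ρ.ker := by
    have : c.ρ.ker = Cfsg.pCore 2 (CC z) := by ext g; exact (c.ker g).trans coe_mem_amb
    exact this ▸ Core.isPGroup_pCore 2 _
  refine eq_bot_iff.2 fun x hx => ?_
  obtain ⟨g, rfl⟩ := hN hx
  exact (c.ker g).2 (coe_mem_amb.2 (Core.le_pCore (h2.comap_of_ker_isPGroup c.ρ h3) hx))

theorem nofix [Finite G] [IsSimpleGroup G] (v : V) (hv : ∀ g ∈ c.K, g.1 v = v) : v = 0 := by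
  obtain ⟨x, hx, rfl⟩ := c.co.surj v
  by_contra h0
  rw [c.co.ker x hx, not_or] at h0
  have es := c.hyp.es
  have h1 : ∀ g, g * z = z * g → g * x * g⁻¹ = x ∨ g * x * g⁻¹ = x * z := fun g hg =>
    (c.r_fix hg hx).1 (hv _ (c.r_mem g))
  obtain ⟨a, ha, ea⟩ := es.exists_conj hx h0.1 h0.2
  have h2 : ∀ g, g ∈ CC z ⊓ CC x ↔ g * z = z * g ∧ g * x * g⁻¹ = x := fun g =>
    and_congr mem_cent (mem_cent.trans mul_inv_eq_iff_eq_mul.symm)
  have h3 : x * z ≠ x := fun e => es.ne_one (by simpa using e)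
  have h4 : ∀ g, g * z = z * g → g * (x * z) * g⁻¹ = g * x * g⁻¹ * z := fun g hg => by
    rw [← conj_mul, conj_eq_of_comm hg]
  refine (fun hh : Qx z ≤ CC z ⊓ CC x => h3 (ea.symm.trans ((h2 a).1 (hh ha)).2))
    (Cfsg.Agent.S3299.result (Transfer.pResidual_two_eq_top_iff.2 (no_index_two c.hyp.ncomm)) z
      es.orderOf_eq _ rfl es.isExtraspecial c.hyp.pre.centralizer_le 3 (by decide) c.hyp.card _
      inf_le_left (fun g hg => ?_) ?_)
  · ext y
    rw [mem_map_conj, h2, h2]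
    have hg' := mem_cent.1 hg
    have k : ∀ g y, g * z = z * g → y * z = z * y ∧ y * x * y⁻¹ = x →
        g⁻¹ * y * g * z = z * (g⁻¹ * y * g) ∧ g⁻¹ * y * g * x * (g⁻¹ * y * g)⁻¹ = x := fun g y hg hy => by
      refine ⟨mem_cent.1 (mul_mem (mul_mem (inv_mem (mem_cent.2 hg)) (mem_cent.2 hy.1)) (mem_cent.2 hg)), ?_⟩
      have e : y * (g * x * g⁻¹) * y⁻¹ = g * x * g⁻¹ := by
        rcases h1 g hg with e | e <;> rw [e]
        exacts [hy.2, by rw [h4 y hy.1, hy.2]]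
      calc _ = g⁻¹ * (y * (g * x * g⁻¹) * y⁻¹) * g := by group
        _ = _ := by rw [e]; group
    exact ⟨fun hy => by simpa [mul_assoc] using k g⁻¹ _ (mem_cent.1 (inv_mem hg)) hy, k g y hg'⟩
  · refine index_eq_two_iff.2 ⟨⟨a, c.hyp.pre.le_cent ha⟩, fun g => ?_⟩
    have hg := mem_cent.1 g.2
    have e : (g : G) * a * x * (g * a)⁻¹ = g * x * (g : G)⁻¹ * z := by
      rw [← h4 g hg, ← ea]; group
    simp only [mem_subgroupOf, coe_mul, h2, e, hg, true_and,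
      mem_cent.1 (mul_mem g.2 (c.hyp.pre.le_cent ha))]
    rcases h1 g hg with e | e <;> rw [e]
    · exact .inr ⟨rfl, h3⟩
    · exact .inl ⟨es.zz' x, h3⟩

end Cd

/-- a conjugate `x ≠ z` of `z` in `Q_z` with `Q_z ⊓ Q_x = ⟨z, x⟩` -/
structure F1 {z : G} (c : Cd z) (x : G) : Prop where
  conj : IsConj z x
  mem : x ∈ Qx z
  ne : x ≠ z
  small : ∀ y ∈ Qx z, y ∈ Qx x → y = 1 ∨ y = z ∨ y = x ∨ y = x * z
  onto : ∀ u, polar c.q (c.π x) u = 0 → ∃ r ∈ Qx x, r * z = z * r ∧ c.r r = eich c.q (c.π x) u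

/-- a conjugate `s ≠ z` of `z` that commutes with `z`, in the weakly closed case -/
structure WA (z s : G) : Prop where
  hyp : Hyp z
  wc : WC z
  conj : IsConj z s
  comm : s * z = z * s
  ne : s ≠ z

/-- `A = C_{Q_z}(s)`; `B = AA s z` -/
noncomputable abbrev AA (z s : G) : Subgroup G := Qx z ⊓ CC s

/-- `D₀ = Q_z ⊓ Q_s` -/
noncomputable abbrev DD (z s : G) : Subgroup G := Qx z ⊓ Qx s

namespace WA

variable {z s : G} (p : WA z s)
include p

theorem symm : WA s z := ⟨p.hyp.conj p.conj, p.wc.conj p.conj, p.conj.symm, p.comm.symm, p.ne.symm⟩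

theorem wp : WP (Qx z) (Qx s) z s := ⟨p.hyp.pre, (p.hyp.conj p.conj).pre, p.comm, p.ne, p.conj, p.wc,
  fun x hx e => p.wc.conj p.conj x hx (p.conj.symm.trans e)⟩

/-- any two commuting conjugates of `z` -/
theorem of {x y : G} (hx : IsConj z x) (hy : IsConj z y) (h : y * x = x * y) (hne : y ≠ x) : WA x y :=
  ⟨p.hyp.conj hx, p.wc.conj hx, hx.symm.trans hy, h, hne⟩

end WA

/-- type (2): `A` and `B` are elementary abelian of order 16 -/
structure T2 (z s : G) : Prop extends WA z s where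
  phi : Phi (Qx z) z s
  sq : ∀ a ∈ AA z s, a * a = 1
  cardA : Nat.card (AA z s) = 16
  cardD : Nat.card (DD z s) = 2
  commAB : ∀ a ∈ AA z s, ∀ b ∈ AA s z, a * b = b * a
  cardC : Nat.card (centralizer (AA z s : Set G)) ≤ 128

/-- type (3) -/
structure T3 (z s : G) : Prop extends WA z s where
  p0 : ¬ Phi (Qx z) z s
  p1 : ¬ Phi (Qx s) s z

theorem T3.symm {z s : G} (p : T3 z s) : T3 s z := ⟨p.toWA.symm, p.p1, p.p0⟩

end CfsgLib.LXQ
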