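import Cfsg.Agent.Lib.LXQ.A3
import Cfsg.Agent.Lib.SylT.U5a
import Cfsg.Agent.Lib.Sect.Tools

/-! plans/LXQ.md, package ISO: `Q_z C_{Q_s}(z)` is the Sylow 2-subgroup of `U₅(2)` -/

set_option autoImplicit false

namespace CfsgLib.LXQ

open Subgroup QuadraticMap Module CfsgLib.ExtraTwo CfsgLib.LargeExtra CfsgLib.OrthE CfsgLib.W4

namespace Iso

section lin

variable {q : QuadraticForm (ZMod 2) V} {v1 v2 w1 w2 n1 n2 : V}

local notation "β" => polar q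

/-- the Gram matrix of `w₁, w₂, n₁, n₂` and the products with `v₁, v₂` -/
structure Gr0 (q : QuadraticForm (ZMod 2) V) (v1 v2 w1 w2 n1 n2 : V) : Prop where
  qw1 : q w1 = 1
  qw2 : q w2 = 1
  qn1 : q n1 = 0
  qn2 : q n2 = 0
  ww : polar q w1 w2 = 1
  nn : polar q n1 n2 = 0
  w1n1 : polar q w1 n1 = 0
  w1n2 : polar q w1 n2 = 0
  w2n1 : polar q w2 n1 = 0
  w2n2 : polar q w2 n2 = 0
  v1n1 : polar q v1 n1 = 0
  v1n2 : polar q v1 n2 = 1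
  v2n1 : polar q v2 n1 = 1
  v2n2 : polar q v2 n2 = 0

structure Gr (q : QuadraticForm (ZMod 2) V) (v1 v2 w1 w2 n1 n2 : V) : Prop
    extends Gr0 q v1 v2 w1 w2 n1 n2 where
  qv1 : q v1 = 0
  qv2 : q v2 = 0
  v12 : polar q v1 v2 = 0
  v1w1 : polar q v1 w1 = 0
  v1w2 : polar q v1 w2 = 0
  v2w1 : polar q v2 w1 = 0
  v2w2 : polar q v2 w2 = 0

theorem Gr0.rev (h : Gr0 q v1 v2 w1 w2 n1 n2) : β w2 w1 = 1 ∧ β n2 n1 = 0 ∧ β n1 w1 = 0 ∧ β n2 w1 = 0 ∧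
    β n1 w2 = 0 ∧ β n2 w2 = 0 ∧ β n1 v1 = 0 ∧ β n2 v1 = 1 ∧ β n1 v2 = 1 ∧ β n2 v2 = 0 := by
  refine ⟨?_, ?_, ?_, ?_, ?_, ?_, ?_, ?_, ?_, ?_⟩ <;> rw [polar_comm]
  exacts [h.ww, h.nn, h.w1n1, h.w1n2, h.w2n1, h.w2n2, h.v1n1, h.v1n2, h.v2n1, h.v2n2]

theorem Gr0.adj (h : Gr0 q v1 v2 w1 w2 n1 n2) : ∃ a b c e a' b' c' : ZMod 2,
    Gr q (v1 + a • w1 + b • w2 + c • n1 + e • n2) (v2 + a' • w1 + b' • w2 + c' • n1) w1 w2 n1 n2 := by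
  obtain ⟨r1, r2, r3, r4, r5, r6, r7, r8, r9, r10⟩ := h.rev
  obtain ⟨a, b, c, e, a', b', c', H⟩ : ∃ a b c e a' b' c' : ZMod 2, β v1 w1 + b = 0 ∧ β v1 w2 + a = 0 ∧
      β v2 w1 + b' = 0 ∧ β v2 w2 + a' = 0 ∧
      q v1 + a * a + a * β v1 w1 + b * b + e = 0 ∧ q v2 + a' * a' + a' * β v2 w1 + b' * b' + c' = 0 ∧
      β v1 v2 + a * β v2 w1 + b * β v2 w2 + c = 0 := by
    generalize β v1 w1 = x1, β v1 w2 = x2, β v2 w1 = x3, β v2 w2 = x4, q v1 = x5, q v2 = x6,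
      β v1 v2 = x7
    revert x1 x2 x3 x4 x5 x6 x7
    decide +kernel
  refine ⟨a, b, c, e, a', b', c', ⟨h.qw1, h.qw2, h.qn1, h.qn2, h.ww, h.nn, h.w1n1, h.w1n2, h.w2n1, h.w2n2,
    ?_, ?_, ?_, ?_⟩, ?_, ?_, ?_, ?_, ?_, ?_, ?_⟩ <;>
  simp only [polar_add_left, polar_add_right, polar_smul_left, polar_smul_right, qadd, QuadraticMap.map_smul,
    bself, h.qw1, h.qw2, h.qn1, h.qn2, h.ww, h.nn, h.w1n1, h.w1n2, h.w2n1, h.w2n2, h.v1n1, h.v1n2,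
    h.v2n1, h.v2n2, r1, r2, r3, r4, r5, r6, r9, r10, smul_eq_mul, mul_zero, mul_one, add_zero,
    polar_comm q w1 v2, polar_comm q w2 v2, H]

set_option synthInstance.maxSize 4000 in
theorem Gr.act (h : Gr q v1 v2 w1 w2 n1 n2) (g : O q) {α1 α2 β1 β2 a b c e a' b' c' e' : ZMod 2}
    (hw1 : g.1 w1 = w1 + α1 • n1 + α2 • n2) (hw2 : g.1 w2 = w2 + β1 • n1 + β2 • n2)
    (hv1 : g.1 v1 = v1 + a • w1 + b • w2 + c • n1 + e • n2)
    (hv2 : g.1 v2 = v2 + a' • w1 + b' • w2 + c' • n1 + e' • n2) :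
    b = α2 ∧ a = β2 ∧ e = a + b + a * b ∧ b' = α1 ∧ a' = β1 ∧ c' = a' + b' + a' * b' ∧
      e' = c + a * b' + a' * b := by
  obtain ⟨r1, r2, r3, r4, r5, r6, r7, r8, r9, r10⟩ := h.rev
  have h1 := O_polar g v1 w1
  have h2 := O_polar g v1 w2
  have h3 := O_polar g v2 w1
  have h4 := O_polar g v2 w2
  have h5 := O_polar g v1 v2
  have h6 := O_map g v1
  have h7 := O_map g v2
  simp only [hw1, hw2, hv1, hv2, polar_add_left, polar_add_right, polar_smul_left, polar_smul_right, qadd,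
    QuadraticMap.map_smul,
    bself, h.qw1, h.qw2, h.qn1, h.qn2, h.ww, h.nn, h.w1n1, h.w1n2, h.w2n1, h.w2n2, h.v1n1, h.v1n2,
    h.v2n1, h.v2n2, r1, r2, r3, r4, r5, r6, r9, r10, smul_eq_mul, mul_zero, mul_one, add_zero,
    polar_comm q w1 v2, polar_comm q w2 v2, h.qv1, h.qv2, h.v12, h.v1w1, h.v1w2, h.v2w1, h.v2w2,
    zero_add] at h1 h2 h3 h4 h5 h6 h7
  clear hw1 hw2 hv1 hv2
  revert α1 α2 β1 β2 a b c e a' b' c' e'
  decide +kernel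

end lin

variable {G : Type*} [Group G]

theorem q8 {a b c : G} (ha : a * a = c) (hb : b * b = c) (hab : a * b * (a * b) = c) (hc : c * c = 1) :
    a * b = b * c * a := by
  have h1 : b * a * b = a := mul_left_cancel (a := a) (by rw [ha, ← hab]; group)
  calc a * b = b⁻¹ * (b * a * b) := by group
    _ = b * (b * b)⁻¹ * a := by rw [h1]; group
    _ = _ := by rw [hb, inv_eq_of_mul_eq_one_right hc]

end Iso

open Iso

variable {G : Type*} [Group G] [Finite G]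

namespace T3

variable [IsSimpleGroup G] {z s : G} (p : T3 z s) {a b d d' k x : G}
include p

omit [Finite G] [IsSimpleGroup G] in
theorem DA (hd : d ∈ DD z s) : d ∈ AA z s := ⟨hd.1, mem_cent.2 (p.wp.D_comm_s hd.2)⟩

omit [Finite G] [IsSimpleGroup G] in
theorem dA (hd : d ∈ DD z s) (ha : a ∈ AA z s) : a * d = d * a :=
  p.wp.D_comm_A hd.1 hd.2 ha.1 (mem_cent.1 ha.2)

omit [Finite G] [IsSimpleGroup G] in
theorem dB (hd : d ∈ DD z s) (hk : k ∈ AA s z) : k * d = d * k :=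
  p.wp.D_comm_B hd.1 hd.2 hk.1 (mem_cent.1 hk.2)

omit [Finite G] [IsSimpleGroup G] in
theorem nm (hk : k ∈ AA s z) (ha : a ∈ AA z s) (e : k * a * k⁻¹ = a * d) (h : d ≠ 1) :
    k ∉ Qx z ∧ k * s ∉ Qx z := by
  have h1 : k * a ≠ a * k := fun e' => h (by rw [conj_eq_of_comm e'] at e; simpa using e.symm)
  refine ⟨fun h2 => h1 (p.dA ⟨h2, hk.1⟩ ha).symm, fun h2 => h1 ?_⟩
  have := p.dA ⟨h2, mul_mem hk.1 p.wp.h1.es.mem⟩ ha
  rw [mul_assoc, ← mem_cent.1 ha.2, ← mul_assoc, ← mul_assoc] at this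
  exact (mul_right_cancel this).symm

theorem ksq (hk : k ∈ AA s z) (ha : a ∈ AA z s) (e : k * a * k⁻¹ = a * d) (h : d ≠ 1) : k * k = s :=
  p.symm.sq hk (p.nm hk ha e h).1 (p.nm hk ha e h).2

omit [Finite G] [IsSimpleGroup G] in
theorem flip (hk : k ∈ AA s z) (ha : a ∈ AA z s) (hd : d ∈ DD z s) (e : k * a * k⁻¹ = a * d) :
    a * k * a⁻¹ = k * d := by
  have h1 : a * k = k * (d * a) := by
    calc a * k = a * d * (d * k) := by rw [mul_assoc, ← mul_assoc d, p.wp.D_sq hd.1 hd.2, one_mul]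
      _ = _ := by rw [← e, ← p.dB hd hk, ← p.dA hd ha]; group
  rw [h1]; group

theorem small {H : Subgroup G} (h : ∀ a ∈ H, a ∈ Qx z ∧ (a ∈ Qx s ∨ a * z ∈ Qx s)) : Nat.card H ≤ 8 := by
  have es := p.hyp.es
  have h1 := (SylT.card_sup_le (H := DD z s) (y := z) (by rw [es.mul_self]; exact one_mem _)
    fun a ha => by rw [conj_eq_of_comm (es.comm_z a ha.1).symm]; exact ha).2
  rw [p.cardD] at h1
  refine (card_le_of_le fun a ha => ?_).trans h1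
  rcases h a ha with ⟨h2, h3 | h3⟩
  · exact mem_sup_left ⟨h2, h3⟩
  · exact es.zz' a ▸ mul_mem (mem_sup_left ⟨mul_mem h2 es.mem, h3⟩) (mem_sup_right (mem_zpowers z))

theorem onto (hk : k ∈ AA s z) (h1 : k ∉ Qx z) (h2 : k * s ∉ Qx z) (hd : d ∈ DD z s) :
    ∃ a ∈ AA z s, k * a * k⁻¹ = a * d := by
  have hm : ∀ a : AA z s, k * a * k⁻¹ * (a : G)⁻¹ ∈ DD z s := fun a =>
    p.wp.comm_mem a.2.1 (mem_cent.1 a.2.2) hk.1 (mem_cent.1 hk.2)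
  let f : AA z s →* DD z s := MonoidHom.mk' (fun a => ⟨_, hm a⟩) fun a b => Subtype.ext (by
    have := p.dA (hm b) (inv_mem a.2)
    simp only [coe_mul, mul_assoc _ (a : G)⁻¹, this]
    group)
  have h3 : Nat.card (f.ker.map (AA z s).subtype) ≤ 8 := p.small (by
    rintro _ ⟨a, ha, rfl⟩
    exact ⟨a.2.1, (p.rank a.2 hk (comm_of_conj_eq (mul_inv_eq_one.1 (congrArg Subtype.val ha)))).resolve_right
      (not_or.2 ⟨h1, h2⟩)⟩)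
  rw [card_map_of_injective (AA z s).subtype_injective] at h3
  have h4 := f.ker.card_mul_index
  rw [index_ker, p.cardA] at h4
  obtain ⟨a, ha⟩ : ⟨d, hd⟩ ∈ f.range := by
    rw [eq_top_of_le_card f.range (by rw [p.cardD]; nlinarith)]; trivial
  exact ⟨a, a.2, by rw [p.dA hd a.2, ← mul_inv_eq_iff_eq_mul]; exact congrArg Subtype.val ha⟩

theorem four (hd : d ∈ DD z s) (hd' : d' ∈ DD z s) (h1 : d ≠ 1) (h2 : d' ≠ 1) (h3 : d' ≠ d)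
    (hx : x ∈ DD z s) : x = 1 ∨ x = d ∨ x = d' ∨ x = d * d' :=
  Sect.four_cases p.cardD.le hd hd' (p.wp.D_sq hd.1 hd.2) h1 h2 h3 hx

omit [Finite G] [IsSimpleGroup G] in
theorem exists_d (hk : k ∈ AA s z) (ha : a ∈ AA z s) : ∃ d ∈ DD z s, k * a * k⁻¹ = a * d :=
  have := p.wp.comm_mem ha.1 (mem_cent.1 ha.2) hk.1 (mem_cent.1 hk.2)
  ⟨_, this, by rw [p.dA this ha]; group⟩

omit [Finite G] [IsSimpleGroup G] in
theorem mulA (hb : b ∈ AA z s) (hd : d ∈ DD z s) (e : k * a * k⁻¹ = a * d) (e' : k * b * k⁻¹ = b * d') :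
    k * (a * b) * k⁻¹ = a * b * (d * d') := by
  rw [← conj_mul, e, e', mul_assoc, ← mul_assoc d, ← p.dA hd hb]; group

omit [Finite G] [IsSimpleGroup G] in
theorem mulB {k' : G} (hk : k ∈ AA s z) (hd' : d' ∈ DD z s) (e : k * a * k⁻¹ = a * d)
    (e' : k' * a * k'⁻¹ = a * d') : k * k' * a * (k * k')⁻¹ = a * (d * d') := by
  calc _ = k * (k' * a * k'⁻¹) * k⁻¹ := by group
    _ = _ := by rw [e', ← conj_mul, e, conj_eq_of_comm (p.dB hd' hk), mul_assoc]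

/-- the pairing `B × A → D₀` has no zero divisors -/
theorem nzd {k' a' e e' : G} (hk : k ∈ AA s z) (ha : a ∈ AA z s) (hk' : k' ∈ AA s z) (ha' : a' ∈ AA z s)
    (he : e ∈ DD z s) (h1 : k * a' * k⁻¹ = a' * e') (h2 : k' * a * k'⁻¹ = a * e) (h3 : e' ≠ 1) (h4 : e ≠ 1)
    (h : k * a * k⁻¹ = a * d) : d ≠ 1 := by
  rintro rfl
  exact (p.rank ha hk (comm_of_conj_eq (by simpa using h))).elim
    (not_or.2 (p.symm.nm ha hk' (p.flip hk' ha he h2) h4)) (not_or.2 (p.nm hk ha' h1 h3))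

theorem base : ∃ d1 ∈ DD z s, ∃ d2 ∈ DD z s, ∃ q1 ∈ AA z s, ∃ q2 ∈ AA z s, ∃ k1 ∈ AA s z, ∃ k2 ∈ AA s z,
    d1 ≠ 1 ∧ d2 ≠ 1 ∧ d2 ≠ d1 ∧ k2 * q2 * k2⁻¹ = q2 * d1 ∧ k2 * q1 * k2⁻¹ = q1 * (d1 * d2) ∧
      k1 * q2 * k1⁻¹ = q2 * d2 ∧ k1 * q1 * k1⁻¹ = q1 * d1 := by
  have hD : ∀ d : G, ∃ d' ∈ DD z s, d' ≠ 1 ∧ d' ≠ d := fun d => by
    by_contra h
    have := Sect.card_le_two (K := DD z s) (z := d) fun x hx => by by_contra h'; exact h ⟨x, hx, not_or.1 h'⟩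
    rw [p.cardD] at this; omega
  obtain ⟨d1, m1, n1, -⟩ := hD 1
  obtain ⟨d2, m2, n2, n3⟩ := hD d1
  obtain ⟨q2, m4, h1⟩ : ∃ a ∈ AA z s, ¬ (a ∈ Qx s ∨ a * z ∈ Qx s) := by
    by_contra h
    have := p.small (H := AA z s) fun a ha => ⟨ha.1, by by_contra h'; exact h ⟨a, ha, h'⟩⟩
    rw [p.cardA] at this; omega
  obtain ⟨k2, m6, e1⟩ := p.symm.onto m4 (not_or.1 h1).1 (not_or.1 h1).2 (d := d1) ⟨m1.2, m1.1⟩
  obtain ⟨k1, m5, e2⟩ := p.symm.onto m4 (not_or.1 h1).1 (not_or.1 h1).2 (d := d2) ⟨m2.2, m2.1⟩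
  replace e1 := p.symm.flip m4 m6 ⟨m1.2, m1.1⟩ e1
  replace e2 := p.symm.flip m4 m5 ⟨m2.2, m2.1⟩ e2
  obtain ⟨q1, m3, e3⟩ := p.onto m5 (p.nm m5 m4 e2 n2).1 (p.nm m5 m4 e2 n2).2 m1
  obtain ⟨d, hd, e4⟩ := p.exists_d m6 m3
  have s1 := p.wp.D_sq m1.1 m1.2
  have s2 := p.wp.D_sq m2.1 m2.2
  have n4 : d1 * d2 ≠ 1 := fun e => n3 (by rw [← one_mul d2, ← s1, mul_assoc, e, mul_one])
  have e5 := p.mulA m4 m1 e3 e2
  refine ⟨d1, m1, d2, m2, q1, m3, q2, m4, k1, m5, k2, m6, n1, n2, n3, e1, ?_, e2, e3⟩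
  rcases p.four m1 m2 n1 n2 n3 hd with rfl | rfl | rfl | rfl
  · exact absurd rfl (p.nzd m6 m3 m5 m4 m1 e1 e3 n1 n1 e4)
  · exact absurd s1 (p.nzd m6 (mul_mem m3 m4) m5 m4 (mul_mem m1 m2) e1 e5 n1 n4 (p.mulA m4 m1 e4 e1))
  · refine absurd ?_ (p.nzd (mul_mem m6 m5) (mul_mem m3 m4) m5 m4 (mul_mem m1 m2) (p.mulB m6 m2 e1 e2) e5 n4 n4
      (p.mulB m6 (mul_mem m1 m2) (p.mulA m4 m2 e4 e1) e5))
    rw [mul_assoc, ← mul_assoc d1, s1, one_mul, s2]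
  · exact e4

theorem span (c : Cd z) {d1 d2 q1 q2 : G} (m1 : d1 ∈ DD z s) (m2 : d2 ∈ DD z s) (m3 : q1 ∈ AA z s)
    (m4 : q2 ∈ AA z s) (hk : k ∈ AA s z) (n1 : d1 ≠ 1) (n2 : d2 ≠ 1) (n3 : d2 ≠ d1)
    (e2 : k * q2 * k⁻¹ = q2 * d2) (e3 : k * q1 * k⁻¹ = q1 * d1) (ha : a ∈ AA z s) :
    ∃ i j l m : ZMod 2, c.π a = i • c.π q1 + j • c.π q2 + l • c.π d1 + m • c.π d2 := by
  have h1 : ∀ x ∈ DD z s, ∃ l m : ZMod 2, c.π x = l • c.π d1 + m • c.π d2 := fun x hx => by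
    rcases p.four m1 m2 n1 n2 n3 hx with rfl | rfl | rfl | rfl
    exacts [⟨0, 0, by simp [c.co.map_one]⟩, ⟨1, 0, by simp⟩, ⟨0, 1, by simp⟩,
      ⟨1, 1, by simp [c.co.map_mul _ m1.1 _ m2.1]⟩]
  obtain ⟨d, hd, e⟩ := p.exists_d hk ha
  have h2 : ∀ b ∈ AA z s, k * b * k⁻¹ = b * d →
      ∃ l m : ZMod 2, c.π a = c.π b + l • c.π d1 + m • c.π d2 := fun b hb e' => by
    have h3 := p.mulA hb hd e e'
    rw [p.wp.D_sq hd.1 hd.2, mul_one] at h3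
    have h4 := mul_mem ha hb
    obtain ⟨l, m, h5⟩ : ∃ l m : ZMod 2, c.π (a * b) = l • c.π d1 + m • c.π d2 := by
      rcases (p.rank h4 hk (comm_of_conj_eq h3)).resolve_right (not_or.2 (p.nm hk m3 e3 n1)) with h | h
      · exact h1 _ ⟨h4.1, h⟩
      · rw [← c.co.map_mul_z h4.1]; exact h1 _ ⟨mul_mem h4.1 p.hyp.es.mem, h⟩
    exact ⟨l, m, by rw [add_assoc, ← h5, c.co.map_mul _ ha.1 _ hb.1]; grind⟩
  rcases p.four m1 m2 n1 n2 n3 hd with rfl | rfl | rfl | rfl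
  · obtain ⟨l, m, h⟩ := h2 1 (one_mem _) (by simp)
    exact ⟨0, 0, l, m, by simpa [c.co.map_one] using h⟩
  · obtain ⟨l, m, h⟩ := h2 q1 m3 e3
    exact ⟨1, 0, l, m, by simpa using h⟩
  · obtain ⟨l, m, h⟩ := h2 q2 m4 e2
    exact ⟨0, 1, l, m, by simpa using h⟩
  · obtain ⟨l, m, h⟩ := h2 _ (mul_mem m3 m4) (p.mulA m4 m1 e3 e2)
    exact ⟨1, 1, l, m, by simpa [c.co.map_mul _ m3.1 _ m4.1] using h⟩

theorem ptG (c : Cd z) (hd : d ∈ DD z s) (hd' : d' ∈ DD z s) (h1 : d ≠ 1) (h2 : d' ≠ 1) (h3 : d' ≠ d) :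
    ∃ x, (x ∈ Qx z ∧ x⁻¹ * s * x = s * d * z) ∧ polar c.q (c.π x) (c.π d) = 0 ∧
      polar c.q (c.π x) (c.π d') = 1 := by
  obtain ⟨x, hx, e⟩ := p.pt hd h1
  have es := p.hyp.es
  have h4 : x * d = d * x := by
    by_contra h
    have h5 : x * x * s = s * (x * x) := by
      rcases es.sq hx with e | e <;> rw [e]
      exacts [by simp, p.comm.symm]
    have h6 : x⁻¹ * d * x⁻¹⁻¹ = d * z := es.conj_of_ne hd.1 (inv_mem hx) fun e => h (by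
      calc x * d = x * (d * x⁻¹) * x := by group
        _ = _ := by rw [← e]; group)
    have h7 : x⁻¹ * z * x⁻¹⁻¹ = z := conj_eq_of_comm (es.comm_z _ (inv_mem hx))
    have h8 : s = s * d * z * (d * z) * z := by
      calc s = x⁻¹ * (x⁻¹ * s * x) * x⁻¹⁻¹ := by
            rw [← mul_left_cancel_iff (a := x * x), h5]; group
        _ = _ := by rw [e, ← conj_mul, ← conj_mul, h6, h7, inv_inv, e]
    rw [es.comm_z d hd.1, ← mul_assoc _ z d, es.zz', mul_assoc s d d, p.wp.D_sq hd.1 hd.2] at h8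
    exact es.ne_one (by simpa using h8)
  refine ⟨x, ⟨hx, e⟩, (c.co.polar_iff hx hd.1).2 h4, c.b_ne hx hd'.1 fun h => ?_⟩
  have h5 := (p.mem_A hx).2 fun y hy => by
    rcases p.four hd hd' h1 h2 h3 hy with rfl | rfl | rfl | rfl
    exacts [by simp, h4, h, by rw [← mul_assoc, h4, mul_assoc, h, mul_assoc]]
  rw [mul_assoc, ← h5, inv_mul_cancel_left, mul_assoc, left_eq_mul] at e
  exact p.wp.z_not_mem (eq_inv_of_mul_eq_one_right e ▸ inv_mem hd.2)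

omit [Finite G] [IsSimpleGroup G] in
theorem lift (c : Cd z) (hd : d ∈ DD z s) (hx : x ∈ Qx z ∧ x⁻¹ * s * x = s * d * z) (ha : a ∈ AA z s)
    (m : ZMod 2) : ∃ t, (t ∈ Qx z ∧ t⁻¹ * s * t = s * d * z) ∧ c.π t = c.π x + m • c.π a := by
  rcases zmod2_cases m with rfl | rfl
  · exact ⟨x, hx, by simp⟩
  refine ⟨x * a, ⟨mul_mem hx.1 ha.1, ?_⟩, by rw [c.co.map_mul _ hx.1 _ ha.1, one_smul]⟩
  have : Commute a (s * d * z) :=
    ((show Commute a s from mem_cent.1 ha.2).mul_right (p.dA hd ha)).mul_right (p.hyp.es.comm_z a ha.1)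
  calc _ = a⁻¹ * (x⁻¹ * s * x * a) := by group
    _ = _ := by rw [hx.2, ← this.eq]; group

theorem movA (c : Cd z) (hk : k ∈ AA s z) (hx : x ∈ Qx z) :
    ∃ a ∈ AA z s, (c.r k).1 (c.π x) = c.π x + c.π a := by
  have hz := mem_cent.1 hk.2
  have h1 : k * x * k⁻¹ * x⁻¹ ∈ Qx z := mul_mem (p.hyp.pre.norm k hz x hx) (inv_mem hx)
  refine ⟨_, ⟨h1, mem_cent.2 ((p.mem_A h1).2 fun d hd => ((c.co.polar_iff hd.1 h1).1 ?_).symm)⟩, ?_⟩ <;>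
    rw [c.π_comm hz hx]
  · exact b_fix ((c.r_fix hz hd.1).2 (.inl (conj_eq_of_comm (p.dB hd hk)))) _
  · grind

omit [Finite G] [IsSimpleGroup G] in
/-- multiplying `k` by `d ∈ D₀` corrects a sign -/
theorem fix1 (c : Cd z) {t t' T : G} (hk : k ∈ AA s z) (hd : d ∈ DD z s) (ht : t ∈ Qx z) (ht' : t' ∈ Qx z)
    (hT : T ∈ Qx z) (h1 : polar c.q (c.π t) (c.π d) = 1) (h2 : polar c.q (c.π t') (c.π d) = 0)
    (e : c.π (k * t * k⁻¹) = c.π T) : ∃ k' ∈ AA s z, (∀ a ∈ AA z s, k' * a * k'⁻¹ = k * a * k⁻¹) ∧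
      k' * t * k'⁻¹ = T ∧ k' * t' * k'⁻¹ = k * t' * k⁻¹ := by
  have hz := mem_cent.1 hk.2
  rcases (c.co.eq_iff (p.hyp.pre.norm k hz t ht) hT).1 e with e | e
  · exact ⟨k, hk, fun _ _ => rfl, e.symm, rfl⟩
  have h3 : ∀ x, k * d * x * (k * d)⁻¹ = k * (d * x * d⁻¹) * k⁻¹ := fun x => by group
  refine ⟨k * d, mul_mem hk (p.symm.DA ⟨hd.2, hd.1⟩), fun a ha => ?_, ?_, ?_⟩ <;> rw [h3]
  · rw [conj_eq_of_comm (p.dA hd ha).symm]
  · rw [p.hyp.es.conj_of_ne ht hd.1 fun h => by simp [(c.co.polar_iff ht hd.1).2 h.symm] at h1, e,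
      ← conj_mul, conj_eq_of_comm hz]
  · rw [conj_eq_of_comm ((c.co.polar_iff ht' hd.1).1 h2).symm]

omit [Finite G] [IsSimpleGroup G] in
theorem s_conj (hd : d ∈ DD z s) (hx : x⁻¹ * s * x = s * d * z) : s * x = x * (d * z) * s := by
  have : Commute s (d * z) := (show Commute s d from (p.wp.D_comm_s hd.2).symm).mul_right p.comm
  rw [mul_assoc, ← this.eq, ← mul_assoc s, ← hx]; group

omit [Finite G] [IsSimpleGroup G] in
theorem fix (c : Cd z) {t1 t2 w1 w2 d1 d2 T1 T2 : G} (hk : k ∈ AA s z) (m1 : d1 ∈ DD z s) (m2 : d2 ∈ DD z s)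
    (h1 : t1 ∈ Qx z ∧ t1⁻¹ * s * t1 = s * d1 * z) (h2 : t2 ∈ Qx z ∧ t2⁻¹ * s * t2 = s * d2 * z)
    (g : Gr c.q (c.π t1) (c.π t2) (c.π w1) (c.π w2) (c.π d1) (c.π d2)) (hT1 : T1 ∈ Qx z) (hT2 : T2 ∈ Qx z)
    (γ : ZMod 2) (e1 : (c.r k).1 (c.π t1) = c.π T1 + γ • c.π d1)
    (e2 : (c.r k).1 (c.π t2) = c.π T2 + γ • c.π d2) :
    ∃ k' ∈ AA s z, (∀ a ∈ AA z s, k' * a * k'⁻¹ = k * a * k⁻¹) ∧
      k' * t1 * k'⁻¹ = T1 ∧ k' * t2 * k'⁻¹ = T2 := by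
  have hz := mem_cent.1 hk.2
  obtain ⟨k', hk', a1, a2, a3⟩ : ∃ k' ∈ AA s z, (∀ a ∈ AA z s, k' * a * k'⁻¹ = k * a * k⁻¹) ∧
      c.π (k' * t1 * k'⁻¹) = c.π T1 ∧ c.π (k' * t2 * k'⁻¹) = c.π T2 := by
    rcases zmod2_cases γ with rfl | rfl
    · exact ⟨k, hk, fun _ _ => rfl, by rw [← c.r_act hz h1.1, e1]; simp, by rw [← c.r_act hz h2.1, e2]; simp⟩
    have h3 : ∀ x, k * s * x * (k * s)⁻¹ = k * (s * x * s⁻¹) * k⁻¹ := fun x => by group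
    have h4 : ∀ {t d v}, d ∈ DD z s → t ∈ Qx z ∧ t⁻¹ * s * t = s * d * z →
        (c.r k).1 (c.π t) = v + (1 : ZMod 2) • c.π d → c.π (k * s * t * (k * s)⁻¹) = v := by
      intro t d v hd ht e
      have hm := mul_mem hd.1 p.hyp.es.mem
      rw [h3, p.s_conj hd ht.2, mul_inv_cancel_right, ← c.r_act hz (mul_mem ht.1 hm), c.co.map_mul _ ht.1 _ hm,
        c.co.map_mul_z hd.1, map_add, e, (c.r_fix hz hd.1).2 (.inl (conj_eq_of_comm (p.dB hd hk))), one_smul,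
        add_assoc, vv, add_zero]
    exact ⟨k * s, mul_mem hk ⟨p.wp.h1.es.mem, mem_cent.2 p.comm⟩, fun a ha => by
      rw [h3, conj_eq_of_comm (mem_cent.1 ha.2).symm], h4 m1 h1 e1, h4 m2 h2 e2⟩
  obtain ⟨k2, hk2, b1, b2, b3⟩ := p.fix1 c hk' m2 h1.1 h2.1 hT1 g.v1n2 g.v2n2 a2
  obtain ⟨k3, hk3, c1, c2, c3⟩ := p.fix1 c hk2 m1 h2.1 h1.1 hT2 g.v2n1 g.v1n1 (b3 ▸ a3)
  exact ⟨k3, hk3, fun a ha => (c1 a ha).trans ((b1 a ha).trans (a1 a ha)), c3.trans b2, c2⟩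

end T3

open SylT TU in
theorem T3.exists_hom [IsSimpleGroup G] {z s : G} (p : T3 z s) :
    ∃ φ : SylT.TU →* G, Function.Injective φ := by
  obtain ⟨c⟩ := p.hyp.exists_cd
  have es := p.hyp.es
  have es' := p.wp.h1.es
  obtain ⟨d1, m1, d2, m2, q1, m3, q2, m4, l1, m5, l2, m6, n1, n2, n3, e1, e2, e3, e4⟩ := p.base
  have n4 : d1 * d2 ≠ 1 := fun e => n3 (by
    rw [← one_mul d2, ← p.wp.D_sq m1.1 m1.2, mul_assoc, e, mul_one])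
  have sqA : ∀ {a d}, a ∈ AA z s → d ∈ DD z s → l1 * a * l1⁻¹ = a * d → d ≠ 1 → a * a = z :=
    fun ha hd e h => p.symm.ksq ha m5 (p.flip m5 ha hd e) h
  have s1 := sqA m3 m1 e4 n1
  have s2 := sqA m4 m2 e3 n2
  have s3 := q8 s2 s1 (sqA (mul_mem m4 m3) (mul_mem m2 m1) (p.mulA m3 m2 e3 e4)
    (p.dA m2 (p.DA m1) ▸ n4)) es.mul_self
  obtain ⟨x1, hx1, b1, b2⟩ := p.ptG c m1 m2 n1 n2 n3
  obtain ⟨x2, hx2, b3, b4⟩ := p.ptG c m2 m1 n2 n1 n3.symm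
  have hA : ∀ {a d}, a ∈ AA z s → d ∈ DD z s → polar c.q (c.π a) (c.π d) = 0 := fun ha hd =>
    (c.co.polar_iff ha.1 hd.1).2 (p.dA hd ha)
  obtain ⟨a, b, e, f, a', b', e', g⟩ := Gr0.adj (q := c.q) ⟨(c.co.sq_one m3.1).2 s1, (c.co.sq_one m4.1).2 s2,
    (c.co.sq _ m1.1).2 (p.wp.D_sq m1.1 m1.2), (c.co.sq _ m2.1).2 (p.wp.D_sq m2.1 m2.2),
    c.b_ne m3.1 m4.1 fun h => es.ne_one (by
      rw [← h, mul_assoc, mul_right_inj, right_eq_mul] at s3; exact s3),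
    hA (p.DA m1) m2, hA m3 m1, hA m3 m2, hA m4 m1, hA m4 m2, b1, b2, b4, b3⟩
  obtain ⟨x3, hx3, f1⟩ := p.lift c m1 hx1 m3 a
  obtain ⟨x4, hx4, f2⟩ := p.lift c m1 hx3 m4 b
  obtain ⟨x5, hx5, f3⟩ := p.lift c m1 hx4 (p.DA m1) e
  obtain ⟨t1, ht1, f4⟩ := p.lift c m1 hx5 (p.DA m2) f
  obtain ⟨x6, hx6, f5⟩ := p.lift c m2 hx2 m3 a'
  obtain ⟨x7, hx7, f6⟩ := p.lift c m2 hx6 m4 b'
  obtain ⟨t2, ht2, f7⟩ := p.lift c m2 hx7 (p.DA m1) e'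
  rw [← f1, ← f2, ← f3, ← f4, ← f5, ← f6, ← f7] at g
  clear f1 f2 f3 f4 f5 f6 f7 hx1 hx2 hx3 hx4 hx5 hx6 hx7 b1 b2 b3 b4 x1 x2 x3 x4 x5 x6 x7 a b e f a' b' e'
  have mv : ∀ {k x}, k ∈ AA s z → x ∈ Qx z → ∃ i j l m : ZMod 2, (c.r k).1 (c.π x) =
      c.π x + i • c.π q1 + j • c.π q2 + l • c.π d1 + m • c.π d2 := fun hk hx => by
    obtain ⟨a, ha, e⟩ := p.movA c hk hx
    obtain ⟨i, j, l, m, e'⟩ := p.span c m1 m2 m3 m4 m5 n1 n2 n3 e3 e4 ha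
    exact ⟨i, j, l, m, by rw [e, e']; simp only [add_assoc]⟩
  have act : ∀ {k a d}, k ∈ AA s z → a ∈ AA z s → d ∈ DD z s → k * a * k⁻¹ = a * d →
      (c.r k).1 (c.π a) = c.π a + c.π d := fun hk ha hd e => by
    rw [c.r_act (mem_cent.1 hk.2) ha.1, e, c.co.map_mul _ ha.1 _ hd.1]
  have y1 := mul_mem m1.1 es.mem
  have y2 := mul_mem m2.1 es.mem
  have π1 := c.co.map_mul_z m1.1
  have π2 := c.co.map_mul_z m2.1
  have πm : ∀ {x y}, x ∈ Qx z → y ∈ Qx z → c.π (x * y) = c.π x + c.π y := fun hx hy => c.co.map_mul _ hx _ hy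
  obtain ⟨k2, m8, a1, a2, a3⟩ : ∃ k ∈ AA s z, (∀ a ∈ AA z s, k * a * k⁻¹ = l2 * a * l2⁻¹) ∧
      k * t1 * k⁻¹ = q2 * (d2 * z) * t1 ∧ k * t2 * k⁻¹ = t2 * q1 * q2 * (d2 * z) * (d1 * z) := by
    obtain ⟨i, j, l, m, h1⟩ := mv m6 ht1.1
    obtain ⟨i', j', l', m', h2⟩ := mv m6 ht2.1
    obtain ⟨rfl, rfl, rfl, rfl, rfl, rfl, rfl⟩ := g.act (α1 := 1) (α2 := 1) (β1 := 1) (β2 := 0) _
      (by rw [act m6 m3 (mul_mem m1 m2) e2, πm m1.1 m2.1]; simp [add_assoc])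
      (by rw [act m6 m4 m1 e1]; simp) h1 h2
    have u1 := mul_mem m4.1 y2
    have u2 := mul_mem ht2.1 m3.1
    have u3 := mul_mem u2 m4.1
    have u4 := mul_mem u3 y2
    refine p.fix c m6 m1 m2 ht1 ht2 g (mul_mem u1 ht1.1) (mul_mem u4 y1) l ?_ ?_
    · rw [h1, πm u1 ht1.1, πm m4.1 y2, π2]; module
    · rw [h2, πm u4 y1, πm u3 y2, πm u2 m4.1, πm ht2.1 m3.1, π1, π2, (by decide : (1 + 1 + 1 * 1 : ZMod 2) = 1)]
      module
  obtain ⟨k1, m7, a4, a5, a6⟩ : ∃ k ∈ AA s z, (∀ a ∈ AA z s, k * a * k⁻¹ = l1 * a * l1⁻¹) ∧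
      k * t1 * k⁻¹ = q1 * (d2 * z) * t1 ∧ k * t2 * k⁻¹ = t2 * q2 * (d2 * z) * (d1 * z) := by
    obtain ⟨i, j, l, m, h1⟩ := mv m5 ht1.1
    obtain ⟨i', j', l', m', h2⟩ := mv m5 ht2.1
    obtain ⟨rfl, rfl, rfl, rfl, rfl, rfl, rfl⟩ := g.act (α1 := 1) (α2 := 0) (β1 := 0) (β2 := 1) _
      (by rw [act m5 m3 m1 e4]; simp) (by rw [act m5 m4 m2 e3]; simp) h1 h2
    have u1 := mul_mem m3.1 y2
    have u3 := mul_mem ht2.1 m4.1
    have u4 := mul_mem u3 y2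
    refine p.fix c m5 m1 m2 ht1 ht2 g (mul_mem u1 ht1.1) (mul_mem u4 y1) l ?_ ?_
    · rw [h1, πm u1 ht1.1, πm m3.1 y2, π2]; module
    · rw [h2, πm u4 y1, πm u3 y2, πm ht2.1 m4.1, π1, π2]; module
  rw [← a1 _ m4] at e1
  rw [← a1 _ m3] at e2
  rw [← a4 _ m4] at e3
  rw [← a4 _ m3] at e4
  have r1 := p.ksq m8 m4 e1 n1
  have r2 := p.ksq m7 m4 e3 n2
  have r3 := q8 r1 r2 (p.ksq (mul_mem m8 m7) m4 (p.mulB m8 m2 e1 e3) n4) p.wp.ss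
  let x (i : ℕ) : G := [k2, k1, s, t2, t1, q2, q1, d2 * z, d1 * z, z].getD i 1
  have hQ : ∀ i < 10, 2 < i → x i ∈ Qx z := fun i hi h => by
    interval_cases i
    exacts [ht2.1, ht1.1, m4.1, m3.1, y2, y1, es.mem]
  have hx : PcRel x 10 psq pcj := fun i hi => by
    by_cases h : 2 < i
    · have hi' := hQ i hi h
      refine ⟨?_, fun j hj hij => ?_⟩
      · have H := (c.co.sq _ hi').1
        interval_cases i
        exacts [H g.qv2, H g.qv1, s2.trans (mul_one z).symm, s1.trans (mul_one z).symm,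
          H (π2 ▸ g.qn2 :), H (π1 ▸ g.qn1 :), es.mul_self]
      have hj' := hQ j hj (h.trans hij)
      have H0 : polar c.q (c.π (x i)) (c.π (x j)) = 0 → x i * x j = x j * 1 * x i := fun e => by
        rw [mul_one, (c.co.polar_iff hi' hj').1 e]
      have H1 : polar c.q (c.π (x i)) (c.π (x j)) = 1 → x i * x j = x j * (z * 1) * x i := fun e => by
        rw [mul_one, es.comm_z _ hj', mul_assoc]
        exact es.comm_of_ne hi' hj' fun h => by simp [(c.co.polar_iff hi' hj').2 h] at e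
      obtain ⟨g1, g2, -⟩ := g.rev
      have g3 := (polar_comm _ _ _).trans g.v12
      interval_cases i <;> interval_cases j <;> first
        | refine H0 ?_
        | refine H1 ?_
      all_goals simp [x, π1, π2, c.co.map_z, g1, g2, g3, g.v2w1, g.v2w2, g.v2n1, g.v2n2, g.v1w1, g.v1w2,
        g.v1n1, g.v1n2, g.w1n1, g.w1n2, g.w2n1, g.w2n2]
    have hy : ∀ {k d}, k * z = z * k → k * d = d * k → k * (d * z) = d * z * k := fun h h' =>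
      (Commute.mul_right h' h).eq
    have yy : d2 * z * (d1 * z) = d1 * d2 := by
      rw [es.comm_z d1 m1.1, ← mul_assoc, es.zz', p.dA m2 (p.DA m1)]
    have cj : ∀ {k t w w' : G}, k * t * k⁻¹ = w → w = w' → k * t = w' * k := fun h h' =>
      mul_inv_eq_iff_eq_mul.1 (h.trans h')
    have sd := fun {d} (hd : d ∈ DD z s) => (p.wp.D_comm_s hd.2).symm
    have kz := fun {k} (hk : k ∈ AA s z) => mem_cent.1 hk.2
    refine ⟨?_, fun j hj hij => ?_⟩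
    · interval_cases i
      exacts [r1.trans (mul_one s).symm, r2.trans (mul_one s).symm, p.wp.ss]
    interval_cases i <;> interval_cases j <;>
      simp only [ew, pcj, x, List.getD_cons_zero, List.getD_cons_succ, List.getD_nil, List.map_cons,
        List.map_nil, List.prod_cons, List.prod_nil, mul_one]
    exacts [r3, es'.comm_z _ m8.1, cj a3 (by simp only [mul_assoc]), cj a2 (mul_assoc ..),
      cj e1 (by rw [es.zz']), cj e2 (by rw [yy]), hy (kz m8) (p.dB m2 m8), hy (kz m8) (p.dB m1 m8), kz m8,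
      es'.comm_z _ m7.1, cj a6 (by simp only [mul_assoc]), cj a5 (mul_assoc ..), cj e3 (by rw [es.zz']),
      cj e4 (by rw [es.zz']), hy (kz m7) (p.dB m2 m7), hy (kz m7) (p.dB m1 m7), kz m7, p.s_conj m2 ht2.2,
      p.s_conj m1 ht1.2, (mem_cent.1 m4.2).symm, (mem_cent.1 m3.2).symm, hy p.comm (sd m2),
      hy p.comm (sd m1), p.comm]
  obtain ⟨φ, hφ⟩ := exists_hom_pc (x := x) (g := pg) (by decide) hx (by decide +kernel) card_T.ge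
    fun S hS => W2.TG.eq_top_of_genB gen4 (by
      simp only [List.forall_mem_cons]
      exact ⟨hS 4 (by norm_num), hS 3 (by norm_num), hS 1 (by norm_num), hS 0 (by norm_num), by simp⟩)
  exact ⟨φ, inj_of fun h => es.ne_one ((hφ 9 (by norm_num)).symm.trans h)⟩

end CfsgLib.LXQ

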