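import Cfsg.Agent.Lib.Small9.Lin
import Cfsg.Agent.Lib.OrthE.Simple
import Cfsg.Agent.Lib.OrthE.Normal
import Cfsg.Agent.Lib.Orth.Lagrangian

/-!
# `O₆(2)`: Siegel transformations, small linear algebra, the structures `LK`, `LD` (plans/LXQ.md)

`grind` proves identities between sums of vectors of `V` (characteristic 2).
-/

set_option autoImplicit false

namespace CfsgLib.LXQ

open QuadraticMap Module CfsgLib.ExtraTwo CfsgLib.OrthE CfsgLib.Small9

abbrev V : Type := Fin 6 → ZMod 2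
abbrev Sub : Type := Submodule (ZMod 2) V

variable {q : QuadraticForm (ZMod 2) V}

local notation "β" => polar q
local notation "dim" => finrank (ZMod 2)

theorem vv (v : V) : v + v = 0 := add_self_zmod2 v
theorem bself (v : V) : β v v = 0 := by rw [polar_self, two_smul, add_self_zmod2]
theorem qadd (v w : V) : q (v + w) = q v + q w + β v w := Q_add q v w
theorem dimV : dim V = 6 := by simp
theorem cardV : Nat.card V = 64 := by simp

theorem bsing {S : Sub} (h : ∀ v ∈ S, q v = 0) {v w : V} (hv : v ∈ S) (hw : w ∈ S) : β v w = 0 :=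
  polar_eq_zero_of_ts h hv hw

theorem eich_eq {t u : V} (ht : q t = 0) (hu : β t u = 0) (v : V) :
    (eich q t u).1 v = v + β v u • t + β v t • u + (q u * β v t) • t := by
  rw [eich_apply ht hu, sub_zmod2, sub_zmod2]

theorem eich_sq {t u : V} (ht : q t = 0) (hu : β t u = 0) : eich q t u * eich q t u = 1 := by
  rw [eich_mul ht hu hu, vv, eich_zero_right]

theorem eich_inv {t u : V} (ht : q t = 0) (hu : β t u = 0) : (eich q t u)⁻¹ = eich q t u :=
  inv_eq_of_mul_eq_one_right (eich_sq ht hu)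

theorem eich_add_self {t u : V} (ht : q t = 0) (hu : β t u = 0) : eich q t (u + t) = eich q t u := by
  simpa using eich_add_smul_self (1 : ZMod 2) ht hu

theorem eich_self (t : V) : eich q t t = 1 := by simpa using eich_smul_self (Q := q) (1 : ZMod 2) t

theorem eich_swap' {t u : V} (ht : q t = 0) (hu : q u = 0) (h : β t u = 0) :
    eich q u t = eich q t u := by rw [eich_swap ht hu h, eich_inv ht h]

theorem eq_of_add_eq_zero {v w : V} (h : v + w = 0) : v = w := add_eq_zero_zmod2.1 h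

theorem g_ne_zero (g : O q) {v : V} (h : v ≠ 0) : g.1 v ≠ 0 := O_apply_ne_zero g h

/-- `[V, g] ⊥ C_V(g)` -/
theorem b_fix {g : O q} {c : V} (hc : g.1 c = c) (v : V) : β c (g.1 v + v) = 0 := by
  have := polar_fix_sub hc v
  rwa [sub_zmod2] at this

theorem q_mov (g : O q) (v : V) : q (g.1 v + v) = β v (g.1 v + v) := by
  have := qadd (q := q) (g.1 v) v
  rw [O_map] at this
  rw [this, polar_add_right, bself, polar_comm]; grind

theorem dim_le (S : Sub) : dim S ≤ 6 := S.finrank_le.trans dimV.le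

theorem dim_inf (S T : Sub) : dim S + dim T ≤ 6 + dim (S ⊓ T : Sub) := by
  have := Submodule.finrank_sup_add_finrank_inf_eq S T
  have := dim_le (S ⊔ T)
  omega

theorem mem_span2 {a b v : V} :
    v ∈ Submodule.span (ZMod 2) {a, b} ↔ v = 0 ∨ v = a ∨ v = b ∨ v = a + b := by
  rw [Submodule.mem_span_pair]
  constructor
  · rintro ⟨x, y, rfl⟩
    rcases zmod2_cases x with rfl | rfl <;> rcases zmod2_cases y with rfl | rfl <;> simp
  · rintro (rfl | rfl | rfl | rfl)
    exacts [⟨0, 0, by simp⟩, ⟨1, 0, by simp⟩, ⟨0, 1, by simp⟩, ⟨1, 1, by simp⟩]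

theorem card_le_of {S : Sub} (l : List V) (h : ∀ v ∈ S, v ∈ l) : 2 ^ dim S ≤ l.length := by
  classical
  rw [← card_eq]
  calc Nat.card S = (S : Set V).ncard := rfl
    _ ≤ (l.toFinset : Set V).ncard := Set.ncard_le_ncard (fun v hv => by simpa using h v hv)
    _ ≤ _ := by rw [Set.ncard_coe_finset]; exact l.toFinset_card_le

/-- a subspace of dimension `≥ k` is not contained in a list shorter than `2 ^ k` -/
theorem exists_not_mem {S : Sub} {k : ℕ} (hk : k ≤ dim S) (l : List V) (h : l.length < 2 ^ k) :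
    ∃ v ∈ S, v ∉ l := by
  by_contra hc
  push Not at hc
  exact absurd ((Nat.pow_le_pow_right two_pos hk).trans (card_le_of l hc)) (by omega)

theorem le_dim_of {S : Sub} {k : ℕ} (l : List V) (hl : l.Nodup) (h : ∀ v ∈ l, v ∈ S)
    (hk : 2 ^ k < l.length) : k < dim S := by
  classical
  refine (Nat.pow_lt_pow_iff_right (a := 2) (by norm_num)).1 (hk.trans_le ?_)
  rw [← card_eq, ← List.toFinset_card_of_nodup hl, ← Set.ncard_coe_finset]
  exact Set.ncard_le_ncard (t := (S : Set V)) fun v hv => h v (by simpa using hv)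

theorem three_le_dim {S : Sub} {a b c : V} (ha : a ∈ S) (hb : b ∈ S) (hc : c ∈ S) (h1 : a ≠ 0)
    (h2 : b ≠ 0) (h3 : b ≠ a) (h4 : c ≠ 0) (h5 : c ≠ a) (h6 : c ≠ b) (h7 : c ≠ a + b) : 3 ≤ dim S := by
  refine le_dim_of (k := 2) [0, a, b, a + b, c] ?_ ?_ (by simp)
  · simp only [List.nodup_cons, List.mem_cons, List.not_mem_nil, or_false, not_or, List.nodup_nil]
    grind
  · simp only [List.mem_cons, List.not_mem_nil, or_false]
    rintro v (rfl | rfl | rfl | rfl | rfl)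
    exacts [S.zero_mem, ha, hb, S.add_mem ha hb, hc]

/-- the elements of a subspace of dimension `≤ 2` -/
theorem mem2 {S : Sub} (hS : dim S ≤ 2) {a b v : V} (ha : a ∈ S) (hb : b ∈ S) (hv : v ∈ S) (h1 : a ≠ 0)
    (h2 : b ≠ 0) (h3 : b ≠ a) : v = 0 ∨ v = a ∨ v = b ∨ v = a + b := by
  by_contra hc
  push Not at hc
  have := three_le_dim ha hb hv h1 h2 h3 hc.1 hc.2.1 hc.2.2.1 hc.2.2.2
  omega

/-- the elements of a subspace of dimension `≤ 3` -/
theorem mem3 {S : Sub} (hS : dim S ≤ 3) {a b c v : V} (ha : a ∈ S) (hb : b ∈ S) (hc : c ∈ S)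
    (hv : v ∈ S) (h1 : a ≠ 0) (h2 : b ≠ 0) (h3 : b ≠ a) (h4 : c ≠ 0) (h5 : c ≠ a) (h6 : c ≠ b)
    (h7 : c ≠ a + b) : ∃ x y w : ZMod 2, v = x • a + y • b + w • c := by
  by_contra hn
  push Not at hn
  have e0 := hn 0 0 0; have e1 := hn 1 0 0; have e2 := hn 0 1 0; have e3 := hn 1 1 0
  have e4 := hn 0 0 1; have e5 := hn 1 0 1; have e6 := hn 0 1 1; have e7 := hn 1 1 1
  simp only [zero_smul, one_smul, add_zero, zero_add] at e0 e1 e2 e3 e4 e5 e6 e7
  have : 3 < dim S := by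
    refine le_dim_of [0, a, b, a + b, c, a + c, b + c, a + b + c, v] ?_ ?_ (by simp)
    · simp only [List.nodup_cons, List.mem_cons, List.not_mem_nil, or_false, not_or, List.nodup_nil]
      and_intros <;> grind
    · simp only [List.mem_cons, List.not_mem_nil, or_false]
      rintro v (rfl | rfl | rfl | rfl | rfl | rfl | rfl | rfl | rfl)
      exacts [S.zero_mem, ha, hb, S.add_mem ha hb, hc, S.add_mem ha hc, S.add_mem hb hc,
        S.add_mem (S.add_mem ha hb) hc, hv]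
  omega

/-- the hyperplane `t^⊥` -/
def pv (q : QuadraticForm (ZMod 2) V) (t : V) : Sub := LinearMap.ker (polarBilin q t)

theorem mem_pv {t v : V} : v ∈ pv q t ↔ β t v = 0 := Iff.rfl

theorem dim_inf_pv (S : Sub) (t : V) : dim S ≤ dim (S ⊓ pv q t : Sub) + 1 :=
  CfsgLib.Orth.finrank_le_inf_add_one S t

theorem exists_sing {S : Sub} (h : 3 ≤ dim S) : ∃ v ∈ S, v ≠ 0 ∧ q v = 0 := by
  obtain ⟨a, ha, h1⟩ := exists_not_mem h [0] (by simp)
  obtain ⟨b, hb, h2⟩ := exists_not_mem h [0, a] (by simp)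
  obtain ⟨c, hc, h3⟩ := exists_not_mem h [0, a, b, a + b] (by simp)
  simp only [List.mem_cons, List.not_mem_nil, or_false, not_or] at h1 h2 h3
  by_contra hn
  push Not at hn
  have k : ∀ v ∈ S, v ≠ 0 → q v = 1 := fun v hv h => zmod2_ne_zero.1 (hn v hv h)
  have e1 := k _ ha h1; have e2 := k _ hb h2.1; have e3 := k _ hc h3.1
  have e4 := k _ (S.add_mem ha hb) (by grind)
  have e5 := k _ (S.add_mem ha hc) (by grind)
  have e6 := k _ (S.add_mem hb hc) (by grind)
  have e7 := k _ (S.add_mem (S.add_mem ha hb) hc) (by grind)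
  simp only [qadd, polar_add_left] at e4 e5 e6 e7
  grind

section nd
variable (nd : Nondeg q)
include nd

theorem dim_pp (S : Sub) : dim (pp q S) + dim S = 6 := by
  rw [pp_eq, LinearMap.BilinForm.finrank_orthogonal ((nondeg_iff q).1 nd), dimV]
  have := dim_le S
  omega

theorem pp_pp (S : Sub) : pp q (pp q S) = S := by
  rw [pp_eq, pp_eq]
  exact LinearMap.BilinForm.orthogonal_orthogonal ((nondeg_iff q).1 nd)
    (CfsgLib.Orth.polarBilin_isRefl q) S

theorem dim_iso {S : Sub} (h : ∀ v ∈ S, ∀ w ∈ S, β v w = 0) : dim S ≤ 3 := by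
  have h1 : dim S ≤ dim (pp q S) := Submodule.finrank_mono fun v hv s hs => h s hs v hv
  have := dim_pp nd S
  omega

/-- an isotropic 3-space is its own perp -/
theorem mem_of_perp {S : Sub} (h : ∀ v ∈ S, ∀ w ∈ S, β v w = 0) (h3 : 3 ≤ dim S) {x : V}
    (hx : ∀ v ∈ S, β v x = 0) : x ∈ S := by
  have h1 : S ≤ pp q S := fun v hv s hs => h s hs v hv
  have := dim_pp nd S
  rw [eq_of_dim h1 (by omega)]
  exact hx

theorem exists_b {v : V} (h : v ≠ 0) : ∃ w, β v w = 1 :=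
  let ⟨w, hw⟩ := nd.exists_eq h 1; ⟨w, by rwa [polar_comm]⟩

/-- a vector outside `S` is separated from `S` -/
theorem exists_sep {S : Sub} {x : V} (hx : x ∉ S) : ∃ w, (∀ s ∈ S, β s w = 0) ∧ β x w = 1 :=
  CfsgLib.Orth.exists_perp_polar_eq ((nondeg_iff q).1 nd) hx 1

/-- `t^⊥⊥ = ⟨t⟩` -/
theorem eq_of_perp {t x : V} (h : ∀ v, β t v = 0 → β x v = 0) : x = 0 ∨ x = t := by
  by_contra hc
  push Not at hc
  obtain ⟨w, h1, h2⟩ := exists_sep nd (S := Submodule.span _ {t}) (x := x) fun hx => by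
    obtain ⟨c, rfl⟩ := Submodule.mem_span_singleton.1 hx
    rcases zmod2_cases c with rfl | rfl <;> simp at hc
  rw [h w (h1 t (Submodule.mem_span_singleton_self t))] at h2
  exact zero_ne_one h2

theorem exists_b2 {a b : V} (h1 : a ≠ 0) (h2 : b ≠ 0) (h3 : b ≠ a) (x y : ZMod 2) :
    ∃ w, β a w = x ∧ β b w = y := by
  have k : ∀ {a b : V}, b ≠ 0 → b ≠ a → ∃ w, β a w = 0 ∧ β b w = 1 := fun {a b} h h' => by
    by_contra hc
    push Not at hc
    rcases eq_of_perp nd (t := a) (x := b) fun v hv => (zmod2_cases _).resolve_right (hc v hv) with e | e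
    exacts [h e, h' e]
  obtain ⟨u, u1, u2⟩ := k h2 h3
  obtain ⟨v, v1, v2⟩ := k h1 h3.symm
  exact ⟨x • v + y • u, by simp [polar_add_right, polar_smul_right, u1, u2, v1, v2]⟩

theorem dim_pv {t : V} (h : t ≠ 0) : dim (pv q t) = 5 := by
  have h1 := dim_inf_pv (q := q) ⊤ t
  rw [top_inf_eq, finrank_top, dimV] at h1
  obtain ⟨w, hw⟩ := exists_b nd h
  have h2 : dim (pv q t) < dim (⊤ : Sub) := dim_lt le_top (v := w) trivial fun e => by
    rw [mem_pv.1 e] at hw; exact zero_ne_one hw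
  rw [finrank_top, dimV] at h2
  omega

theorem eich_eq_one {t u : V} (ht : q t = 0) (hu : β t u = 0) (h0 : t ≠ 0) (h : eich q t u = 1) :
    u = 0 ∨ u = t := eq_of_perp nd fun v hv => by
  have := eich_eq ht hu v
  rw [h, O_one_apply, polar_comm q v t, hv] at this
  rcases zmod2_cases (β v u) with e | e
  · rwa [polar_comm]
  · rw [e] at this
    simp only [one_smul, zero_smul, mul_zero, add_zero] at this
    exact absurd (by grind) h0

theorem eich_inj {t u w : V} (ht : q t = 0) (hu : β t u = 0) (hw : β t w = 0) (h0 : t ≠ 0)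
    (h : eich q t u = eich q t w) : w = u ∨ w = u + t := by
  have := eich_eq_one nd ht (u := u + w) (by rw [polar_add_right, hu, hw, add_zero]) h0
    (by rw [← eich_mul ht hu hw, h, eich_sq ht hw])
  grind

omit nd in
/-- an isometry that fixes `t` and is trivial on `t^⊥ / t` is a Siegel transformation -/
theorem eq_eich {g : O q} {t v₀ : V} (ht : q t = 0) (hg : g.1 t = t)
    (h : ∀ v, β t v = 0 → g.1 v = v ∨ g.1 v = v + t) (h0 : β t v₀ = 1) :
    β t (g.1 v₀ + v₀) = 0 ∧ g = eich q t (g.1 v₀ + v₀) := by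
  have h1 := b_fix hg v₀
  refine ⟨h1, O_ext fun v => ?_⟩
  have h2 : ∀ v, β t v = 0 → g.1 v = (eich q t (g.1 v₀ + v₀)).1 v := fun v hv => by
    have h3 := O_polar g v v₀
    rw [eich_eq ht h1, polar_comm q v t, hv, polar_add_right]
    have h4 : β t (g.1 v₀) = 1 := by rw [polar_add_right, h0] at h1; grind
    rcases h v hv with e | e <;> rw [e] at h3 ⊢
    · rw [h3, add_self_zmod2]; simp
    · rw [polar_add_left, h4] at h3
      rw [show β v (g.1 v₀) + β v v₀ = 1 by grind]; simp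
  have h3 : g.1 v₀ = (eich q t (g.1 v₀ + v₀)).1 v₀ := by
    rw [eich_eq ht h1, polar_comm q v₀ t, h0, q_mov, mul_one, one_smul]; grind
  rcases zmod2_cases (β t v) with e | e
  · exact h2 v e
  · have := h2 (v + v₀) (by rw [polar_add_right, e, h0]; rfl)
    rw [map_add, map_add, ← h3] at this
    exact add_right_cancel this

theorem exists_eich {g : O q} {t : V} (ht : q t = 0) (h0 : t ≠ 0) (hg : g.1 t = t)
    (h : ∀ v, β t v = 0 → g.1 v = v ∨ g.1 v = v + t) : ∃ u, β t u = 0 ∧ g = eich q t u :=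
  let ⟨_, hv⟩ := exists_b nd h0; ⟨_, eq_eich ht hg h hv⟩

/-- `[t^⊥, g] ≤ ⟨t, e⟩` with `e` singular forces `[t^⊥, g] ≤ ⟨t⟩` -/
theorem triv_of_rank {g : O q} {t e : V} (ht : q t = 0) (he : q e = 0) (hte : β t e = 0)
    (h : ∀ v, β t v = 0 → g.1 v + v ∈ Submodule.span (ZMod 2) {t, e}) {v : V} (hv : β t v = 0) :
    g.1 v = v ∨ g.1 v = v + t := by
  have k : ∀ v, β t v = 0 → ¬ (g.1 v = v ∨ g.1 v = v + t) → β e v = 0 := fun v hv hn => by
    have h1 := q_mov g v
    rcases mem_span2.1 (h v hv) with e1 | e1 | e1 | e1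
    · exact absurd (.inl (by grind)) hn
    · exact absurd (.inr (by grind)) hn
    · rw [e1, he] at h1; rw [polar_comm, h1]
    · rw [e1, qadd, ht, he, hte, polar_add_right, polar_comm q v t, hv] at h1
      rw [polar_comm]; grind
  by_contra hn
  rcases eq_of_perp nd (t := t) (x := e) fun w hw => by
    by_contra hc
    have h2 : g.1 w = w ∨ g.1 w = w + t := by_contra fun h3 => hc (k w hw h3)
    have h3 := k (v + w) (by rw [polar_add_right, hv, hw, add_zero]) (by rw [map_add]; grind)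
    rw [polar_add_right, k v hv hn, zero_add] at h3
    exact hc h3 with rfl | rfl <;>
  · have := mem_span2.1 (h v hv)
    grind

theorem dickson_iff (g : O q) : g ∈ commutator (O q) ↔
    Even (dim (LinearMap.range ((g.1 : V →ₗ[ZMod 2] V) - LinearMap.id))) :=
  (CfsgLib.Orth.mem_commutator_iff_of_charTwo ((nondeg_iff q).1 nd) (.inr (by rw [dimV]; decide))
    rfl g).trans (CfsgLib.Orth.dickson_eq_one_iff _ _ g)

theorem eich_mem (t u : V) : eich q t u ∈ commutator (O q) :=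
  nd.E_eq_commutator_of_finite (by rw [dimV]; decide) ▸ eich_mem_E t u

/-- the involutions of `Ω₆(2)` are Siegel transformations -/
theorem invol_eich {g : O q} (hg : g ∈ commutator (O q)) (h2 : g * g = 1) (h1 : g ≠ 1) :
    ∃ n w, q n = 0 ∧ β n w = 0 ∧ n ≠ 0 ∧ w ≠ 0 ∧ w ≠ n ∧ g = eich q n w := by
  set N : Sub := LinearMap.range ((g.1 : V →ₗ[ZMod 2] V) - LinearMap.id) with hN
  have hm : ∀ v, v ∈ N ↔ ∃ w, g.1 w + w = v := fun v =>
    exists_congr fun w => by rw [← sub_zmod2]; rfl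
  have hgg : ∀ v, g.1 (g.1 v) = v := fun v => by rw [← O_mul_apply, h2, O_one_apply]
  have hf : ∀ v ∈ N, g.1 v = v := fun v hv => by
    obtain ⟨w, rfl⟩ := (hm v).1 hv
    rw [map_add, hgg, add_comm]
  have hi : ∀ v ∈ N, ∀ w ∈ N, β v w = 0 := fun v hv w hw => by
    obtain ⟨w, rfl⟩ := (hm w).1 hw
    exact b_fix (hf v hv) w
  have d1 := dim_iso nd hi
  have d2 := (dickson_iff nd g).1 hg
  have d3 : 1 ≤ dim N := by
    by_contra hc
    refine h1 (O_ext fun v => ?_)
    have : N = ⊥ := Submodule.finrank_eq_zero.1 (by omega)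
    exact eq_of_add_eq_zero (this.le ((hm _).2 ⟨v, rfl⟩))
  have d4 : dim N = 2 := by rw [← hN] at d2; obtain ⟨k, hk⟩ := d2; omega
  obtain ⟨n, hn, n0, qn⟩ : ∃ n ∈ N, n ≠ 0 ∧ q n = 0 := by
    obtain ⟨a, ha, a0⟩ := exists_not_mem d4.ge [0] (by simp)
    obtain ⟨b, hb, b0⟩ := exists_not_mem d4.ge [0, a] (by simp)
    simp only [List.mem_cons, List.not_mem_nil, or_false, not_or] at a0 b0
    rcases zmod2_cases (q a) with e | e
    · exact ⟨a, ha, a0, e⟩
    rcases zmod2_cases (q b) with e' | e'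
    · exact ⟨b, hb, b0.1, e'⟩
    exact ⟨a + b, N.add_mem ha hb, by grind, by rw [qadd, e, e', hi a ha b hb]; rfl⟩
  obtain ⟨u, hu, e⟩ := exists_eich nd qn n0 (hf n hn) fun v hv => by
    by_contra hc
    have h3 : ∀ w, β v (g.1 w + w) = 0 := fun w => by
      have h4 := q_mov g v
      obtain ⟨v', hv'⟩ := (hm n).1 hn
      have h5 : β v' (g.1 v + v) = β v (g.1 v' + v') := by
        rw [polar_add_right, polar_add_right, ← O_polar g v', hgg, polar_comm q _ v, polar_comm q v' v]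
      have h6 := q_mov g v'
      rw [hv', qn] at h6
      have h7 : ∀ x, β v' (g.1 x + x) = 0 := fun x => by
        rcases mem2 d4.le hn ((hm _).2 ⟨v, rfl⟩) ((hm _).2 ⟨x, rfl⟩) n0 (by grind) (by grind) with
          e | e | e | e <;> rw [e]
        · exact polar_zero_right _ _
        · exact h6.symm
        · rw [h5, hv', polar_comm, hv]
        · rw [polar_add_right, ← h6, h5, hv', polar_comm, hv, add_zero]
      exact absurd (nd n fun x => by
        rw [← hv', polar_add_left, ← O_polar g (g.1 v'), hgg, ← polar_add_right]; exact h7 x) n0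
    exact hc (.inl (eq_of_add_eq_zero (nd _ fun x => by
      rw [polar_add_left, ← O_polar g (g.1 v), hgg, ← polar_add_right]; exact h3 x)))
  refine ⟨n, u, qn, hu, n0, ?_, ?_, e⟩ <;> rintro rfl
  exacts [h1 (e.trans (eich_zero_right _)), h1 (e.trans (eich_self _))]

/-- the pointwise stabilizer of `⟨a, b⟩^⊥` for a totally singular line `⟨a, b⟩` -/
theorem fix_perp {g : O q} {a b : V} (ha : q a = 0) (hb : q b = 0) (hab : β a b = 0) (h0 : a ≠ 0)
    (h : ∀ v, β a v = 0 → β b v = 0 → g.1 v = v) : g = 1 ∨ g = eich q a b := by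
  have hm : ∀ v, g.1 v + v ∈ Submodule.span (ZMod 2) {a, b} := fun v => by
    by_contra hc
    obtain ⟨w, h1, h2⟩ := exists_sep nd hc
    rw [polar_comm, b_fix (h w (h1 a (Submodule.subset_span (by simp)))
      (h1 b (Submodule.subset_span (by simp))))] at h2
    exact zero_ne_one h2
  obtain ⟨v, hv⟩ := exists_b nd h0
  obtain ⟨h1, e⟩ := eq_eich ha (h a (bself a) (by rwa [polar_comm]))
    (fun w hw => triv_of_rank nd ha hb hab (fun v _ => hm v) hw) hv
  rcases mem_span2.1 (hm v) with e1 | e1 | e1 | e1 <;> rw [e1] at e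
  · exact .inl (e.trans (eich_zero_right _))
  · exact .inl (e.trans (eich_self _))
  · exact .inr e
  · exact .inr (by rw [e, add_comm, eich_add_self ha hab])

end nd

/-- `a, b, c` is a basis of a totally singular 3-space -/
structure TS3 (q : QuadraticForm (ZMod 2) V) (a b c : V) : Prop where
  qa : q a = 0
  qb : q b = 0
  qc : q c = 0
  ab : polar q a b = 0
  ac : polar q a c = 0
  bc : polar q b c = 0
  a0 : a ≠ 0
  b0 : b ≠ 0
  ba : b ≠ a
  c0 : c ≠ 0
  ca : c ≠ a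
  cb : c ≠ b
  cab : c ≠ a + b

namespace TS3

variable {a b c : V} (h : TS3 q a b c) (nd : Nondeg q)
include h nd

theorem mem {v : V} (ha : β a v = 0) (hb : β b v = 0) (hc : β c v = 0) :
    ∃ x y w : ZMod 2, v = x • a + y • b + w • c := by
  have m : ∀ u ∈ Submodule.span (ZMod 2) {a, b, c}, ∃ x y w : ZMod 2, u = x • a + y • b + w • c :=
    fun u hu => let ⟨x, y, w, e⟩ := Submodule.mem_span_triple.1 hu; ⟨x, y, w, e.symm⟩
  refine m v (mem_of_perp nd (fun u hu u' hu' => ?_) (three_le_dim (Submodule.subset_span (by simp))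
    (Submodule.subset_span (by simp)) (Submodule.subset_span (by simp)) h.a0 h.b0 h.ba h.c0 h.ca h.cb
    h.cab) fun u hu => ?_)
  · obtain ⟨x, y, w, rfl⟩ := m u hu
    obtain ⟨x', y', w', rfl⟩ := m u' hu'
    simp [polar_add_left, polar_add_right, polar_smul_left, polar_smul_right, h.qa, h.qb, h.qc, h.ab, h.ac, h.bc,
      polar_comm q b a, polar_comm q c a, polar_comm q c b]
  · obtain ⟨x, y, w, rfl⟩ := m u hu
    simp [polar_add_left, polar_smul_left, ha, hb, hc]

theorem dual : ∃ v, β a v = 0 ∧ β b v = 1 ∧ β c v = 0 := by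
  obtain ⟨v, h1, h2⟩ := exists_sep nd (S := Submodule.span _ {a, c}) (x := b) fun e => by
    have := mem_span2.1 e
    have := h.b0; have := h.ba; have := h.cb; have := h.cab
    grind
  exact ⟨v, h1 a (Submodule.subset_span (by simp)), h2, h1 c (Submodule.subset_span (by simp))⟩

omit nd in
theorem swap : TS3 q a c b := ⟨h.qa, h.qc, h.qb, h.ac, h.ab, by rw [polar_comm, h.bc], h.a0, h.c0, h.ca,
  h.b0, h.ba, h.cb.symm, by have := h.cab; grind⟩

omit nd in
theorem swap' : TS3 q b a c := ⟨h.qb, h.qa, h.qc, by rw [polar_comm, h.ab], h.bc, h.ac, h.b0, h.a0,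
  h.ba.symm, h.c0, h.cb, h.ca, by have := h.cab; grind⟩

/-- the pointwise stabilizer of a totally singular 3-space -/
theorem fix {g : O q} (ha : g.1 a = a) (hb : g.1 b = b) (hc : g.1 c = c) :
    ∃ x y w : ZMod 2, g = eich q b (w • c) * eich q a (x • b + y • c) := by
  obtain ⟨v, v1, v2, v3⟩ := h.dual nd
  obtain ⟨u, u1, u2, u3⟩ := h.swap.dual nd
  have key : ∀ g : O q, g.1 a = a → g.1 b = b → g.1 c = c → g.1 v = v ∨ g.1 v = v + a →
      ∃ x y : ZMod 2, g = eich q a (x • b + y • c) := fun g ha hb hc hv => by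
    have hu : ∀ s, q (g.1 s + s) = 0 := fun s => by
      obtain ⟨x, y, w, e⟩ := h.mem nd (b_fix ha s) (b_fix hb s) (b_fix hc s)
      simp [e, qadd, Q_smul, polar_add_left, polar_smul_left, polar_smul_right, h.qa, h.qb, h.qc, h.ab,
        h.ac, h.bc]
    have hm : ∀ s, β a s = 0 → g.1 s + s ∈ Submodule.span (ZMod 2) {a, g.1 u + u} := fun s hs => by
      obtain ⟨x, y, w, e⟩ := h.mem nd (v := s + β b s • v + β c s • u)
        (by simp [polar_add_right, polar_smul_right, hs, v1, u1])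
        (by simp [polar_add_right, polar_smul_right, v2, u3, add_self_zmod2])
        (by simp [polar_add_right, polar_smul_right, v3, u2, add_self_zmod2])
      have e1 := congrArg g.1 e
      simp only [map_add, map_smul, ha, hb, hc] at e1
      rw [← e] at e1
      rw [mem_span2]
      rcases zmod2_cases (β b s) with e2 | e2 <;> rcases zmod2_cases (β c s) with e3 | e3 <;>
        simp only [e2, e3, zero_smul, one_smul, add_zero] at e1 <;> grind
    obtain ⟨p, p1, e⟩ := exists_eich nd h.qa h.a0 ha fun s hs =>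
      triv_of_rank nd h.qa (hu u) (b_fix ha u) hm hs
    obtain ⟨x, y, w, rfl⟩ := h.mem nd p1 (v := p) (by
      have := eich_eq h.qa p1 b
      rw [← e, hb, polar_comm q b a, h.ab] at this
      rcases zmod2_cases (β b p) with e | e
      · exact e
      · simp [e, h.a0] at this) (by
      have := eich_eq h.qa p1 c
      rw [← e, hc, polar_comm q c a, h.ac] at this
      rcases zmod2_cases (β c p) with e | e
      · exact e
      · simp [e, h.a0] at this)
    exact ⟨y, w, by rw [e, add_assoc, add_comm, eich_add_smul_self _ h.qa (by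
      simp [polar_add_right, polar_smul_right, h.ab, h.ac])]⟩
  obtain ⟨x, y, w, e⟩ := h.mem nd (b_fix ha v) (b_fix hb v) (b_fix hc v)
  have h1 := q_mov g v
  simp only [e, qadd, Q_smul, polar_add_left, polar_add_right, polar_smul_left, polar_smul_right, h.qa,
    h.qb, h.qc, h.ab, h.ac, h.bc, polar_comm q v, v1, v2, v3, smul_eq_mul, mul_zero, add_zero, mul_one,
    zero_add] at h1
  have hw : β b (w • c) = 0 := by simp [polar_smul_right, h.bc]
  obtain ⟨x', y', e'⟩ := key (eich q b (w • c) * g)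
    (by simp [O_mul_apply, ha, eich_eq h.qb hw, polar_smul_right, h.ab, h.ac])
    (by rw [O_mul_apply, hb, eich_apply_self])
    (by simp [O_mul_apply, hc, eich_eq h.qb hw, polar_smul_right, h.qc, polar_comm q c b, h.bc]) (by
      rw [O_mul_apply, show g.1 v = v + x • a + w • c by rw [← h1, zero_smul] at e; grind,
        eich_eq h.qb hw]
      simp only [polar_add_left, polar_smul_left, polar_smul_right, polar_comm q v, v2, v3, h.ab, h.ac,
        bself, polar_comm q c b, h.bc, Q_smul, h.qc, smul_eq_mul, mul_zero, add_zero, zero_smul,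
        one_smul, zero_mul]
      rcases zmod2_cases x with rfl | rfl <;> simp only [zero_smul, one_smul] <;> grind)
  exact ⟨x', y', w, by rw [← e', ← mul_assoc, eich_sq h.qb hw, one_mul]⟩

theorem card_fix {P : Subgroup (O q)} (hP : ∀ g ∈ P, g.1 a = a ∧ g.1 b = b ∧ g.1 c = c) :
    Nat.card P ≤ 8 := by
  choose x y w e using fun g : P => h.fix nd (hP g g.2).1 (hP g g.2).2.1 (hP g g.2).2.2
  simpa using Nat.card_le_card_of_injective (fun g => (x g, y g, w g)) fun g g' e' => by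
    simp only [Prod.mk.injEq] at e'
    exact Subtype.ext (by rw [e g, e g', e'.1, e'.2.1, e'.2.2])

end TS3

theorem exists_ts3 {S : Sub} (h : ∀ v ∈ S, q v = 0) (h3 : 3 ≤ dim S) :
    ∃ a ∈ S, ∃ b ∈ S, ∃ c ∈ S, TS3 q a b c := by
  obtain ⟨a, ha, h1⟩ := exists_not_mem h3 [0] (by simp)
  obtain ⟨b, hb, h2⟩ := exists_not_mem h3 [0, a] (by simp)
  obtain ⟨c, hc, h4⟩ := exists_not_mem h3 [0, a, b, a + b] (by simp)
  simp only [List.mem_cons, List.not_mem_nil, or_false, not_or] at h1 h2 h4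
  exact ⟨a, ha, b, hb, c, hc, h a ha, h b hb, h c hc, bsing h ha hb, bsing h ha hc, bsing h hb hc, h1,
    h2.1, h2.2, h4.1, h4.2.1, h4.2.2.1, h4.2.2.2⟩

/-- the image `K` of `C(z)` in `O(Q / ⟨z⟩)` -/
structure LK (q : QuadraticForm (ZMod 2) V) (K : Subgroup (O q)) : Prop where
  nd : Nondeg q
  om : K ≤ commutator (O q)
  o2 : ∀ N ≤ K, (∀ g ∈ K, ∀ x ∈ N, g * x * g⁻¹ ∈ N) → IsPGroup 2 N → N = ⊥
  nofix : ∀ v, (∀ g ∈ K, g.1 v = v) → v = 0

/-- `T` is a `K`-orbit of conjugates `t` of `z` in `Q`, `E t` the image of `Q ⊓ Q_t`, and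
`C_{Q_t}(z)` induces the Siegel transformations `eich q t u`, `u ∈ U t` -/
structure LD (q : QuadraticForm (ZMod 2) V) (K : Subgroup (O q)) (T : Set V) (E U : V → Sub) :
    Prop extends LK q K where
  ne : ∀ t ∈ T, t ≠ 0
  inv : ∀ g ∈ K, ∀ t ∈ T, g.1 t ∈ T
  tr : ∀ t ∈ T, ∀ t' ∈ T, ∃ g ∈ K, g.1 t = t'
  tE : ∀ t ∈ T, t ∈ E t
  tU : ∀ t ∈ T, t ∈ U t
  sing : ∀ t ∈ T, ∀ e ∈ E t, q e = 0
  perp : ∀ t ∈ T, ∀ u ∈ U t, polar q t u = 0
  disj : ∀ t ∈ T, ∀ x ∈ E t, x ∈ U t → x = 0 ∨ x = t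
  dimEU : ∀ t ∈ T, finrank (ZMod 2) (E t) + finrank (ZMod 2) (U t) = 6
  sieg : ∀ t ∈ T, ∀ u ∈ U t, eich q t u ∈ K
  eqE : ∀ g ∈ K, ∀ t ∈ T, ∀ e ∈ E t, g.1 e ∈ E (g.1 t)
  eqU : ∀ g ∈ K, ∀ t ∈ T, ∀ u ∈ U t, g.1 u ∈ U (g.1 t)

/-- type (3): `B ≅ Q₈` is the image of `C_{Q_s}(z)`, `eich q n₁ n₂` the image of `s` -/
structure LA (q : QuadraticForm (ZMod 2) V) (K B : Subgroup (O q)) (n₁ n₂ : V) : Prop
    extends LK q K where
  le : B ≤ K
  card : Nat.card B = 8
  q1 : q n₁ = 0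
  q2 : q n₂ = 0
  b12 : polar q n₁ n₂ = 0
  ne1 : n₁ ≠ 0
  ne2 : n₂ ≠ 0
  ne3 : n₂ ≠ n₁
  mem : eich q n₁ n₂ ∈ B
  sq : ∀ b ∈ B, b ≠ 1 → b ≠ eich q n₁ n₂ → b * b = eich q n₁ n₂
  fix : ∀ b ∈ B, b.1 n₁ = n₁ ∧ b.1 n₂ = n₂
  mov : ∀ b ∈ B, ∀ v, polar q n₁ v = 0 → polar q n₂ v = 0 →
    b.1 v + v ∈ Submodule.span (ZMod 2) {n₁, n₂}
  rank : ∀ b ∈ B, b ≠ 1 → b ≠ eich q n₁ n₂ → ∀ v, polar q n₁ v = 0 → polar q n₂ v = 0 → b.1 v = v →
    v ∈ Submodule.span (ZMod 2) {n₁, n₂}
  an : ∀ v, polar q n₁ v = 0 → polar q n₂ v = 0 → q v = 0 → v ∈ Submodule.span (ZMod 2) {n₁, n₂}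
  norm : ∀ g ∈ K, g * eich q n₁ n₂ = eich q n₁ n₂ * g → ∀ b ∈ B, g * b * g⁻¹ ∈ B

namespace LD

variable {K : Subgroup (O q)} {T : Set V} {E U : V → Sub} (h : LD q K T E U) {t t' : V}
include h

theorem qt (ht : t ∈ T) : q t = 0 := h.sing t ht t (h.tE t ht)

theorem bE (ht : t ∈ T) {e e' : V} (he : e ∈ E t) (he' : e' ∈ E t) : β e e' = 0 :=
  bsing (h.sing t ht) he he'

theorem dimE_le (ht : t ∈ T) : dim (E t) ≤ 3 := dim_iso h.nd fun _ h1 _ h2 => h.bE ht h1 h2

theorem sum (ht : t ∈ T) {v : V} (hv : β t v = 0) : ∃ e ∈ E t, ∃ u ∈ U t, e + u = v := by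
  have h1 : dim (E t ⊓ U t : Sub) ≤ 1 := dim_le_one fun v hv => h.disj t ht v hv.1 hv.2
  have h2 := Submodule.finrank_sup_add_finrank_inf_eq (E t) (U t)
  have h3 := h.dimEU t ht
  have h4 : E t ⊔ U t ≤ pv q t := sup_le (fun e he => h.bE ht (h.tE t ht) he) (h.perp t ht)
  refine Submodule.mem_sup.1 ?_
  rw [eq_of_dim h4 (by rw [dim_pv h.nd (h.ne t ht)]; omega)]
  exact hv

theorem dimE_eq (ht : t ∈ T) (ht' : t' ∈ T) : dim (E t) = dim (E t') := by
  have k : ∀ {t t'}, t ∈ T → t' ∈ T → dim (E t) ≤ dim (E t') := fun {t t'} ht ht' => by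
    obtain ⟨g, hg, rfl⟩ := h.tr t ht t' ht'
    rw [← g.1.finrank_map_eq (E t)]
    exact Submodule.finrank_mono (by rintro _ ⟨e, he, rfl⟩; exact h.eqE g hg t ht e he)
  exact le_antisymm (k ht ht') (k ht' ht)

theorem fixE {g : O q} (hg : g ∈ K) (ht : t ∈ T) (e : g.1 t = t) {x : V} (hx : x ∈ E t) :
    g.1 x + x ∈ E t := (E t).add_mem (e ▸ h.eqE g hg t ht x hx) hx

theorem fixU {g : O q} (hg : g ∈ K) (ht : t ∈ T) (e : g.1 t = t) {x : V} (hx : x ∈ U t) :
    g.1 x + x ∈ U t := (U t).add_mem (e ▸ h.eqU g hg t ht x hx) hx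

theorem eqU' {g : O q} (hg : g ∈ K) (ht : t ∈ T) {u : V} (hu : u ∈ U (g.1 t)) : (g⁻¹).1 u ∈ U t := by
  have := h.eqU _ (K.inv_mem hg) _ (h.inv g hg t ht) u hu
  rwa [O_inv_apply_apply] at this

theorem eqE' {g : O q} (hg : g ∈ K) (ht : t ∈ T) {e : V} (he : e ∈ E (g.1 t)) : (g⁻¹).1 e ∈ E t := by
  have := h.eqE _ (K.inv_mem hg) _ (h.inv g hg t ht) e he
  rwa [O_inv_apply_apply] at this

/-- `u` or `u + t` is perpendicular to `t'` -/
theorem lift (ht : t ∈ T) (hb : β t t' = 1) {S : Sub} (hS : t ∈ S) {u : V} (hu : u ∈ S) :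
    ∃ w ∈ S, β w t' = 0 ∧ (w = u ∨ w = u + t) := by
  rcases zmod2_cases (β u t') with e | e
  · exact ⟨u, hu, e, .inl rfl⟩
  · exact ⟨u + t, S.add_mem hu hS, by rw [polar_add_left, e, hb]; rfl, .inr rfl⟩

/-- the image of a point `t'` opposite to `t` -/
theorem move (ht : t ∈ T) (hb : β t t' = 1) {u : V} (hu : u ∈ U t) (hu' : β u t' = 0) :
    (eich q t u).1 t' = t' + u + q u • t := by
  rw [eich_eq (h.qt ht) (h.perp t ht u hu), polar_comm q t' u, polar_comm q t' t, hu', hb]; simp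

/-- for `dim (E t) = 3` the spaces `E t / t` and `U t / t` are dual -/
theorem dual (ht : t ∈ T) (h3 : dim (E t) = 3) {a b : V} (ha : a ∈ U t) (hb : b ∈ U t) (a0 : a ≠ 0)
    (a1 : a ≠ t) (b0 : b ≠ 0) (b1 : b ≠ t) (b2 : b ≠ a) (b3 : b ≠ t + a) (x y : ZMod 2) :
    ∃ e ∈ E t, β e a = x ∧ β e b = y := by
  have k : ∀ u ∈ U t, u ≠ 0 → u ≠ t → ∃ e ∈ E t, β e u = 1 := fun u hu u0 u1 => by
    by_contra hc
    push Not at hc
    rcases h.disj t ht u (mem_of_perp h.nd (fun _ h1 _ h2 => h.bE ht h1 h2) h3.ge fun e he =>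
      (zmod2_cases _).resolve_right (hc e he)) hu with e | e
    exacts [u0 e, u1 e]
  obtain ⟨e1, m1, r1⟩ := k a ha a0 a1
  obtain ⟨e2, m2, r2⟩ := k b hb b0 b1
  obtain ⟨e3, m3, r3⟩ := k _ ((U t).add_mem ha hb) (by grind) (by grind)
  rw [polar_add_right] at r3
  have : ∃ c1 c2 c3 : ZMod 2, c1 * β e1 a + c2 * β e2 a + c3 * β e3 a = x ∧
      c1 * β e1 b + c2 * β e2 b + c3 * β e3 b = y := by
    rw [r1, r2]
    generalize β e2 a = p, β e1 b = p', β e3 a = r, β e3 b = r' at r3 ⊢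
    revert x y p p' r r'
    decide
  obtain ⟨c1, c2, c3, s1, s2⟩ := this
  exact ⟨c1 • e1 + c2 • e2 + c3 • e3, (E t).add_mem ((E t).add_mem ((E t).smul_mem _ m1)
    ((E t).smul_mem _ m2)) ((E t).smul_mem _ m3), by simpa [polar_add_left, polar_smul_left] using s1,
    by simpa [polar_add_left, polar_smul_left] using s2⟩

end LD

end CfsgLib.LXQ
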