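import Cfsg.Agent.Lib.LXQ.Plus1
import Cfsg.Agent.Lib.Transfer.Frobenius

/-! plans/LXQ.md, package PLUS2: `2^(1+6)₊.Ω₆⁺(2)` does not occur -/

set_option autoImplicit false

namespace CfsgLib.LXQ

open Subgroup QuadraticMap Module CfsgLib.ExtraTwo CfsgLib.LargeExtra CfsgLib.OrthE CfsgLib.W4
  CfsgLib.Small9

variable {G : Type*} [Group G] [Finite G]

theorem dvd_of_cosets {M A Z : Subgroup G} (hA : M ≤ normalizer (A : Set G))
    (hZ : M ≤ normalizer (Z : Set G)) {u : G} (hu : u ∈ A) (huZ : u ∉ Z)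
    (h : ∀ y ∈ A, y ∉ Z → ∃ m ∈ M, (m * u * m⁻¹)⁻¹ * y ∈ Z) : Z.relIndex A - 1 ∣ Nat.card M := by
  let : MulAction M A := MulAction.compHom A (A.normalizerMonoidHom.comp (inclusion hA))
  have hs : ∀ (m : M) (a : A), ((m • a : A) : G) = m * a * (m : G)⁻¹ := fun _ _ => rfl
  have : MulAction.QuotientAction M (Z.subgroupOf A) := ⟨fun m a a' e => by
    have := (mem_normalizer_iff.1 (hZ m.2) _).1 (mem_subgroupOf.1 e)
    rw [mem_subgroupOf, coe_mul, coe_inv, hs, hs]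
    simpa [mul_assoc] using this⟩
  have h1 : MulAction.orbit M (QuotientGroup.mk ⟨u, hu⟩ : A ⧸ Z.subgroupOf A) =
      {QuotientGroup.mk 1}ᶜ := by
    ext y
    obtain ⟨y, rfl⟩ := QuotientGroup.mk_surjective y
    rw [Set.mem_compl_singleton_iff, Ne, eq_comm, QuotientGroup.eq, inv_one, one_mul, mem_subgroupOf]
    constructor
    · rintro ⟨m, e⟩ hy
      have e1 : (m * u * (m : G)⁻¹)⁻¹ * y ∈ Z := mem_subgroupOf.1 (QuotientGroup.eq.1 e)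
      exact huZ ((mem_normalizer_iff.1 (hZ m.2) _).2 (by simpa using inv_mem (mul_mem e1 (inv_mem hy))))
    · intro hy
      obtain ⟨m, hm, e⟩ := h y y.2 hy
      exact ⟨⟨m, hm⟩, QuotientGroup.eq.2 (mem_subgroupOf.2 e)⟩
  rw [relIndex, index_eq_card, ← Set.ncard_singleton (QuotientGroup.mk 1 : A ⧸ Z.subgroupOf A),
    ← Set.ncard_compl, ← h1, ← MulAction.index_stabilizer]
  exact index_dvd_card _

theorem norm_cent {S : Subgroup G} {g : G} (h : ∀ y ∈ S, ∀ k ∈ centralizer (S : Set G),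
    g * y * g⁻¹ * k = k * (g * y * g⁻¹)) :
    g ∈ normalizer ((centralizer (S : Set G) : Subgroup G) : Set G) :=
  inv_mem_iff.1 (Core.mem_normalizer_of_forall_conj_mem fun k hk y hy => by
    calc y * (g⁻¹ * k * g⁻¹⁻¹) = g⁻¹ * (g * y * g⁻¹ * k) * g := by group
      _ = _ := by rw [h y hy k hk]; group)

/-- the hypotheses of `plus_false` -/
structure PL {z : G} (c : Cd z) (a b d : V) : Prop where
  all : ∀ x ∈ Qx z, x * x = 1 → x ≠ 1 → x ≠ z → F1 c x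
  ts : TS3 c.q a b d

/-- `U = ⟨a, b, d⟩` -/
def UU (q : QuadraticForm (ZMod 2) V) (a b d : V) : Sub := pv q a ⊓ pv q b ⊓ pv q d

/-- `L = ⟨a, b⟩` -/
abbrev LL (a b : V) : Sub := Submodule.span (ZMod 2) {a, b}

/-- `C_G(Ŝ)` -/
abbrev Cd.cen {z : G} (c : Cd z) (S : Sub) : Subgroup G := centralizer (c.co.sub S : Set G)

namespace Cd

variable {z y : G} (c : Cd z) {S : Sub}

omit [Finite G]

theorem cen_z (hy : y ∈ c.cen S) : y * z = z * y :=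
  (hy z ⟨c.hyp.es.mem, c.co.map_z ▸ S.zero_mem⟩).symm

theorem cen_fix (hy : y ∈ c.cen S) {v : V} (hv : v ∈ S) : (c.r y).1 v = v := by
  obtain ⟨x, hx, rfl⟩ := c.co.surj v
  exact (c.r_fix (c.cen_z hy) hx).2 (.inl (conj_eq_of_comm (hy x ⟨hx, hv⟩).symm))

theorem mem_cen (hy : y ∈ Qx z) : y ∈ c.cen S ↔ c.π y ∈ pp c.q S :=
  ⟨fun h v hv => by
    obtain ⟨x, hx, rfl⟩ := c.co.surj v
    exact (c.co.polar_iff hx hy).2 (h x ⟨hx, hv⟩), fun h x hx => (c.co.polar_iff hx.1 hy).1 (h _ hx.2)⟩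

theorem r_one : c.r 1 = 1 := (c.r_eq_one (by simp)).2 (one_mem _)

end Cd

theorem Cd.norm_cen {z g : G} (c : Cd z) {S : Sub} (hg : g * z = z * g) (h : ∀ v ∈ S, (c.r g).1 v ∈ S) :
    g ∈ normalizer (c.cen S : Set G) :=
  norm_cent fun y hy k hk => hk _ ⟨c.hyp.pre.norm g hg y hy.1, c.r_act hg hy.1 ▸ h _ hy.2⟩

theorem F1.r_mem {z x r : G} {c : Cd z} (h : F1 c x) {S : Sub} {w : V} (hx : c.π x ∈ pp c.q S)
    (hw : w ∈ pp c.q S) (hr : r ∈ Qx x) (hz : r * z = z * r) (hw' : polar c.q (c.π x) w = 0)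
    (e : c.r r = eich c.q (c.π x) w) : r ∈ c.cen S := fun y hy =>
  (h.comm_A hr hz hw' e hy.1 ((c.co.polar_iff hy.1 h.mem).1 (hx _ hy.2)) (hw _ hy.2)).symm

namespace PL

variable {z x y y' r : G} {c : Cd z} {a b d v w w' p : V} (h : PL c a b d)
include h

local notation "β" => polar c.q
local notation "U" => UU c.q a b d
local notation "L" => LL a b
local notation "P" => pp c.q (LL a b)

omit [Finite G] in
theorem f1 (hx : x ∈ Qx z) (h1 : c.q (c.π x) = 0) (h0 : c.π x ≠ 0) : F1 c x :=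
  h.all x hx ((c.co.sq x hx).1 h1) (fun e => h0 (e ▸ c.co.map_one)) fun e => h0 (e ▸ c.co.map_z)

omit [Finite G] in
theorem U_q (hv : v ∈ U) : c.q v = 0 := by
  obtain ⟨x, y, w, rfl⟩ := h.ts.mem c.nd hv.1.1 hv.1.2 hv.2
  simp [qadd, Q_smul, polar_add_left, polar_smul_left, polar_smul_right, h.ts.qa, h.ts.qb, h.ts.qc,
    h.ts.ab, h.ts.ac, h.ts.bc]

omit [Finite G] in
theorem U_b (hv : v ∈ U) (hw : w ∈ U) : β v w = 0 := bsing (fun _ => h.U_q) hv hw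

omit [Finite G] in
theorem aU : a ∈ U := ⟨⟨bself a, (polar_comm _ _ _).trans h.ts.ab⟩, (polar_comm _ _ _).trans h.ts.ac⟩

omit [Finite G] in
theorem bU : b ∈ U := ⟨⟨h.ts.ab, bself b⟩, (polar_comm _ _ _).trans h.ts.bc⟩

omit [Finite G] in
theorem dU : d ∈ U := ⟨⟨h.ts.ac, h.ts.bc⟩, bself d⟩

omit [Finite G] in
theorem ppU : pp c.q U = U :=
  le_antisymm (fun _ hv => ⟨⟨hv a h.aU, hv b h.bU⟩, hv d h.dU⟩) fun _ hv _ hs => h.U_b hs hv

omit [Finite G] h in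
theorem aL : a ∈ L := Submodule.subset_span (by simp)

omit [Finite G] h in
theorem bL : b ∈ L := Submodule.subset_span (by simp)

omit [Finite G] in
theorem LU : L ≤ U := Submodule.span_le.2 (by rintro _ (rfl | rfl); exacts [h.aU, h.bU])

omit [Finite G] in
theorem UP : U ≤ P := h.ppU.ge.trans (pp_anti h.LU)

omit [Finite G] h in
theorem mem_P : v ∈ P ↔ β a v = 0 ∧ β b v = 0 :=
  ⟨fun hv => ⟨hv a aL, hv b bL⟩,
    fun hv s hs => by
      rcases mem_span2.1 hs with rfl | rfl | rfl | rfl <;> simp [polar_add_left, hv.1, hv.2]⟩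

omit [Finite G] in
theorem dimL : finrank (ZMod 2) L = 2 := by
  have h1 : 1 < finrank (ZMod 2) L := le_dim_of [0, a, b] (by simp [h.ts.a0.symm, h.ts.b0.symm, h.ts.ba.symm])
    (by simp [aL, bL]) (by simp)
  have h2 := card_le_of (S := L) [0, a, b, a + b] fun v hv => by simpa using mem_span2.1 hv
  exact le_antisymm ((Nat.pow_le_pow_iff_right (a := 2) (by norm_num)).1 h2) h1

theorem exists_r (hp : p ∈ U) (p0 : p ≠ 0) (hw : w ∈ U) : ∃ r ∈ c.cen U, c.r r = eich c.q p w := by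
  obtain ⟨x, hx, rfl⟩ := c.co.surj p
  have f := h.f1 hx (h.U_q hp) p0
  obtain ⟨r, hr, hz, e⟩ := f.onto w (h.U_b hp hw)
  exact ⟨r, f.r_mem (h.ppU.ge hp) (h.ppU.ge hw) hr hz (h.U_b hp hw) e, e⟩

omit [Finite G] in
theorem comm_of_r {k : G} (hk : k ∈ c.cen U) (hy : y ∈ c.cen U) (hy' : y' ∈ c.cen U) (e : c.r y = c.r y')
    (hc : k * y = y * k) : k * y' = y' * k := by
  have h1 := (c.r_eq_iff (c.cen_z hy) (c.cen_z hy')).1 e
  have h2 := hk _ ⟨h1, h.ppU.le ((c.mem_cen h1).1 (mul_mem (inv_mem hy) hy'))⟩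
  calc k * y' = k * y * (y⁻¹ * y') := by group
    _ = y' * k := by rw [hc, mul_assoc, ← h2]; group

theorem comm3 (hp : p ∈ U) (p0 : p ≠ 0) (hw : w ∈ U) (hw' : w' ∈ U) (hy : y ∈ c.cen U)
    (hy' : y' ∈ c.cen U) (e : c.r y = eich c.q p w) (e' : c.r y' = eich c.q p w') : y * y' = y' * y := by
  obtain ⟨x, hx, rfl⟩ := c.co.surj p
  have f := h.f1 hx (h.U_q hp) p0
  obtain ⟨r, hr, hz, e1⟩ := f.onto w (h.U_b hp hw)
  obtain ⟨r', hr', hz', e1'⟩ := f.onto w' (h.U_b hp hw')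
  have m := f.r_mem (h.ppU.ge hp) (h.ppU.ge hw) hr hz (h.U_b hp hw) e1
  have m' := f.r_mem (h.ppU.ge hp) (h.ppU.ge hw') hr' hz' (h.U_b hp hw') e1'
  exact (h.comm_of_r hy' m hy (e1.trans e.symm) (h.comm_of_r m m' hy' (e1'.trans e'.symm)
    ((f.comm hr hz (h.U_b hp hw) e1 hr' hz' (h.U_b hp hw') e1').2 (h.U_b hw hw'))).symm).symm

theorem A_comm (hy : y ∈ c.cen U) (hy' : y' ∈ c.cen U) : y * y' = y' * y := by
  have t := h.ts
  obtain ⟨g1, m1, e1⟩ := h.exists_r h.aU t.a0 h.bU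
  obtain ⟨g2, m2, e2⟩ := h.exists_r h.aU t.a0 h.dU
  obtain ⟨g3, m3, e3⟩ := h.exists_r h.bU t.b0 h.dU
  have k1 : ∀ {g : G} {p w : V}, g ∈ c.cen U → c.r g = eich c.q p w → ∀ i : ZMod 2, ∃ g' ∈ c.cen U,
      c.r g' = eich c.q p (i • w) ∧ ∀ k, Commute k g → Commute k g' := fun {g p w} hg e i => by
    rcases zmod2_cases i with rfl | rfl
    · exact ⟨1, one_mem _, by rw [zero_smul, eich_zero_right, c.r_one], fun k _ => Commute.one_right k⟩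
    · exact ⟨g, hg, by rwa [one_smul], fun _ => id⟩
  have key : ∀ k ∈ c.cen U, Commute k g1 → Commute k g2 → Commute k g3 → ∀ y ∈ c.cen U, Commute k y :=
    fun k hk c1 c2 c3 y hy => by
      obtain ⟨i, j, l, e⟩ := t.fix c.nd (c.cen_fix hy h.aU) (c.cen_fix hy h.bU) (c.cen_fix hy h.dU)
      obtain ⟨f1, n1, o1, p1⟩ := k1 m1 e1 i
      obtain ⟨f2, n2, o2, p2⟩ := k1 m2 e2 j
      obtain ⟨f3, n3, o3, p3⟩ := k1 m3 e3 l
      refine h.comm_of_r hk (mul_mem n3 (mul_mem n1 n2)) hy ?_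
        ((p3 k c3).mul_right ((p1 k c1).mul_right (p2 k c2)))
      rw [c.r_mul (c.cen_z n3) (c.cen_z (mul_mem n1 n2)), c.r_mul (c.cen_z n1) (c.cen_z n2), o1, o2, o3, e,
        eich_mul t.qa (by simp [polar_smul_right, t.ab]) (by simp [polar_smul_right, t.ac])]
  have c12 : Commute g1 g2 := h.comm3 h.aU t.a0 h.bU h.dU m1 m2 e1 e2
  have c13 : Commute g1 g3 := h.comm3 h.bU t.b0 h.aU h.dU m1 m3 (e1.trans (eich_swap' t.qa t.qb t.ab).symm) e3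
  have c23 : Commute g2 g3 := h.comm3 h.dU t.c0 h.aU h.bU m2 m3 (e2.trans (eich_swap' t.qa t.qc t.ac).symm)
    (e3.trans (eich_swap' t.qb t.qc t.bc).symm)
  exact key y hy (key g1 m1 (Commute.refl _) c12 c13 y hy).symm (key g2 m2 c12.symm (Commute.refl _) c23 y hy).symm
    (key g3 m3 c13.symm c23.symm (Commute.refl _) y hy).symm y' hy'

omit [Finite G] in
theorem ZA : c.cen P ≤ c.cen U := fun _ hy x hx => hy x ⟨hx.1, h.UP hx.2⟩

omit [Finite G] in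
theorem Z_r (hy : y ∈ c.cen P) : y ∈ Qx z ∨ c.r y = eich c.q a b :=
  (fix_perp c.nd h.ts.qa h.ts.qb h.ts.ab h.ts.a0 fun _ h1 h2 => c.cen_fix hy (mem_P.2 ⟨h1, h2⟩)).imp_left
    (c.r_eq_one (c.cen_z hy)).1

omit [Finite G] h in
theorem Z_Q (hy : y ∈ Qx z) : y ∈ c.cen P ↔ c.π y ∈ L := by rw [c.mem_cen hy, pp_pp c.nd]

omit [Finite G] in
theorem eich_ne : eich c.q a b ≠ 1 := fun e =>
  (eich_eq_one c.nd h.ts.qa h.ts.ab h.ts.a0 e).elim h.ts.b0 h.ts.ba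

omit [Finite G] in
theorem exists_w (hp : p ∈ L) (p0 : p ≠ 0) : ∃ w ∈ L, eich c.q p w = eich c.q a b := by
  have t := h.ts
  rcases mem_span2.1 hp with rfl | rfl | rfl | rfl
  · exact absurd rfl p0
  · exact ⟨b, bL, rfl⟩
  · exact ⟨a, aL, eich_swap' t.qa t.qb t.ab⟩
  · refine ⟨a, aL, ?_⟩
    rw [eich_swap' t.qa (h.U_q ((U).add_mem h.aU h.bU)) (h.U_b h.aU ((U).add_mem h.aU h.bU)), add_comm,
      eich_add_self t.qa t.ab]

theorem exists_r0 (hx : x ∈ Qx z) (hL : c.π x ∈ L) (h0 : c.π x ≠ 0) : ∃ r ∈ Qx x, ∃ w ∈ L,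
    r * z = z * r ∧ c.r r = eich c.q (c.π x) w ∧ r ∈ c.cen P ∧ c.r r = eich c.q a b := by
  have f := h.f1 hx (h.U_q (h.LU hL)) h0
  obtain ⟨w, hw, e⟩ := h.exists_w hL h0
  have h1 := h.U_b (h.LU hL) (h.LU hw)
  obtain ⟨r, hr, hz, e1⟩ := f.onto w h1
  exact ⟨r, hr, w, hw, hz, e1, f.r_mem ((pp_pp c.nd _).ge hL) ((pp_pp c.nd _).ge hw) hr hz h1 e1, e1.trans e⟩

theorem card_Z : Nat.card (c.cen P) = 16 := by
  obtain ⟨t, ht, e⟩ := c.co.surj a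
  obtain ⟨r, -, -, -, hz, -, hr, e1⟩ := h.exists_r0 ht (e ▸ aL) (e ▸ h.ts.a0)
  have h1 : c.co.sub L ≤ c.cen P := fun y hy => (Z_Q hy.1).2 hy.2
  have h2 : (c.co.sub L).relIndex (c.cen P) = 2 := relIndex_eq_two_iff_exists_notMem_and'.2
    ⟨r⁻¹, inv_mem hr, fun e => h.eich_ne (e1 ▸ (c.r_eq_one hz).2 (inv_mem_iff.1 e.1)), fun y hy => by
      rcases h.Z_r hy with e | e
      · exact .inr ⟨e, (Z_Q e).1 hy⟩
      · have := (c.r_eq_iff hz (c.cen_z hy)).1 (e1.trans e.symm)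
        exact .inl ⟨this, (Z_Q this).1 (mul_mem (inv_mem hr) hy)⟩⟩
  rw [← ((c.co.sub L).subgroupOf (c.cen P)).card_mul_index, Nat.card_congr (subgroupOfEquivOfLe h1).toEquiv,
    c.co.card_sub, card_eq, h.dimL]
  exact congrArg (2 * 2 ^ 2 * ·) h2

omit h in
theorem Q_norm {S : Sub} (hy : y ∈ Qx z) : y ∈ normalizer (c.cen S : Set G) :=
  c.norm_cen (c.hyp.es.comm_z y hy) fun v hv => by rwa [(c.r_eq_one (c.hyp.es.comm_z y hy)).2 hy]

theorem Qx_norm (hx : x ∈ Qx z) (hL : c.π x ∈ L) (h0 : c.π x ≠ 0) (hy : y ∈ Qx x) :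
    y ∈ normalizer (c.cen U : Set G) ∧ y ∈ normalizer (c.cen P : Set G) := by
  have hU := h.LU hL
  have f := h.f1 hx (h.U_q hU) h0
  by_cases hz : y * z = z * y
  · obtain ⟨u, hu, e⟩ := c.sieg' f.conj hx f.ne hy hz
    have k : ∀ S : Sub, c.π x ∈ S → S ≤ P → y ∈ normalizer (c.cen S : Set G) := fun S h1 h2 =>
      c.norm_cen hz fun v hv => by
        rw [e, eich_apply_of_orth_left f.qx hu ((polar_comm _ _ _).trans (h2 hv _ hL))]
        exact S.add_mem hv (S.smul_mem _ h1)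
    exact ⟨k _ hU h.UP, k _ (h.UP hU) le_rfl⟩
  refine ⟨norm_cent fun s hs k hk => ?_, norm_cent fun s hs k hk => ?_⟩
  · obtain ⟨r, hr, hz', e, e'⟩ := f.conj_b hy hz hs.1 ((c.co.polar_iff hs.1 hx).1 (h.U_b hs.2 hU))
    exact e' ▸ h.A_comm (mul_mem (f.r_mem (h.ppU.ge hU) (h.ppU.ge hs.2) hr hz' (h.U_b hU hs.2) e)
      ((c.mem_cen hs.1).2 (h.ppU.ge hs.2))) hk
  · have h1 : β (c.π x) (c.π s) = 0 := hs.2 _ hL
    obtain ⟨r, hr, hz', e, e'⟩ := f.conj_b hy hz hs.1 ((c.co.polar_iff hx hs.1).1 h1).symm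
    have h2 : ∀ l ∈ Qx z, l ∈ c.cen P → Commute r l := fun l hl hl' =>
      f.comm_A hr hz' h1 e hl ((c.co.polar_iff hl hx).1 (h.U_b (h.LU ((Z_Q hl).1 hl')) hU))
        (hs.2 _ ((Z_Q hl).1 hl'))
    rw [e']
    refine Commute.mul_left ?_ (hk s hs)
    rcases h.Z_r hk with e1 | e1
    · exact h2 k e1 hk
    obtain ⟨r0, hr0, w, hw, hz0, e2, m0, e3⟩ := h.exists_r0 hx hL h0
    have h3 : Commute r r0 := (f.comm hr hz' h1 e hr0 hz0 (h.U_b hU (h.LU hw)) e2).2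
      ((polar_comm _ _ _).trans (hs.2 _ hw))
    simpa using h3.mul_right (h2 _ ((c.r_eq_iff hz0 (c.cen_z hk)).1 (e3.trans e1.symm))
      (mul_mem (inv_mem m0) hk))

theorem seven : 7 ∣ Nat.card
    (normalizer (c.cen U : Set G) ⊓ normalizer (c.cen P : Set G) : Subgroup G) := by
  have es := c.hyp.es
  obtain ⟨e', ea, ed, eb⟩ := h.ts.swap.dual c.nd
  obtain ⟨e, he, rfl⟩ := c.co.surj e'
  obtain ⟨u, hu, rfl⟩ := c.co.surj d
  have uA := (c.mem_cen hu).2 (h.ppU.ge h.dU)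
  have h1 : ∀ y ∈ c.cen (UU c.q a b (c.π u)), y * e * y⁻¹ * e⁻¹ ∈ c.co.sub L := fun y hy => by
    refine ⟨mul_mem (c.hyp.pre.norm y (c.cen_z hy) e he) (inv_mem he), ?_⟩
    have h2 := q_mov (c.r y) (c.π e)
    have h3 := b_fix (c.cen_fix hy h.aU) (c.π e)
    have h4 := b_fix (c.cen_fix hy h.bU) (c.π e)
    have h5 := b_fix (c.cen_fix hy h.dU) (c.π e)
    rw [h.U_q ⟨⟨h3, h4⟩, h5⟩] at h2
    obtain ⟨i, j, l, e1⟩ := h.ts.mem c.nd h3 h4 h5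
    simp only [e1, polar_add_left, polar_smul_left, polar_comm c.q (c.π e), ea, eb, ed, smul_eq_mul,
      mul_zero, zero_add, mul_one] at h2
    rw [c.π_comm (c.cen_z hy) he, e1, ← h2, zero_smul, add_zero]
    exact add_mem ((L).smul_mem _ aL) ((L).smul_mem _ bL)
  have h2 : ∀ y ∈ c.cen (UU c.q a b (c.π u)), y * e = e * y → y ∈ c.cen P := fun y hy hc s hs => by
    obtain ⟨s1, s2⟩ := mem_P.1 hs.2
    rcases zmod2_cases (β (c.π u) (c.π s)) with e1 | e1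
    · exact hy s ⟨hs.1, ⟨s1, s2⟩, e1⟩
    have := hy (s * e) ⟨mul_mem hs.1 he, by
      rw [c.co.map_mul s hs.1 e he]
      refine ⟨⟨?_, ?_⟩, ?_⟩ <;> refine (polar_add_right _ _ _ _).trans ?_
      exacts [by rw [s1, ea, add_zero], by rw [s2, eb, add_zero], by rw [e1, ed]; rfl]⟩
    rw [mul_assoc, ← hc, ← mul_assoc, ← mul_assoc] at this
    exact mul_right_cancel this
  have hue : u * e ≠ e * u := fun e1 => by
    rw [(c.co.polar_iff hu he).2 e1] at ed; exact zero_ne_one ed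
  have hit : ∀ x ∈ c.co.sub L, x ≠ 1 → ∃ m ∈ (normalizer (c.cen (UU c.q a b (c.π u)) : Set G) ⊓
      normalizer (c.cen P : Set G) : Subgroup G), m * u * m⁻¹ * e * (m * u * m⁻¹)⁻¹ * e⁻¹ = x :=
    fun x hx x1 => by
      by_cases x0 : c.π x = 0
      · refine ⟨1, one_mem _, ?_⟩
        rw [((c.co.ker x hx.1).1 x0).resolve_left x1, one_mul, inv_one, mul_one,
          es.conj_of_ne he hu hue, conj_eq_of_comm (es.comm_z e he)]
      have f := h.f1 hx.1 (h.U_q (h.LU hx.2)) x0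
      obtain ⟨y, hy, hyz⟩ := f.exists_b
      have h3 := h.U_b (h.LU hx.2) h.dU
      obtain ⟨r, -, hz, e1, e2⟩ := f.conj_b hy hyz hu ((c.co.polar_iff hx.1 hu).1 h3).symm
      have hN := h.Qx_norm hx.1 hx.2 x0 hy
      have hA := (mem_normalizer_iff.1 hN.1 u).1 uA
      have h4 := c.π_comm (c.cen_z hA) he
      rw [e2, c.r_mul hz (es.comm_z u hu), (c.r_eq_one (es.comm_z u hu)).2 hu, mul_one, e1,
        eich_apply_of_orth_left f.qx h3 ((polar_comm _ _ _).trans (mem_P.2 ⟨ea, eb⟩ _ hx.2)),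
        polar_comm, ed, one_smul, add_comm (c.π e), add_assoc, vv, add_zero, ← e2] at h4
      rcases (c.co.eq_iff hx.1 (h1 _ hA).1).1 h4.symm with e3 | e3
      · exact ⟨y, hN, e3⟩
      obtain ⟨a0, ha0, e4⟩ := f.exists_a
      refine ⟨a0 * y, mul_mem ⟨Q_norm ha0, Q_norm ha0⟩ hN, ?_⟩
      have h5 : y * u * y⁻¹ * (a0⁻¹ * e * a0⁻¹⁻¹) * (y * u * y⁻¹)⁻¹ * (a0⁻¹ * e * a0⁻¹⁻¹)⁻¹ = x * z := by
        rcases es.conj he (inv_mem ha0) with e5 | e5 <;> rw [e5, ← e3]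
        have := c.cen_z (inv_mem hA)
        rw [← mul_assoc, mul_assoc _ z, ← this]
        group
      calc _ = a0 * (x * z) * a0⁻¹ := by rw [← h5]; group
        _ = x := by rw [← conj_mul, es.conj_of_ne hx.1 ha0 e4, conj_eq_of_comm (es.comm_z a0 ha0), es.zz']
  have hLA : ∀ x ∈ c.co.sub L, x ∈ c.cen (UU c.q a b (c.π u)) := fun x hx =>
    (c.mem_cen hx.1).2 (h.ppU.ge (h.LU hx.2))
  let ψ : c.cen (UU c.q a b (c.π u)) →* G := MonoidHom.mk' (fun y => y * e * (y : G)⁻¹ * e⁻¹) fun y y' => by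
    rw [h.A_comm (hLA _ (h1 y y.2)) (hLA _ (h1 y' y'.2)),
      ← conj_eq_of_comm (h.A_comm y.2 (hLA _ (h1 y' y'.2))), coe_mul]
    group
  have hk : ψ.ker = (c.cen P).subgroupOf _ := by
    ext y
    refine ⟨fun e1 => h2 y y.2 (comm_of_conj_eq (mul_inv_eq_one.1 e1)), fun e1 => ?_⟩
    exact mul_inv_eq_one.2 (conj_eq_of_comm (e1 e ⟨he, mem_P.2 ⟨ea, eb⟩⟩).symm)
  have hr : ψ.range = c.co.sub L := by
    refine le_antisymm (by rintro _ ⟨y, rfl⟩; exact h1 y y.2) fun x hx => ?_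
    by_cases x1 : x = 1
    · exact x1 ▸ one_mem _
    obtain ⟨m, hm, e1⟩ := hit x hx x1
    exact ⟨⟨_, (mem_normalizer_iff.1 hm.1 u).1 uA⟩, e1⟩
  have := dvd_of_cosets (inf_le_left (b := normalizer (c.cen P : Set G))) inf_le_right uA
    (fun e1 => hue (e1 e ⟨he, mem_P.2 ⟨ea, eb⟩⟩).symm) fun y hy hZ => by
      obtain ⟨m, hm, e1⟩ := hit _ (h1 y hy) fun e1 => hZ (h2 y hy (comm_of_conj_eq (mul_inv_eq_one.1 e1)))
      refine ⟨m, hm, h2 _ (mul_mem (inv_mem ((mem_normalizer_iff.1 hm.1 u).1 uA)) hy) (comm_of_conj_eq ?_)⟩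
      calc _ = (m * u * m⁻¹)⁻¹ * (y * e * y⁻¹ * e⁻¹ * e) * (m * u * m⁻¹) := by group
        _ = e := by rw [← e1]; group
  rwa [relIndex, ← hk, index_ker, hr, c.co.card_sub, card_eq, h.dimL] at this

theorem conj_z (hy : y ∈ c.cen P) (y1 : y ≠ 1) : ∃ n ∈ normalizer (c.cen P : Set G), n * z * n⁻¹ = y := by
  have es := c.hyp.es
  have k1 : ∀ y ∈ c.cen P, y ≠ 1 → y ∈ Qx z → ∃ n ∈ normalizer (c.cen P : Set G), n * z * n⁻¹ = y :=
    fun y hy y1 hQ => by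
      by_cases y0 : c.π y = 0
      · exact ⟨1, one_mem _, by rw [((c.co.ker y hQ).1 y0).resolve_left y1]; group⟩
      have hL := (Z_Q hQ).1 hy
      have f := h.f1 hQ (h.U_q (h.LU hL)) y0
      obtain ⟨b0, hb0, e1⟩ := f.exists_b
      obtain ⟨a0, ha0, e2⟩ := f.exists_a
      refine ⟨a0⁻¹ * b0, mul_mem (inv_mem (Q_norm ha0)) (h.Qx_norm hQ hL y0 hb0).2, ?_⟩
      calc _ = a0⁻¹ * (b0 * z * b0⁻¹) * a0 := by group
        _ = y := by
          rw [f.pair.h1.es.conj_of_ne f.pair.zQ1 hb0 e1, ← f.pair.comm, ← es.conj_of_ne hQ ha0 e2]; group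
  have k2 : ∀ y ∈ c.cen P, y ≠ 1 → ∀ n ∈ normalizer (c.cen P : Set G), n * y * n⁻¹ ∈ Qx z →
      ∃ n ∈ normalizer (c.cen P : Set G), n * z * n⁻¹ = y := fun y hy y1 n hn hQ => by
    obtain ⟨m, hm, e⟩ := k1 _ ((mem_normalizer_iff.1 hn y).1 hy) (by simpa using y1) hQ
    exact ⟨n⁻¹ * m, mul_mem (inv_mem hn) hm, by
      rw [show n⁻¹ * m * z * (n⁻¹ * m)⁻¹ = n⁻¹ * (m * z * m⁻¹) * n by group, e]; group⟩
  rcases h.Z_r hy with e | e
  · exact k1 y hy y1 e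
  obtain ⟨t, ht, rfl⟩ := c.co.surj a
  obtain ⟨s, hs, rfl⟩ := c.co.surj b
  have f := h.f1 ht h.ts.qa h.ts.a0
  obtain ⟨b0, hb0, e1⟩ := f.exists_b
  have hN := (h.Qx_norm ht aL h.ts.a0 hb0).2
  obtain ⟨r, -, hz, e2, e3⟩ := f.conj_b hb0 e1 hs ((c.co.polar_iff ht hs).1 h.ts.ab).symm
  have m0 := (mem_normalizer_iff.1 hN s).1 ((Z_Q hs).2 bL)
  have e4 : c.r (b0 * s * b0⁻¹) = eich c.q (c.π t) (c.π s) := by
    rw [e3, c.r_mul hz (es.comm_z s hs), (c.r_eq_one (es.comm_z s hs)).2 hs, mul_one, e2]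
  have k3 : ∀ y, (b0 * s * b0⁻¹)⁻¹ * y ∈ Qx z → c.π ((b0 * s * b0⁻¹)⁻¹ * y) = 0 ∨
      c.π ((b0 * s * b0⁻¹)⁻¹ * y) = c.π t → b0⁻¹ * y * b0⁻¹⁻¹ ∈ Qx z := fun y h1 h2 => by
    have h3 : (b0 * s * b0⁻¹)⁻¹ * y ∈ Qx t := (c.mem_img f.conj ht f.ne h1).1 (by
      rcases h2 with e | e <;> rw [e]
      exacts [zero_mem _, ⟨t, f.pair.h1.es.mem, ht, rfl⟩])
    have h4 := (mem_normalizer_iff.1 (f.pair.X_le_normalizer_E (mem_sup_right (inv_mem hb0))) _).1 ⟨h1, h3⟩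
    simpa [mul_assoc] using mul_mem hs h4.1
  have h1 := (c.r_eq_iff (c.cen_z m0) (c.cen_z hy)).1 (e4.trans e.symm)
  have h2 := mem_span2.1 ((Z_Q h1).1 (mul_mem (inv_mem m0) hy))
  by_cases h3 : c.π ((b0 * s * b0⁻¹)⁻¹ * y) = 0 ∨ c.π ((b0 * s * b0⁻¹)⁻¹ * y) = c.π t
  · exact k2 y hy y1 _ (inv_mem hN) (k3 y h1 h3)
  obtain ⟨a0, ha0, e5⟩ := f.exists_a
  have hz' := c.cen_z (inv_mem hy)
  have h4 : y⁻¹ * a0 * y⁻¹⁻¹ * a0⁻¹ ∈ Qx z := mul_mem (c.hyp.pre.norm _ hz' a0 ha0) (inv_mem ha0)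
  have h5 := c.π_comm hz' ha0
  rw [c.r_inv (c.cen_z hy), e, eich_inv h.ts.qa h.ts.ab, eich_eq h.ts.qa h.ts.ab, c.b_ne ha0 ht e5,
    h.ts.qb] at h5
  have h6 := k3 (a0 * y * a0⁻¹) (by simpa [mul_assoc] using mul_mem h1 h4) (by
    rw [show (b0 * s * b0⁻¹)⁻¹ * (a0 * y * a0⁻¹) = (b0 * s * b0⁻¹)⁻¹ * y * (y⁻¹ * a0 * y⁻¹⁻¹ * a0⁻¹) by
      group, c.co.map_mul _ h1 _ h4, h5]
    generalize c.π ((b0 * s * b0⁻¹)⁻¹ * y) = v at h2 h3
    rcases zmod2_cases (β (c.π a0) (c.π s)) with e | e <;>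
      simp only [e, zero_mul, zero_smul, one_smul, add_zero] <;> grind)
  exact k2 y hy y1 (b0⁻¹ * a0) (mul_mem (inv_mem hN) (Q_norm ha0)) (by simpa [mul_assoc] using h6)

end PL

theorem plus_false {z : G} (c : Cd z) (h : ∀ x ∈ Qx z, x * x = 1 → x ≠ 1 → x ≠ z → F1 c x)
    {a b d : V} (h3 : TS3 c.q a b d) : False := by
  have h : PL c a b d := ⟨h, h3⟩
  have : Fact (Nat.Prime 7) := ⟨by norm_num⟩
  obtain ⟨⟨g, hg⟩, g7⟩ := exists_prime_orderOf_dvd_card' 7 h.seven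
  rw [orderOf_mk] at g7
  replace hg := (mem_inf.1 hg).2
  have h1 := Transfer.card_modEq_card_inf_centralizer (q := 7) hg ⟨1, by rw [pow_one, ← g7, pow_orderOf_eq_one]⟩
  rw [h.card_Z] at h1
  obtain ⟨⟨v, hv, hvg⟩, v1⟩ := (ne_bot_iff_exists_ne_one (H := c.cen (pp c.q (LL a b)) ⊓
      centralizer {g})).1 fun e => by rw [e, card_bot] at h1; exact absurd h1 (by decide)
  obtain ⟨n, hn, rfl⟩ := h.conj_z hv fun e => v1 (Subtype.ext e)
  have hk := mul_mem (mul_mem (inv_mem hn) hg) hn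
  have k7 : orderOf (n⁻¹ * g * n) = 7 := by
    rw [← g7]; simpa using (MulAut.conj n⁻¹).orderOf_eq g
  have hz : n⁻¹ * g * n * z = z * (n⁻¹ * g * n) := by
    calc _ = n⁻¹ * (g * (n * z * n⁻¹)) * n := by group
      _ = _ := by rw [← mem_cent.1 hvg]; group
  generalize n⁻¹ * g * n = k at hk k7 hz
  have hL : ∀ k ∈ normalizer (c.cen (pp c.q (LL a b)) : Set G), k * z = z * k → ∀ v ∈ LL a b,
      (c.r k).1 v ∈ LL a b := fun k hk hz v hv => by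
    obtain ⟨x, hx, rfl⟩ := c.co.surj v
    rw [c.r_act hz hx]
    exact (PL.Z_Q (c.hyp.pre.norm k hz x hx)).1 ((mem_normalizer_iff.1 hk x).1 ((PL.Z_Q hx).2 hv))
  have r7 : c.r k ^ 7 = 1 := by
    rw [c.r_eq hz, ← map_pow, ← map_one c.ρ]
    exact congrArg _ (Subtype.ext (k7 ▸ pow_orderOf_eq_one k))
  have h2 := pow_modEq (a := (O c.q).subtype) r7 (hL k hk hz)
  have h4 := pow_modEq (a := (O c.q).subtype) (S := pp c.q (LL a b)) r7 fun v hv s hs => by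
    have := hv _ (hL _ (inv_mem hk) (mem_cent.1 (inv_mem (mem_cent.2 hz))) s hs)
    rwa [c.r_inv hz, O_polar_inv_left] at this
  have d1 := dim_pp c.nd (LL a b)
  have d2 := Submodule.finrank_mono (inf_le_left : LL a b ⊓ Fx (O c.q).subtype (c.r k) ≤ _)
  have d3 := Submodule.finrank_mono (inf_le_left : pp c.q (LL a b) ⊓ Fx (O c.q).subtype (c.r k) ≤ _)
  have d4 := Submodule.finrank_mono (inf_le_inf_right (Fx (O c.q).subtype (c.r k)) (h.LU.trans h.UP))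
  rw [h.dimL] at d1 d2 h2
  have d5 : finrank (ZMod 2) (pp c.q (LL a b)) = 4 := by omega
  rw [d5] at d3 h4
  have d6 := eq_of_dim (inf_le_left : pp c.q (LL a b) ⊓ Fx (O c.q).subtype (c.r k) ≤ _) (by
    rw [d5]
    generalize finrank (ZMod 2) (LL a b ⊓ Fx (O c.q).subtype (c.r k) : Sub) = i at *
    generalize finrank (ZMod 2) (pp c.q (LL a b) ⊓ Fx (O c.q).subtype (c.r k) : Sub) = j at *
    revert h2 h4 d4
    interval_cases i <;> interval_cases j <;> decide)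
  have h5 : c.r k * c.r k = 1 := by
    rcases fix_perp c.nd h3.qa h3.qb h3.ab h3.a0 (g := c.r k) fun v v1 v2 =>
      mem_Fx.1 (d6.ge (PL.mem_P.2 ⟨v1, v2⟩)).2 with e | e <;> rw [e]
    exacts [one_mul 1, eich_sq h3.qa h3.ab]
  rw [show 7 = 2 * 3 + 1 from rfl, pow_succ, pow_mul, pow_two, h5, one_pow, one_mul] at r7
  have := orderOf_dvd_of_pow_eq_one (c.hyp.es.pow_four ((c.r_eq_one hz).1 r7))
  rw [k7] at this
  exact absurd this (by decide)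

end CfsgLib.LXQ
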