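import Cfsg.Agent.Lib.LXQ.B3
import Cfsg.Agent.Lib.Sect.Tools
import Cfsg.Agent.Lib.Tech.SylowIn

/-! plans/LXQ.md, package SYL: `B ≅ Q₈` is a Sylow 2-subgroup of `K` -/

set_option autoImplicit false

namespace CfsgLib.LXQ

open QuadraticMap Module CfsgLib.ExtraTwo CfsgLib.OrthE CfsgLib.Small9

variable {q : QuadraticForm (ZMod 2) V}

local notation "β" => polar q
local notation "dim" => finrank (ZMod 2)

/-- the line spanned by two vectors -/
abbrev Nn (a b : V) : Sub := Submodule.span (ZMod 2) {a, b}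

theorem Nn_m1 {a b : V} : a ∈ Nn a b := Submodule.subset_span (by simp)
theorem Nn_m2 {a b : V} : b ∈ Nn a b := Submodule.subset_span (by simp)

theorem Nn_dim (a b : V) : dim (Nn a b) ≤ 2 := by
  have := card_le_of (S := Nn a b) [0, a, b, a + b] fun v hv => by simpa using mem_span2.1 hv
  exact (Nat.pow_le_pow_iff_right (a := 2) (by norm_num)).1 this

theorem mem_ppN {a b v : V} : v ∈ pp q (Nn a b) ↔ β a v = 0 ∧ β b v = 0 :=
  ⟨fun hv => ⟨hv _ Nn_m1, hv _ Nn_m2⟩, fun hv s hs => by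
    rcases mem_span2.1 hs with rfl | rfl | rfl | rfl <;> simp [polar_add_left, hv]⟩

theorem finO : Finite (O q) :=
  Finite.of_injective (fun (g : O q) (v : V) => g.1 v) fun _ _ e => O_ext (congrFun e)

namespace LA

variable {K B : Subgroup (O q)} {n₁ n₂ : V} (h : LA q K B n₁ n₂)
include h

local notation "σ" => eich q n₁ n₂
local notation "N" => Nn n₁ n₂

theorem qN {v : V} (hv : v ∈ N) : q v = 0 := by
  rcases mem_span2.1 hv with rfl | rfl | rfl | rfl <;> simp [qadd, h.q1, h.q2, h.b12]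

theorem N_le : N ≤ pp q N := fun _ hv _ hs => bsing (fun _ => h.qN) hs hv

theorem dimN : dim N = 2 := (Nn_dim _ _).antisymm <|
  le_dim_of (k := 1) [0, n₁, n₂] (by simp [h.ne1.symm, h.ne2.symm, h.ne3.symm])
    (by simp [Nn_m1, Nn_m2]) (by simp)

theorem dimP : dim (pp q N) = 4 := by
  have := dim_pp h.nd N
  have := h.dimN
  omega

theorem other (a : V) : ∃ b ∈ N, b ≠ 0 ∧ b ≠ a := by
  simpa using exists_not_mem h.dimN.ge [0, a] (by simp)

theorem σ_apply (v : V) : (σ).1 v = v + β v n₂ • n₁ + β v n₁ • n₂ := by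
  rw [eich_eq h.q1 h.b12, h.q2, zero_mul, zero_smul, add_zero]

theorem σ_fix {v : V} : (σ).1 v = v ↔ v ∈ pp q N := by
  have := h.ne1
  have := h.ne2
  have := h.ne3
  rw [h.σ_apply, mem_ppN, polar_comm q n₁ v, polar_comm q n₂ v]
  rcases zmod2_cases (β v n₁) with a | a <;> rcases zmod2_cases (β v n₂) with b | b <;>
    simp only [a, b, zero_smul, one_smul, add_zero] <;> grind

theorem σ_ne : σ ≠ 1 := fun e => (eich_eq_one h.nd h.q1 h.b12 h.ne1 e).elim h.ne2 h.ne3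

theorem σ_sq : σ * σ = 1 := eich_sq h.q1 h.b12

theorem perp_of {a b v : V} (ha : a ∈ N) (hb : b ∈ N) (a0 : a ≠ 0) (b0 : b ≠ 0) (ba : b ≠ a)
    (v1 : β a v = 0) (v2 : β b v = 0) : v ∈ pp q N := fun s hs => by
  rcases mem2 h.dimN.le ha hb hs a0 b0 ba with rfl | rfl | rfl | rfl <;> simp [polar_add_left, v1, v2]

theorem basis {a b : V} (ha : a ∈ N) (hb : b ∈ N) (a0 : a ≠ 0) (b0 : b ≠ 0) (ba : b ≠ a) :
    σ = eich q a b :=
  (fix_perp h.nd (h.qN ha) (h.qN hb) (h.N_le hb a ha) a0 fun _ v1 v2 =>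
    h.σ_fix.2 (h.perp_of ha hb a0 b0 ba v1 v2)).resolve_left h.σ_ne

theorem comm_iff {g : O q} : g * σ = σ * g ↔ ∀ n ∈ N, g.1 n ∈ N := by
  refine ⟨fun e n hn => ?_, fun e => ?_⟩
  · obtain ⟨x, y, rfl⟩ := Submodule.mem_span_pair.1 hn
    obtain ⟨v, v1, v2⟩ := exists_b2 h.nd h.ne1 h.ne2 h.ne3 y x
    have e1 : x • n₁ + y • n₂ = (σ).1 v + v := by
      rw [h.σ_apply, bc v1, bc v2]
      grind
    rw [e1, map_add, ← O_mul_apply, e, O_mul_apply, h.σ_apply]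
    convert Submodule.add_mem _ (Submodule.smul_mem _ (β (g.1 v) n₂) Nn_m1)
      (Submodule.smul_mem _ (β (g.1 v) n₁) Nn_m2) using 1
    grind
  · rw [← mul_inv_eq_iff_eq_mul, conj_eich, ← h.basis (e _ Nn_m1) (e _ Nn_m2) (g_ne_zero g h.ne1)
      (g_ne_zero g h.ne2) fun e => h.ne3 (g.1.injective e)]

theorem pp_inv {g : O q} (e : g * σ = σ * g) {v : V} (hv : v ∈ pp q N) : g.1 v ∈ pp q N := by
  rw [← h.σ_fix, ← O_mul_apply, ← e, O_mul_apply, h.σ_fix.2 hv]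

theorem fixN {b : O q} (hb : b ∈ B) {n : V} (hn : n ∈ N) : b.1 n = n := by
  rcases mem_span2.1 hn with rfl | rfl | rfl | rfl <;> simp [h.fix b hb]

theorem commB {b : O q} (hb : b ∈ B) : b * σ = σ * b :=
  h.comm_iff.2 fun _ hn => (h.fixN hb hn).symm ▸ hn

/-- an involution centralising `σ` commutes with some `b - 1` on `N^⊥` -/
theorem exists_b {x : O q} (hx : x ∈ K) (xx : x * x = 1) (e : x * σ = σ * x) :
    ∃ b ∈ B, b ≠ 1 ∧ b ≠ σ ∧ ∀ v ∈ pp q N, x.1 (b.1 v) = b.1 (x.1 v) := by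
  have := finO (q := q)
  obtain ⟨b, hb, b1⟩ := Sect.exists_notMem (K := Subgroup.zpowers σ) (H := B) (by
    rw [h.card, Sect.card_zpowers_two h.σ_sq h.σ_ne]; decide)
  rw [Sect.mem_zpowers_two h.σ_sq, not_or] at b1
  obtain ⟨c, hc, c1, c2, c3⟩ : ∃ c ∈ B, c ≠ 1 ∧ c ≠ σ ∧ (x * c * x⁻¹ = c ∨ x * c * x⁻¹ = c * σ) := by
    by_cases e1 : x * b * x⁻¹ = b ∨ x * b * x⁻¹ = b * σ
    · exact ⟨b, hb, b1.1, b1.2, e1⟩
    have hb' := h.norm x hx e b hb
    have bb := h.sq b hb b1.1 b1.2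
    have bb' : x * b * x⁻¹ * (x * b * x⁻¹) = σ := by rw [conj_mul, bb, e, mul_inv_cancel_right]
    have e2 : x * (b * (x * b * x⁻¹)) * x⁻¹ = x * b * x⁻¹ * b := by
      rw [show x * (b * (x * b * x⁻¹)) * x⁻¹ = x * b * x⁻¹ * (x * x * b * (x * x)⁻¹) by group, xx]
      group
    have σσ := h.σ_sq
    generalize x * b * x⁻¹ = b' at *
    have i1 : b⁻¹ = b * σ := by rw [inv_eq_iff_mul_eq_one, ← mul_assoc, bb, σσ]
    have i2 : b'⁻¹ = b' * σ := by rw [inv_eq_iff_mul_eq_one, ← mul_assoc, bb', σσ]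
    have c1 : b * b' ≠ 1 := fun e3 => e1 (.inr (by rw [← i1, eq_inv_of_mul_eq_one_right e3]))
    have c2 : b * b' ≠ σ := fun e3 => e1 (.inl (mul_left_cancel (e3.trans bb.symm)))
    refine ⟨_, B.mul_mem hb hb', c1, c2, .inr ?_⟩
    rw [e2, show b' * b = b⁻¹ * (b * b' * (b * b')) * b'⁻¹ by group,
      h.sq _ (B.mul_mem hb hb') c1 c2, i1, i2, mul_assoc b, σσ, mul_one, mul_assoc]
  refine ⟨c, hc, c1, c2, fun v hv => ?_⟩
  rw [show x.1 (c.1 v) = (x * c * x⁻¹).1 (x.1 v) by rw [O_mul_apply, O_inv_apply_apply, O_mul_apply]]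
  rcases c3 with e1 | e1 <;> rw [e1]
  rw [O_mul_apply, h.σ_fix.2 (h.pp_inv e hv)]

theorem mov' {b : O q} (hb : b ∈ B) {v : V} (hv : v ∈ pp q N) : b.1 v + v ∈ N :=
  h.mov b hb v (mem_ppN.1 hv).1 (mem_ppN.1 hv).2

theorem rank' {b : O q} (hb : b ∈ B) (b1 : b ≠ 1) (b2 : b ≠ σ) {v : V} (hv : v ∈ pp q N)
    (e : b.1 v + v = 0) : v ∈ N :=
  h.rank b hb b1 b2 v (mem_ppN.1 hv).1 (mem_ppN.1 hv).2 (eq_of_add_eq_zero e)

/-- trivial on `N` implies trivial on `N^⊥ / N` -/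
theorem triv1 {x : O q} (hx : x ∈ K) (xx : x * x = 1) (e : x * σ = σ * x) (t : ∀ n ∈ N, x.1 n = n)
    {v : V} (hv : v ∈ pp q N) : x.1 v + v ∈ N := by
  obtain ⟨b, hb, b1, b2, c⟩ := h.exists_b hx xx e
  refine h.rank' hb b1 b2 (Submodule.add_mem _ (h.pp_inv e hv) hv) ?_
  have := t _ (h.mov' hb hv)
  rw [map_add, c v hv] at this
  rw [map_add]
  grind

/-- trivial on `N^⊥ / N` implies trivial on `N` -/
theorem triv2 {x : O q} (hx : x ∈ K) (xx : x * x = 1) (e : x * σ = σ * x)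
    (t : ∀ v ∈ pp q N, x.1 v + v ∈ N) {n : V} (hn : n ∈ N) : x.1 n = n := by
  obtain ⟨b, hb, b1, b2, c⟩ := h.exists_b hx xx e
  have k : ∀ v ∈ pp q N, x.1 (b.1 v + v) = b.1 v + v := fun v hv => by
    have := h.fixN hb (t v hv)
    rw [map_add] at this
    rw [map_add, c v hv]
    grind
  obtain ⟨v₁, m1, r1⟩ := exists_not_mem h.dimP.ge [0, n₁, n₂, n₁ + n₂] (by simp)
  obtain ⟨v₂, m2, r2⟩ := exists_not_mem h.dimP.ge
    [0, n₁, n₂, n₁ + n₂, v₁, v₁ + n₁, v₁ + n₂, v₁ + n₁ + n₂] (by simp)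
  simp only [List.mem_cons, List.not_mem_nil, or_false, not_or] at r1 r2
  have s1 : b.1 v₁ + v₁ ≠ 0 := fun e => by
    have := mem_span2.1 (h.rank' hb b1 b2 m1 e); grind
  have s2 : b.1 v₂ + v₂ ≠ 0 := fun e => by
    have := mem_span2.1 (h.rank' hb b1 b2 m2 e); grind
  have s3 : b.1 v₂ + v₂ ≠ b.1 v₁ + v₁ := fun e => by
    have := mem_span2.1 (h.rank' hb b1 b2 (Submodule.add_mem _ m1 m2) (by rw [map_add]; grind))
    clear k c t s1 s2 e
    grind
  rcases mem2 h.dimN.le (h.mov' hb m1) (h.mov' hb m2) hn s1 s2 s3 with rfl | rfl | rfl | rfl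
  exacts [map_zero _, k _ m1, k _ m2, by rw [map_add, k _ m1, k _ m2]]

theorem an' {v : V} (hv : v ∈ pp q N) (e : q v = 0) : v ∈ N :=
  h.an v (mem_ppN.1 hv).1 (mem_ppN.1 hv).2 e

/-- distinct conjugates of `N` meet trivially -/
theorem ti {g : O q} (hg : g ∈ K) {a : V} (ha : a ∈ N) (a0 : a ≠ 0) (ga : g.1 a ∈ N) :
    g * σ = σ * g := by
  obtain ⟨a', ha', a1, a2⟩ := h.other a
  obtain ⟨n', hn', n1, n2⟩ := h.other (g.1 a)
  have g0 := g_ne_zero g a0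
  have e1 : g * σ * g⁻¹ = eich q (g.1 a) (g.1 a') := by rw [h.basis ha ha' a0 a1 a2, conj_eich]
  have e2 := h.basis ga hn' g0 n1 n2
  have b1 : β (g.1 a) (g.1 a') = 0 := by rw [O_polar]; exact h.N_le ha' a ha
  have b2 : β (g.1 a) n' = 0 := h.N_le hn' _ ga
  have q1 := h.qN ga
  by_cases hc : g.1 a' ∈ N
  · refine h.comm_iff.2 fun n hn => ?_
    rcases mem2 h.dimN.le ha ha' hn a0 a1 a2 with rfl | rfl | rfl | rfl
    exacts [by simp, ga, hc, map_add g.1 _ _ ▸ Submodule.add_mem _ ga hc]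
  have b3 : β n' (g.1 a') = 1 := (zmod2_cases _).resolve_left fun b3 =>
    hc (h.an' (h.perp_of ga hn' g0 n1 n2 b1 b3) (by rw [O_map, h.qN ha']))
  have := h.triv2 (x := eich q (g.1 a) (g.1 a'))
    (e1 ▸ K.mul_mem (K.mul_mem hg (h.le h.mem)) (K.inv_mem hg)) (eich_sq q1 b1)
    (by rw [e2]; exact eich_comm q1 b1 b2) (fun v hv => by
      rw [eich_apply_of_orth_left q1 b1 (bc (hv _ ga))]
      convert Submodule.smul_mem _ (β v (g.1 a')) ga using 1
      grind) hn'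
  rw [eich_apply_of_orth_left q1 b1 (bc b2), b3, one_smul] at this
  exact absurd (by grind) g0

theorem sep {g : O q} (hg : g ∈ K) (e : g * σ ≠ σ * g) {a : V} (ha : a ∈ N)
    (hp : g.1 a ∈ pp q N) : a = 0 :=
  by_contra fun a0 => e (h.ti hg ha a0 (h.an' hp (by rw [O_map, h.qN ha])))

theorem exists_ne : ∃ g ∈ K, g * σ ≠ σ * g := by
  have := finO (q := q)
  by_contra hc
  push Not at hc
  refine h.σ_ne (Subgroup.zpowers_eq_bot.1 (h.o2 _ (Subgroup.zpowers_le.2 (h.le h.mem))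
    (fun g hg x hx => ?_) (.of_card (n := 1) (Sect.card_zpowers_two h.σ_sq h.σ_ne))))
  rcases (Sect.mem_zpowers_two h.σ_sq).1 hx with rfl | rfl
  · simp
  · rw [hc g hg, mul_inv_cancel_right]; exact Subgroup.mem_zpowers _

/-- `B` acts freely outside `N^⊥` -/
theorem free {b : O q} (hb : b ∈ B) {v : V} (hv : v ∉ pp q N) (e : b.1 v = v) : b = 1 := by
  by_contra b1
  refine hv (h.σ_fix.1 ?_)
  by_cases b2 : b = σ
  · rwa [← b2]
  · rw [← h.sq b hb b1 b2, O_mul_apply, e, e]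

/-- an involution outside `B` that centralises `σ` and fixes a point of a conjugate of `N` -/
theorem exists_invol (h16 : 16 ∣ Nat.card K) {g : O q} (hg : g ∈ K) (e : g * σ ≠ σ * g) :
    ∃ x ∈ K, x ∉ B ∧ x * x = 1 ∧ x * σ = σ * x ∧ ∃ a ∈ N, a ≠ 0 ∧ x.1 (g.1 a) = g.1 a := by
  have := finO (q := q)
  obtain ⟨S, hS, hB⟩ := Tech.exists_isSylowIn_ge (p := 2) (.of_card (n := 3) h.card) h.le
  obtain ⟨p, hp, pB, pp2, pn⟩ := Sect.exists_norm_sq hS.pgroup hB fun hc => by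
    have e1 := Tech.card_mul_relIndex' hS.le
    rw [le_antisymm hc hB, h.card] at e1
    have := hS.not_dvd
    rw [le_antisymm hc hB] at this
    omega
  have pσ : p * σ = σ * p := by
    rw [← mul_inv_eq_iff_eq_mul]
    by_contra hc
    have := h.sq _ (pn _ h.mem) (fun e => h.σ_ne (by simpa using e)) hc
    rw [conj_mul, h.σ_sq] at this
    exact h.σ_ne (by simpa using this.symm)
  have pN := h.comm_iff.1 pσ
  obtain ⟨n₀, m0, n0, p0⟩ : ∃ n ∈ N, n ≠ 0 ∧ p.1 n = n := by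
    by_cases e1 : p.1 n₁ = n₁
    · exact ⟨_, Nn_m1, h.ne1, e1⟩
    · refine ⟨_, Submodule.add_mem _ (pN _ Nn_m1) Nn_m1, fun e => e1 (eq_of_add_eq_zero e), ?_⟩
      rw [map_add, ← O_mul_apply, h.fixN pp2 Nn_m1, add_comm]
  obtain ⟨n', m', n1, n2⟩ := h.other n₀
  obtain ⟨a, ha, a0, v1, v2⟩ : ∃ a ∈ N, a ≠ 0 ∧ β n₀ (g.1 a) = 0 ∧ β n' (g.1 a) = 1 := by
    obtain ⟨a, ha, a0, v1⟩ : ∃ a ∈ N, a ≠ 0 ∧ β n₀ (g.1 a) = 0 := by
      rcases zmod2_cases (β n₀ (g.1 n₁)) with e1 | e1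
      · exact ⟨_, Nn_m1, h.ne1, e1⟩
      rcases zmod2_cases (β n₀ (g.1 n₂)) with e2 | e2
      · exact ⟨_, Nn_m2, h.ne2, e2⟩
      exact ⟨_, Submodule.add_mem _ Nn_m1 Nn_m2, fun e => h.ne3 (eq_of_add_eq_zero e).symm,
        by rw [map_add, polar_add_right, e1, e2]; rfl⟩
    exact ⟨a, ha, a0, v1, (zmod2_cases _).resolve_left fun v2 =>
      a0 (h.sep hg e ha (h.perp_of m0 m' n0 n1 n2 v1 v2))⟩
  have qv : q (g.1 a) = 0 := by rw [O_map, h.qN ha]
  generalize hv : g.1 a = v at *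
  have vp : v ∉ pp q N := fun e => by rw [e _ m'] at v2; exact zero_ne_one v2
  have key : ∀ b ∈ B, ∀ w, q w = 0 → w ≠ b.1 v + n' := fun b hb w qw e => by
    rw [e, qadd, O_map, qv, h.qN m', ← h.fixN hb m', O_polar, bc v2] at qw
    exact absurd qw (by decide)
  obtain ⟨b, hb, pb⟩ : ∃ b ∈ B, p.1 v = b.1 v := by
    let F : B × ZMod 2 → pp q N := fun x => ⟨x.1.1.1 v + v + x.2 • n', Submodule.add_mem _
      (fun s hs => b_fix (h.fixN x.1.2 hs) v) (Submodule.smul_mem _ _ (h.N_le m'))⟩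
    have inj : Function.Injective F := by
      rintro ⟨⟨b, hb⟩, c⟩ ⟨⟨b', hb'⟩, c'⟩ e
      have e : b.1 v + v + c • n' = b'.1 v + v + c' • n' := congrArg Subtype.val e
      have k1 := key b hb _ ((O_map b' v).trans qv)
      have k2 := key b' hb' _ ((O_map b v).trans qv)
      have k3 : b.1 v = b'.1 v → b = b' := fun e => (inv_mul_eq_one.1 (h.free
        (B.mul_mem (B.inv_mem hb') hb) vp (by rw [O_mul_apply, e, O_inv_apply_apply]))).symm
      rcases zmod2_cases c with rfl | rfl <;> rcases zmod2_cases c' with rfl | rfl <;>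
        simp only [zero_smul, one_smul, add_zero] at e
      · rw [Prod.mk.injEq, Subtype.mk.injEq]; exact ⟨k3 (by grind), rfl⟩
      · exact absurd (by grind) k2
      · exact absurd (by grind) k1
      · rw [Prod.mk.injEq, Subtype.mk.injEq]; exact ⟨k3 (by grind), rfl⟩
    have mem : p.1 v + v ∈ pp q N := by
      refine h.perp_of m0 m' n0 n1 n2 (b_fix p0 v) ?_
      have i0 : (p⁻¹).1 n₀ = n₀ := by rw [← p0, O_inv_apply_apply, p0]
      have m1 : (p⁻¹).1 n' ∈ N := h.comm_iff.1 (Commute.inv_left pσ) _ m'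
      rw [polar_add_right, ← O_polar_inv_left, v2]
      rcases mem2 h.dimN.le m0 m' m1 n0 n1 n2 with e | e | e | e
      · exact absurd e (g_ne_zero _ n1)
      · exact absurd ((p⁻¹).1.injective (e.trans i0.symm)) n2
      · rw [e, v2]; rfl
      · rw [e, polar_add_left, v1, v2]; rfl
    obtain ⟨⟨⟨b, hb⟩, c⟩, e⟩ := (inj.bijective_of_nat_card_le (by
      rw [Small9.card_eq, h.dimP, Nat.card_prod, h.card, Nat.card_zmod]; rfl)).2 ⟨_, mem⟩
    have e : b.1 v + v + c • n' = p.1 v + v := congrArg Subtype.val e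
    rcases zmod2_cases c with rfl | rfl <;> simp only [zero_smul, one_smul, add_zero] at e
    · exact ⟨b, hb, by grind⟩
    · exact absurd (by grind) (key b hb _ ((O_map p v).trans qv))
  have xv : (b⁻¹ * p).1 v = v := by rw [O_mul_apply, pb, O_inv_apply_apply]
  refine ⟨b⁻¹ * p, K.mul_mem (K.inv_mem (h.le hb)) (hS.le hp), fun e => pB (by
    simpa using B.mul_mem hb e), h.free ?_ vp (by rw [O_mul_apply, xv, xv]),
    (Commute.inv_left (h.commB hb)).mul_left pσ, a, ha, a0, hv ▸ xv⟩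
  convert B.mul_mem (B.mul_mem (B.inv_mem hb) (pn _ (B.inv_mem hb))) pp2 using 1
  group

end LA

theorem LA.not_dvd {K B : Subgroup (O q)} {n₁ n₂ : V} (h : LA q K B n₁ n₂) : ¬ 16 ∣ Nat.card K := by
  intro h16
  obtain ⟨g, hg, e⟩ := h.exists_ne
  obtain ⟨x, hx, xB, xx, xσ, a, ha, a0, xa⟩ := h.exists_invol h16 hg e
  have e' : g⁻¹ * eich q n₁ n₂ ≠ eich q n₁ n₂ * g⁻¹ := fun e' => e (Commute.inv_left_iff.1 e')
  have xN := h.comm_iff.1 xσ
  have yN := h.comm_iff.1 (h.ti (K.mul_mem (K.mul_mem (K.inv_mem hg) hx) hg) ha a0 (by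
    rwa [O_mul_apply, O_mul_apply, xa, O_inv_apply_apply]))
  have ey : ∀ n, x.1 (g.1 n) + g.1 n = g.1 ((g⁻¹ * x * g).1 n + n) := fun n => by
    rw [map_add, O_mul_apply, O_mul_apply, O_apply_inv_apply]
  have sep' : (∀ n ∈ Nn n₁ n₂, x.1 (g.1 n) = g.1 n) → ∀ v, x.1 v + v ∈ Nn n₁ n₂ → x.1 v = v :=
    fun t v hv => eq_of_add_eq_zero (h.sep (K.inv_mem hg) e' hv fun s hs => by
      rw [← O_polar_left]; exact b_fix (t s hs) v)
  have x1 : x ≠ 1 := fun e => xB (e ▸ B.one_mem)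
  by_cases t : ∀ n ∈ Nn n₁ n₂, x.1 n = n
  · have t' : ∀ n ∈ Nn n₁ n₂, x.1 (g.1 n) = g.1 n := fun n hn => eq_of_add_eq_zero (by
      rw [ey, h.sep hg e (Submodule.add_mem _ (yN n hn) hn) (ey n ▸ fun s hs => b_fix (t s hs) _),
        map_zero])
    rcases fix_perp h.nd h.q1 h.q2 h.b12 h.ne1 fun v v1 v2 =>
      sep' t' v (h.triv1 hx xx xσ t (mem_ppN.2 ⟨v1, v2⟩)) with e | e
    exacts [x1 e, xB (e ▸ h.mem)]
  obtain ⟨u, hu, u1⟩ : ∃ u ∈ pp q (Nn n₁ n₂), x.1 u + u ∉ Nn n₁ n₂ := by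
    by_contra hc
    push Not at hc
    exact t fun n => h.triv2 hx xx xσ hc
  obtain ⟨w, hw, w1⟩ : ∃ w ∈ Nn n₁ n₂, x.1 (g.1 w) ≠ g.1 w := by
    by_contra hc
    push Not at hc
    exact t fun n hn => sep' hc n (Submodule.add_mem _ (xN n hn) hn)
  push Not at t
  obtain ⟨n, hn, n1⟩ := t
  obtain ⟨s, r, qs, sr, -, -, -, ex⟩ := invol_eich h.nd (h.om hx) xx x1
  have hm : ∀ v, x.1 v + v ∈ Nn s r := fun v => by
    rw [ex, eich_eq qs sr]
    convert Submodule.add_mem _ (Submodule.smul_mem _ (β v r + q r * β v s) Nn_m1)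
      (Submodule.smul_mem _ (β v s) Nn_m2) using 1
    rw [add_smul]
    grind
  have m1 := Submodule.add_mem _ (xN n hn) hn
  have m3 := Submodule.add_mem _ (h.pp_inv xσ hu) hu
  refine w1 (eq_of_add_eq_zero ?_)
  rw [ey, h.sep hg e (Submodule.add_mem _ (yN w hw) hw) ?_, map_zero]
  rw [← ey]
  rcases mem2 (Nn_dim s r) (hm n) (hm u) (hm (g.1 w)) (fun e => n1 (eq_of_add_eq_zero e))
    (fun e => u1 (e ▸ Submodule.zero_mem _)) (fun e => u1 (e ▸ m1)) with e | e | e | e <;> rw [e]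
  exacts [Submodule.zero_mem _, h.N_le m1, m3, Submodule.add_mem _ (h.N_le m1) m3]

end CfsgLib.LXQ
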