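import Cfsg.Agent.Lib.LXQ.Defs

/-! plans/LXQ.md, package TRI: conjugates of `z` in `Q`; the Dickson invariant -/

set_option autoImplicit false

namespace CfsgLib.LXQ

open Subgroup QuadraticMap Module CfsgLib.ExtraTwo CfsgLib.LargeExtra CfsgLib.OrthE CfsgLib.W4

variable {G : Type*} [Group G] [Finite G]

/-- `Q_z ⊓ Q_t = Q_z ⊓ Q_{tz}` -/
theorem mem_Qx_mul {z t x : G} (p : Pair (Qx z) (Qx t) z t) (hx : x ∈ Qx z) :
    x ∈ Qx (t * z) ↔ x ∈ Qx t := by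
  obtain ⟨a, ha, -, e⟩ := p.exists_a
  have hn := p.X_le_normalizer_E (mem_sup_left ha)
  rw [← e]
  constructor
  · intro h
    have h1 : a⁻¹ * x * a ∈ Qx z ⊓ Qx t := ⟨(Qx z).mul_mem (mul_mem (inv_mem ha) hx) ha,
      (mem_Qx_conj (g := a)).1 (by simpa [mul_assoc] using h)⟩
    simpa [mul_assoc] using ((mem_normalizer_iff.1 hn _).1 h1).2
  · intro h
    have h1 := (mem_normalizer_iff.1 (inv_mem hn) x).1 ⟨hx, h⟩
    simpa [mul_assoc] using (mem_Qx_conj (g := a)).2 h1.2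

namespace Cd

variable {z t r a : G} (c : Cd z)

omit [Finite G] in
theorem q_conj (ht : IsConj z t) (hQ : t ∈ Qx z) : c.q (c.π t) = 0 := (c.co.sq t hQ).2 (c.hyp.sq ht)

omit [Finite G] in
theorem π_ne (ht : IsConj z t) (hQ : t ∈ Qx z) (hne : t ≠ z) : c.π t ≠ 0 := fun e =>
  ((c.co.ker t hQ).1 e).elim (c.hyp.conj ht).es.ne_one hne

omit [Finite G] in
theorem b_ne {x y : G} (hx : x ∈ Qx z) (hy : y ∈ Qx z) (h : x * y ≠ y * x) :
    polar c.q (c.π x) (c.π y) = 1 := zmod2_ne_zero.1 fun e => h ((c.co.polar_iff hx hy).1 e)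

theorem mem_img (ht : IsConj z t) (hQ : t ∈ Qx z) (hne : t ≠ z) {y : G} (hy : y ∈ Qx z) :
    c.π y ∈ c.co.img (Qx t) ↔ y ∈ Qx t := by
  refine ⟨fun ⟨x, h1, h2, e⟩ => ?_, fun h => ⟨y, h, hy, rfl⟩⟩
  rcases (c.co.eq_iff h2 hy).1 e with rfl | rfl
  exacts [h1, mul_mem h1 (c.hyp.pair ht hQ hne).zQ1]

include c in
theorem mem_of_comm_mem (ht : IsConj z t) (hQ : t ∈ Qx z) (hne : t ≠ z) (hr : r ∈ Qx t)
    (ha : a ∈ Qx z) (hat : a * t ≠ t * a) (h : r * a * r⁻¹ * a⁻¹ ∈ Qx t) : r ∈ Qx z := by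
  have p := c.hyp.pair ht hQ hne
  have e := c.hyp.es.conj_of_ne hQ ha hat
  have h1 : a * r⁻¹ * a⁻¹ ∈ Qx t := by simpa [mul_assoc] using mul_mem (inv_mem hr) h
  have h2 := conj_mem_Qx e (inv_mem hr)
  rw [p.comm, mem_Qx_mul p.symm h1] at h2
  simpa [mul_assoc] using inv_mem (mul_mem (mul_mem (inv_mem ha) h2) ha)

theorem sieg (ht : IsConj z t) (hQ : t ∈ Qx z) (hne : t ≠ z) (hr : r ∈ Qx t) (hz : r * z = z * r)
    (ha : a ∈ Qx z) (hat : a * t ≠ t * a) :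
    polar c.q (c.π t) (c.π (r * a * r⁻¹ * a⁻¹)) = 0 ∧
      c.r r = eich c.q (c.π t) (c.π (r * a * r⁻¹ * a⁻¹)) := by
  have p := c.hyp.pair ht hQ hne
  have es := c.hyp.es
  have et := p.h1.es
  have hrt := et.comm_z r hr
  have qt := c.q_conj ht hQ
  rw [c.π_comm hz ha]
  refine eq_eich qt ((c.r_fix hz hQ).2 (.inl (conj_eq_of_comm hrt))) (fun v hv => ?_)
    (c.b_ne hQ ha hat.symm)
  by_cases hrQ : r ∈ Qx z
  · exact .inl (by rw [(c.r_eq_one hz).2 hrQ]; rfl)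
  set g := c.r r with hg
  set S := c.co.img (Qx t) with hS
  have tS : c.π t ∈ S := ⟨t, et.mem, hQ, rfl⟩
  have sS : ∀ e ∈ S, c.q e = 0 := by
    rintro _ ⟨x, h1, h2, rfl⟩
    exact (c.co.sq x h2).2 (p.E_sq ⟨h2, h1⟩)
  have h1 : ∀ v, polar c.q (c.π t) v = 0 → g.1 v + v ∈ S := fun v hv => by
    obtain ⟨x, hx, rfl⟩ := c.co.surj v
    have := p.commutator_mem_E hx ((c.co.polar_iff hQ hx).1 hv).symm hr hz
    exact ⟨_, this.2, this.1, c.π_comm hz hx⟩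
  have hV : ∀ y ∈ closure ({z, t} : Set G), c.π y = 0 ∨ c.π y = c.π t := fun y hy => by
    rcases p.mem_V.1 hy with rfl | rfl | rfl | rfl
    exacts [.inl c.co.map_one, .inl c.co.map_z, .inr rfl, .inr (c.co.map_mul_z hQ)]
  have h2 : ∀ e ∈ S, g.1 e + e = 0 ∨ g.1 e + e = c.π t := by
    rintro _ ⟨x, h1, h2, rfl⟩
    rw [← c.π_comm hz h2]
    exact hV _ (p.commutator_X_E (mem_sup_right hr) ⟨h2, h1⟩)
  have hu : r * a * r⁻¹ * a⁻¹ ∈ Qx z := mul_mem (p.h0.norm r hz a ha) (inv_mem ha)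
  set u := r * a * r⁻¹ * a⁻¹ with hu'
  have h3 : c.π u ∉ S := fun h =>
    hrQ (c.mem_of_comm_mem ht hQ hne hr ha hat ((c.mem_img ht hQ hne hu).1 h))
  have h4 : polar c.q (c.π t) (c.π u) = 0 := by
    rw [c.π_comm hz ha]; exact b_fix ((c.r_fix hz hQ).2 (.inl (conj_eq_of_comm hrt))) _
  have h5 : g.1 (c.π u) + c.π u = 0 ∨ g.1 (c.π u) + c.π u = c.π t := by
    rw [c.r_act hz hu, ← c.co.map_mul _ (p.h0.norm r hz u hu) _ hu]
    refine hV _ ?_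
    have e : r * u * r⁻¹ * u = r * r * (a * (r * r)⁻¹ * a⁻¹) := by rw [hu']; group
    have ha' := p.Q_le_normalizer ha
    have hrr : r * r ∈ closure ({z, t} : Set G) := by
      rcases et.sq hr with e | e <;> rw [e]
      exacts [one_mem _, subset_closure (by simp)]
    exact e ▸ mul_mem hrr ((mem_normalizer_iff.1 ha' _).1 (inv_mem hrr))
  obtain ⟨e, he, h6⟩ : ∃ e ∈ S, ∀ v, polar c.q (c.π t) v = 0 →
      g.1 v + v ∈ Submodule.span (ZMod 2) {c.π t, e} := by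
    by_cases hd : finrank (ZMod 2) S ≤ 2
    · by_cases h7 : ∃ e ∈ S, e ≠ 0 ∧ e ≠ c.π t
      · obtain ⟨e, he, e0, e1⟩ := h7
        exact ⟨e, he, fun v hv => mem_span2.2 (mem2 hd tS he (h1 v hv) (c.π_ne ht hQ hne) e0 e1)⟩
      · push Not at h7
        refine ⟨0, S.zero_mem, fun v hv => mem_span2.2 ?_⟩
        have := h7 _ (h1 v hv)
        tauto
    have d1 : finrank (ZMod 2) S < finrank (ZMod 2) (S ⊔ Submodule.span _ {c.π u} : Sub) :=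
      Small9.dim_lt le_sup_left (Submodule.mem_sup_right (Submodule.mem_span_singleton_self _)) h3
    have h7 : ∀ v ∈ S ⊔ Submodule.span _ {c.π u}, polar c.q (c.π t) v = 0 ∧
        (g.1 v + v = 0 ∨ g.1 v + v = c.π t) := fun v hv => by
      obtain ⟨s, hs, w, hw, rfl⟩ := Submodule.mem_sup.1 hv
      obtain ⟨k, rfl⟩ := Submodule.mem_span_singleton.1 hw
      have := h2 s hs
      rcases zmod2_cases k with rfl | rfl <;> simp only [zero_smul, one_smul, add_zero]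
      · exact ⟨bsing sS tS hs, this⟩
      · exact ⟨by rw [polar_add_right, bsing sS tS hs, h4, add_zero], by rw [map_add]; grind⟩
    have d2 := dim_pv c.nd (c.π_ne ht hQ hne)
    by_cases h8 : pv c.q (c.π t) ≤ S ⊔ Submodule.span _ {c.π u}
    · exact ⟨0, S.zero_mem, fun v hv => mem_span2.2 (by have := (h7 v (h8 hv)).2; tauto)⟩
    obtain ⟨v₀, m0, n0⟩ := SetLike.not_le_iff_exists.1 h8
    refine ⟨_, h1 v₀ m0, fun v hv => mem_span2.2 ?_⟩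
    have d3 := Small9.dim_lt (S' := (S ⊔ Submodule.span _ {c.π u}) ⊔ Submodule.span _ {v₀}) le_sup_left
      (Submodule.mem_sup_right (Submodule.mem_span_singleton_self _)) n0
    have d4 := Small9.eq_of_dim (S := (S ⊔ Submodule.span _ {c.π u}) ⊔ Submodule.span _ {v₀})
      (S' := pv c.q (c.π t)) (sup_le (fun v hv => (h7 v hv).1) (by simpa using m0)) (by omega)
    obtain ⟨s, hs, w, hw, rfl⟩ := Submodule.mem_sup.1 (d4.ge hv)
    obtain ⟨k, rfl⟩ := Submodule.mem_span_singleton.1 hw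
    have := (h7 s hs).2
    rcases zmod2_cases k with rfl | rfl <;> simp only [zero_smul, one_smul, add_zero, map_add] <;> grind
  exact triv_of_rank c.nd qt (sS e he) (bsing sS tS he) h6 hv

theorem sieg' (ht : IsConj z t) (hQ : t ∈ Qx z) (hne : t ≠ z) (hr : r ∈ Qx t) (hz : r * z = z * r) :
    ∃ u, polar c.q (c.π t) u = 0 ∧ c.r r = eich c.q (c.π t) u :=
  let ⟨_, ha, h⟩ := c.hyp.es.exists_not_comm hQ (c.hyp.conj ht).es.ne_one hne
  ⟨_, c.sieg ht hQ hne hr hz ha h⟩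

/-- the `u` with `eich (π t) u` induced by `C_{Q_t}(z)` -/
def Uo (t : G) (h : c.q (c.π t) = 0) : Sub where
  carrier := {u | polar c.q (c.π t) u = 0 ∧ ∃ r ∈ Qx t, r * z = z * r ∧ c.r r = eich c.q (c.π t) u}
  add_mem' := by
    rintro u w ⟨h1, r, m1, m2, e⟩ ⟨h2, r', m1', m2', e'⟩
    exact ⟨by rw [polar_add_right, h1, h2, add_zero], r * r', mul_mem m1 m1',
      mem_cent.1 (mul_mem (mem_cent.2 m2) (mem_cent.2 m2')), by rw [c.r_mul m2 m2', e, e', eich_mul h h1 h2]⟩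
  zero_mem' := ⟨polar_zero_right _ _, 1, one_mem _, by simp,
    by rw [eich_zero_right, (c.r_eq_one (by simp)).2 (one_mem _)]⟩
  smul_mem' k u hu := by
    rcases zmod2_cases k with rfl | rfl
    · exact ⟨by simp, 1, one_mem _, by simp,
        by rw [zero_smul, eich_zero_right, (c.r_eq_one (by simp)).2 (one_mem _)]⟩
    · rwa [one_smul]

omit [Finite G] in
theorem Uo_conj {g : G} (hg : g * z = z * g) (hQ : t ∈ Qx z) {h : c.q (c.π t) = 0}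
    (h' : c.q (c.π (g * t * g⁻¹)) = 0) {u : V} (hu : u ∈ c.Uo t h) :
    (c.r g).1 u ∈ c.Uo (g * t * g⁻¹) h' := by
  obtain ⟨h1, r, m1, m2, e⟩ := hu
  have hg' : g⁻¹ * z = z * g⁻¹ := mem_cent.1 (inv_mem (mem_cent.2 hg))
  have h2 : g * r * z = z * (g * r) := mem_cent.1 (mul_mem (mem_cent.2 hg) (mem_cent.2 m2))
  refine ⟨by rw [← c.r_act hg hQ, O_polar, h1], g * r * g⁻¹, mem_Qx_conj.2 m1,
    mem_cent.1 (mul_mem (mem_cent.2 h2) (mem_cent.2 hg')), ?_⟩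
  rw [c.r_mul h2 hg', c.r_mul hg m2, c.r_inv hg, e, conj_eich, c.r_act hg hQ]

theorem dim_Uo (ht : IsConj z t) (hQ : t ∈ Qx z) (hne : t ≠ z) :
    finrank (ZMod 2) (c.co.img (Qx t)) + finrank (ZMod 2) (c.Uo t (c.q_conj ht hQ)) = 6 := by
  have p := c.hyp.pair ht hQ hne
  have qt := c.q_conj ht hQ
  have h1 := p.card_E_mul_card_map c.ρ c.ker
  have h2 := c.co.card_img (P := Qx z ⊓ Qx t) inf_le_left ⟨c.hyp.es.mem, p.zQ1⟩
  have h3 : c.co.img (Qx z ⊓ Qx t) = c.co.img (Qx t) := by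
    ext v
    exact ⟨fun ⟨x, h1, h2, e⟩ => ⟨x, h1.2, h2, e⟩, fun ⟨x, h1, h2, e⟩ => ⟨x, ⟨h2, h1⟩, h2, e⟩⟩
  let f : Multiplicative (c.Uo t qt) →* O c.q := MonoidHom.mk' (fun u => eich c.q (c.π t) u.toAdd.1)
    fun u w => (eich_mul qt u.toAdd.2.1 w.toAdd.2.1).symm
  have h4 : f.range = ((Qx t).subgroupOf (CC z)).map c.ρ := by
    ext g
    constructor
    · rintro ⟨u, rfl⟩
      obtain ⟨-, r, m1, m2, e⟩ := u.toAdd.2
      exact ⟨⟨r, mem_cent.2 m2⟩, m1, (c.r_eq m2).symm.trans e⟩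
    · rintro ⟨r, m, rfl⟩
      obtain ⟨u, h1, e⟩ := c.sieg' ht hQ hne m (mem_cent.1 r.2)
      exact ⟨.ofAdd ⟨u, h1, r, m, mem_cent.1 r.2, e⟩, e.symm.trans (c.r_coe r)⟩
  have t0 := c.π_ne ht hQ hne
  have tU : c.π t ∈ c.Uo t qt := ⟨bself _, 1, one_mem _, by simp,
    by rw [eich_self, (c.r_eq_one (by simp)).2 (one_mem _)]⟩
  have h5 : Nat.card f.ker = 2 := by
    rw [Nat.card_eq_two_iff' 1]
    refine ⟨⟨.ofAdd ⟨_, tU⟩, eich_self _⟩, fun e => t0 (congrArg (fun x : f.ker => x.1.toAdd.1) e),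
      fun y hy => ?_⟩
    rcases eich_eq_one c.nd qt y.1.toAdd.2.1 t0 y.2 with e | e
    · exact absurd (Subtype.ext (Subtype.ext e)) hy
    · exact Subtype.ext (Subtype.ext e)
  have h6 := f.ker.card_mul_index
  rw [index_ker, h5, h4, Nat.card_congr Multiplicative.toAdd, Small9.card_eq] at h6
  rw [(c.hyp.conj ht).card, h2, h3, Small9.card_eq] at h1
  refine Nat.pow_right_injective (le_refl 2) ?_
  simp only [pow_add, ← h6]
  linarith

variable [IsSimpleGroup G]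

theorem lk : LK c.q c.K := by
  refine ⟨c.nd, ?_, c.o2, c.nofix⟩
  have nd := (nondeg_iff _).1 c.nd
  have h24 : Nat.card (ZMod 2) ≠ 2 ∨ finrank (ZMod 2) V ≠ 4 := .inr (by rw [dimV]; decide)
  let κ : ℤˣ →* Multiplicative (ZMod 2) := MonoidHom.mk' (fun u => if u = 1 then 1 else .ofAdd 1)
    (by decide)
  let ψ := κ.comp ((Orth.dickson nd h24).comp c.ρ)
  have hψ : ∀ g, ψ g = 1 ↔ c.ρ g ∈ commutator (O c.q) := fun g =>
    ((by decide : ∀ u, κ u = 1 ↔ u = 1) _).trans (Orth.mem_commutator_iff_of_charTwo nd h24 rfl _).symm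
  have := c.hyp.pre.hom_eq_one (no_index_two c.hyp.ncomm) ψ fun g hg hg' => by
    have hc : IsConj z (g⁻¹ * z * g) := isConj_iff.2 ⟨g⁻¹, by rw [inv_inv]⟩
    rcases c.hyp.pre.relIndex_fixE hg hg' with ⟨h1, h2⟩ | h1
    · have h3 : g⁻¹ * z * g ∈ Qx z :=
        mem_map_conj.1 (c.hyp.pre.mem_conj (by rw [c.hyp.card]; decide) h2)
      refine ⟨2, le_rfl, by rw [h1]; decide, fun _ => (hψ _).2 ?_, fun _ e he hz => (hψ _).2 ?_⟩
      · rw [(c.ker _).2 h3]; exact one_mem _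
      · obtain ⟨u, -, e1⟩ := c.sieg' hc h3 (fun e => hg' (mem_cent.2 (by
          calc g * z = g * (g⁻¹ * z * g) := by rw [e]
            _ = _ := by group)))
          (by simpa using (mem_Qx_conj (g := g⁻¹)).2 he) (mem_cent.1 hz)
        rw [← c.r_coe, e1]; exact eich_mem c.nd _ _
    by_cases h8 : 8 ≤ (fixE (Qx z) z g).relIndex (Qx z)
    · exact ⟨0, by decide, by simpa using h8, by simp, by simp⟩
    refine ⟨1, by decide, by omega, fun _ => ?_, by simp⟩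
    rcases c.hyp.pre.fixE_cases hg with h2 | h2
    · have h3 := ((fixE (Qx z) z g).subgroupOf (Qx z)).card_mul_index
      rw [c.hyp.card, Nat.card_congr (subgroupOfEquivOfLe (H := fixE (Qx z) z g) inf_le_left).toEquiv] at h3
      change _ * (fixE (Qx z) z g).relIndex (Qx z) = _ at h3
      nlinarith
    · exact Abelianization.commutator_subset_ker ψ h2
  rintro _ ⟨g, rfl⟩
  exact (hψ g).1 (by rw [this]; rfl)

theorem exists_ld (ht : IsConj z t) (hQ : t ∈ Qx z) (hne : t ≠ z) :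
    ∃ T E U, LD c.q c.K T E U ∧ c.π t ∈ T ∧ ∀ x ∈ Qx z, c.π x ∈ T → IsConj z x ∧
      (∀ y ∈ Qx z, c.π y ∈ E (c.π x) ↔ y ∈ Qx x) ∧
      ∀ u ∈ U (c.π x), ∃ r ∈ Qx x, r * z = z * r ∧ c.r r = eich c.q (c.π x) u := by
  have es := c.hyp.es
  let T : Set V := {v | ∃ g ∈ c.K, g.1 (c.π t) = v}
  let P : G → Prop := fun x => IsConj z x ∧ x ∈ Qx z ∧ x ≠ z
  have hP : ∀ {x g}, P x → g * z = z * g → P (g * x * g⁻¹) := fun {x g} h hg =>
    ⟨isConj_conj h.1 g, c.hyp.pre.norm g hg x h.2.1, fun e => h.2.2 (by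
      rw [← conj_eq_of_comm hg] at e; simpa using e)⟩
  have hT : ∀ v ∈ T, ∃ x, P x ∧ c.π x = v := by
    rintro _ ⟨k, hk, rfl⟩
    obtain ⟨g, hg, rfl⟩ := c.mem_K.1 hk
    exact ⟨_, hP ⟨ht, hQ, hne⟩ hg, (c.r_act hg hQ).symm⟩
  have hc : ∀ {x y}, P x → y ∈ Qx z → c.π x = c.π y → ∃ a ∈ Qx z, a * x * a⁻¹ = y := fun {x y} h hy e => by
    rcases (c.co.eq_iff h.2.1 hy).1 e with rfl | rfl
    · exact ⟨1, one_mem _, by simp⟩
    · exact es.exists_conj h.2.1 (c.hyp.conj h.1).es.ne_one h.2.2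
  let E : V → Sub := fun v => ⨅ x, ⨅ _ : P x ∧ c.π x = v, c.co.img (Qx x)
  let U : V → Sub := fun v => ⨅ x, ⨅ h : P x ∧ c.π x = v, c.Uo x (c.q_conj h.1.1 h.1.2.1)
  have hE' : ∀ {x g}, P x → g * z = z * g → ∀ e ∈ c.co.img (Qx x),
      (c.r g).1 e ∈ c.co.img (Qx (g * x * g⁻¹)) := by
    rintro x g h hg _ ⟨y, h1, h2, rfl⟩
    exact ⟨_, mem_Qx_conj.2 h1, c.hyp.pre.norm g hg y h2, (c.r_act hg h2).symm⟩
  have hE : ∀ {x}, P x → E (c.π x) = c.co.img (Qx x) := fun {x} h =>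
    le_antisymm (iInf₂_le x ⟨h, rfl⟩) (le_iInf₂ fun y hy e he => by
      obtain ⟨a, ha, rfl⟩ := hc h hy.1.2.1 hy.2.symm
      simpa [(c.r_eq_one (es.comm_z a ha)).2 ha] using hE' h (es.comm_z a ha) e he)
  have hU : ∀ {x} (h : P x), U (c.π x) = c.Uo x (c.q_conj h.1 h.2.1) := fun {x} h =>
    le_antisymm (iInf₂_le x ⟨h, rfl⟩) (le_iInf₂ fun y hy e he => by
      obtain ⟨a, ha, rfl⟩ := hc h hy.1.2.1 hy.2.symm
      simpa [(c.r_eq_one (es.comm_z a ha)).2 ha] using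
        c.Uo_conj (es.comm_z a ha) h.2.1 (c.q_conj hy.1.1 hy.1.2.1) he)
  refine ⟨T, E, U, ⟨c.lk, fun v hv => ?_, ?_, ?_, fun v hv => ?_, fun v hv => ?_, fun v hv => ?_,
    fun v hv => ?_, fun v hv => ?_, fun v hv => ?_, fun v hv => ?_, fun k hk v hv => ?_,
    fun k hk v hv => ?_⟩, ⟨1, one_mem _, rfl⟩, fun x hx hv => ?_⟩
  rotate_left
  · rintro g hg _ ⟨k, hk, rfl⟩
    exact ⟨g * k, mul_mem hg hk, rfl⟩
  · rintro _ ⟨g, hg, rfl⟩ _ ⟨k, hk, rfl⟩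
    exact ⟨k * g⁻¹, mul_mem hk (inv_mem hg), by rw [O_mul_apply, O_inv_apply_apply]⟩
  rotate_right
  all_goals obtain ⟨y, hy, e⟩ := hT _ hv
  rotate_right
  · obtain ⟨a, ha, rfl⟩ := hc hy hx e
    have h := hP hy (es.comm_z a ha)
    rw [hE h, hU h]
    exact ⟨h.1, fun y hy => c.mem_img h.1 h.2.1 h.2.2 hy, fun u hu => hu.2⟩
  all_goals subst e
  · exact c.π_ne hy.1 hy.2.1 hy.2.2
  · rw [hE hy]; exact ⟨y, (c.hyp.conj hy.1).es.mem, hy.2.1, rfl⟩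
  · rw [hU hy]
    exact ⟨bself _, 1, one_mem _, by simp, by rw [eich_self, (c.r_eq_one (by simp)).2 (one_mem _)]⟩
  · rw [hE hy]
    rintro _ ⟨x, h1, h2, rfl⟩
    exact (c.co.sq x h2).2 ((c.hyp.pair hy.1 hy.2.1 hy.2.2).E_sq ⟨h2, h1⟩)
  · rw [hU hy]; exact fun u hu => hu.1
  · rw [hE hy, hU hy]
    rintro u h1 ⟨h2, r, m1, m2, e⟩
    obtain ⟨a, ha, h⟩ := es.exists_not_comm hy.2.1 (c.hyp.conj hy.1).es.ne_one hy.2.2
    obtain ⟨h3, h4⟩ := c.sieg hy.1 hy.2.1 hy.2.2 m1 m2 ha h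
    have qt := c.q_conj hy.1 hy.2.1
    have t0 := c.π_ne hy.1 hy.2.1 hy.2.2
    have h5 := c.mem_of_comm_mem hy.1 hy.2.1 hy.2.2 m1 ha h ((c.mem_img hy.1 hy.2.1 hy.2.2
      (mul_mem (c.hyp.pre.norm r m2 a ha) (inv_mem ha))).1 (by
        rcases eich_inj c.nd qt h2 h3 t0 (e.symm.trans h4) with e | e <;> rw [e]
        exacts [h1, add_mem h1 ⟨y, (c.hyp.conj hy.1).es.mem, hy.2.1, rfl⟩]))
    exact eich_eq_one c.nd qt h2 t0 (e.symm.trans ((c.r_eq_one m2).2 h5))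
  · rw [hE hy, hU hy]; exact c.dim_Uo hy.1 hy.2.1 hy.2.2
  · rw [hU hy]
    rintro u ⟨-, r, -, -, e⟩
    exact e ▸ c.r_mem r
  · obtain ⟨g, hg, rfl⟩ := c.mem_K.1 hk
    rw [c.r_act hg hy.2.1, hE hy, hE (hP hy hg)]
    exact hE' hy hg
  · obtain ⟨g, hg, rfl⟩ := c.mem_K.1 hk
    rw [c.r_act hg hy.2.1, hU hy, hU (hP hy hg)]
    exact fun u hu => c.Uo_conj hg hy.2.1 _ hu

end Cd

end CfsgLib.LXQ
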