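import Cfsg.Agent.Lib.LXQ.Lin
import Cfsg.Agent.Lib.Held.X3
import Cfsg.Agent.Lib.OrthE.F2

/-! plans/LXQ.md, package TS: `K ≅ SL₃(2)` or `K = Ω₆(2)` -/

set_option autoImplicit false

namespace CfsgLib.LXQ

open QuadraticMap Module CfsgLib.ExtraTwo CfsgLib.OrthE CfsgLib.Small9

variable {q : QuadraticForm (ZMod 2) V}

local notation "β" => polar q
local notation "dim" => finrank (ZMod 2)

/-- an element of `K` trivial on `S` and on `S^⊥ / S` is trivial -/
theorem LK.eq_one {K : Subgroup (O q)} (h : LK q K) {S : Sub} (hS : ∀ g ∈ K, ∀ s ∈ S, g.1 s ∈ S)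
    {g : O q} (hg : g ∈ K) (h1 : ∀ s ∈ S, g.1 s = s) (h2 : ∀ v ∈ pp q S, g.1 v + v ∈ S) : g = 1 := by
  have hP : ∀ g ∈ K, ∀ v ∈ pp q S, g.1 v ∈ pp q S := fun g hg v hv s hs => by
    rw [polar_comm, O_polar_left, polar_comm]; exact hv _ (hS _ (K.inv_mem hg) s hs)
  let N : Subgroup (O q) :=
    { carrier := {g | g ∈ K ∧ (∀ s ∈ S, g.1 s = s) ∧ ∀ v ∈ pp q S, g.1 v + v ∈ S}
      one_mem' := ⟨K.one_mem, fun _ _ => rfl, fun v _ => by rw [O_one_apply, vv]; exact S.zero_mem⟩
      mul_mem' := fun {a b} ha hb => ⟨K.mul_mem ha.1 hb.1, fun s hs => by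
        rw [O_mul_apply, hb.2.1 s hs, ha.2.1 s hs], fun v hv => by
        have := S.add_mem (ha.2.2 _ (hP b hb.1 v hv)) (hb.2.2 v hv)
        rwa [add_assoc, ← add_assoc (b.1 v), vv, zero_add] at this⟩
      inv_mem' := fun {a} ha => ⟨K.inv_mem ha.1, fun s hs => O_inv_apply_eq a (ha.2.1 s hs), fun v hv => by
        have := ha.2.2 _ (hP _ (K.inv_mem ha.1) v hv)
        rwa [O_apply_inv_apply, add_comm] at this⟩ }
  refine (h.o2 N (fun _ h => h.1) (fun k hk x hx => ⟨K.mul_mem (K.mul_mem hk hx.1) (K.inv_mem hk),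
    fun s hs => ?_, fun v hv => ?_⟩) fun x => ⟨2, Subtype.ext (O_ext fun v => ?_)⟩).le ⟨hg, h1, h2⟩
  · rw [O_mul_apply, O_mul_apply, hx.2.1 _ (hS _ (K.inv_mem hk) s hs), O_apply_inv_apply]
  · have := hS k hk _ (hx.2.2 _ (hP _ (K.inv_mem hk) v hv))
    rwa [map_add, O_apply_inv_apply] at this
  · have e1 := x.2.2.1 _ (x.2.2.2 (x.1.1 v + v) fun s hs => b_fix (x.2.2.1 s hs) v)
    have e2 := congrArg x.1.1 e1
    simp only [map_add] at e1 e2
    rw [show x ^ 2 ^ 2 = x * x * x * x from (pow_succ x 3).trans (by rw [pow_three'])]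
    change x.1.1 (x.1.1 (x.1.1 (x.1.1 v))) = v
    linear_combination e2 - e1 + vv (x.1.1 (x.1.1 v)) - vv v

namespace LD

variable {K : Subgroup (O q)} {T : Set V} {E U : V → Sub} (h : LD q K T E U) {t t' : V}
include h

theorem ts_iso (ht : t ∈ T) (hp : ∀ a ∈ T, ∀ b ∈ T, β a b = 0) :
    ∃ ψ : K →* Matrix.SpecialLinearGroup (Fin 3) (ZMod 2), Function.Bijective ψ := by
  set S : Sub := Submodule.span (ZMod 2) T
  have hT : ∀ p ∈ T, p ∈ S := fun p hp => Submodule.subset_span hp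
  have hb : ∀ p ∈ T, ∀ s ∈ S, β s p = 0 := fun p hp' s hs => by
    induction hs using Submodule.span_induction with
    | mem x hx => exact hp x hx p hp'
    | zero => exact polar_zero_left _ _
    | add x y _ _ h1 h2 => rw [polar_add_left, h1, h2, add_zero]
    | smul c x _ h1 => rw [polar_smul_left, h1, smul_zero]
  have hi : ∀ s ∈ S, ∀ s' ∈ S, β s s' = 0 := fun s hs s' hs' => by
    induction hs' using Submodule.span_induction with
    | mem x hx => exact hb x hx s hs
    | zero => exact polar_zero_right _ _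
    | add x y _ _ h1 h2 => rw [polar_add_right, h1, h2, add_zero]
    | smul c x _ h1 => rw [polar_smul_right, h1, smul_zero]
  have hS : ∀ g ∈ K, ∀ s ∈ S, g.1 s ∈ S := fun g hg s hs => by
    induction hs using Submodule.span_induction with
    | mem x hx => exact hT _ (h.inv g hg x hx)
    | zero => rw [map_zero]; exact S.zero_mem
    | add x y _ _ h1 h2 => rw [map_add]; exact S.add_mem h1 h2
    | smul c x _ h1 => rw [map_smul]; exact S.smul_mem c h1
  have d1 := dim_iso h.nd hi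
  have d2 := dim_pp h.nd S
  have key : ∀ p ∈ T, dim S = 3 ∧ U p ⊔ pp q S = pv q p := fun p hp' => by
    have h1 : dim (U p ⊓ pp q S : Sub) ≤ 1 := dim_le_one (f := p) fun u hu =>
      eich_eq_one h.nd (h.qt hp') (h.perp p hp' u hu.1) (h.ne p hp') (h.toLK.eq_one hS (h.sieg p hp' u hu.1)
        (fun s hs => eich_apply_of_orth (hb p hp' s hs) (hu.2 s hs)) fun v hv => by
          rw [eich_apply_of_orth_left (h.qt hp') (h.perp p hp' u hu.1)
            (by rw [polar_comm]; exact hv p (hT p hp')), add_comm v, add_assoc, vv, add_zero]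
          exact S.smul_mem _ (hT p hp'))
    have h2 := Submodule.finrank_sup_add_finrank_inf_eq (U p) (pp q S)
    have h3 := h.dimEU p hp'
    have h4 := h.dimE_le hp'
    have h5 : U p ⊔ pp q S ≤ pv q p := sup_le (h.perp p hp') fun v hv => hv p (hT p hp')
    have h6 := Submodule.finrank_mono h5
    have h7 := dim_pv h.nd (h.ne p hp')
    exact ⟨by omega, eq_of_dim h5 (by omega)⟩
  have d3 := (key t ht).1
  have tv : ∀ p ∈ T, ∀ v, β p v = 0 → ∃ g ∈ K, ∀ s ∈ S, g.1 s = s + β s v • p := fun p hp' v hv => by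
    obtain ⟨u, hu, w, hw, rfl⟩ := Submodule.mem_sup.1 ((key p hp').2.ge hv)
    exact ⟨_, h.sieg p hp' u hu, fun s hs => by
      rw [eich_apply_of_orth_left (h.qt hp') (h.perp p hp' u hu) (hb p hp' s hs), polar_add_right,
        hw s hs, add_zero]⟩
  have hST : ∀ s ∈ S, s = 0 ∨ s ∈ T := fun s hs => by
    induction hs using Submodule.span_induction with
    | mem x hx => exact .inr hx
    | zero => exact .inl rfl
    | add x y _ hy h1 h2 =>
      rcases h1 with rfl | h1
      · rwa [zero_add]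
      rcases h2 with rfl | h2
      · exact .inr (by rwa [add_zero])
      by_cases e : y = x
      · exact .inl (e ▸ vv y)
      obtain ⟨v, v1, v2⟩ := exists_b2 h.nd (h.ne x h1) (h.ne y h2) e 0 1
      obtain ⟨g, hg, e⟩ := tv x h1 v v1
      have := h.inv g hg y h2
      rw [e y hy, v2, one_smul, add_comm] at this
      exact .inr this
    | smul c x _ h1 => rcases zmod2_cases c with rfl | rfl <;> simp [h1]
  let b := finBasisOfFinrankEq (ZMod 2) S d3
  let ρ : K →* Module.End (ZMod 2) S :=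
    { toFun := fun g => (g.1.1 : V →ₗ[ZMod 2] V).restrict (hS g g.2)
      map_one' := rfl
      map_mul' := fun _ _ => rfl }
  let φ : K →* Matrix (Fin 3) (Fin 3) (ZMod 2) :=
    (LinearMap.toMatrixAlgEquiv b).toMulEquiv.toMonoidHom.comp ρ
  have hd : ∀ g, (φ g).det = 1 := fun g => by
    have : (φ g).det * (φ g⁻¹).det = 1 := by
      rw [← Matrix.det_mul, ← map_mul, mul_inv_cancel, map_one, Matrix.det_one]
    exact (zmod2_cases _).resolve_left fun e => by rw [e, zero_mul] at this; exact zero_ne_one this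
  let ψ : K →* Matrix.SpecialLinearGroup (Fin 3) (ZMod 2) :=
    { toFun := fun g => ⟨φ g, hd g⟩
      map_one' := Subtype.ext (map_one φ)
      map_mul' := fun x y => Subtype.ext (map_mul φ x y) }
  refine ⟨ψ, (injective_iff_map_eq_one ψ).2 fun g hg => ?_, MonoidHom.range_eq_top.1
    (Classical.sl_eq_top_of_transvection_mem _ fun i j hij c => ?_)⟩
  · have h1 : ρ g = 1 := (LinearMap.toMatrixAlgEquiv b).injective
      ((congrArg Subtype.val hg).trans (map_one _).symm)
    have h2 : ∀ s ∈ S, g.1.1 s = s := fun s hs => congrArg Subtype.val (LinearMap.congr_fun h1 ⟨s, hs⟩)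
    exact Subtype.ext (h.toLK.eq_one hS g.2 h2 fun v _ =>
      mem_of_perp h.nd hi d3.ge fun s hs => b_fix (h2 s hs) v)
  · rcases zmod2_cases c with rfl | rfl
    · exact ⟨1, Subtype.ext ((map_one φ).trans (by simp [Matrix.SpecialLinearGroup.transvection]))⟩
    obtain ⟨w, w1, w2⟩ := exists_sep h.nd (S := (LinearMap.ker (b.coord j)).map S.subtype) (x := b j) (by
      rintro ⟨y, hy, e⟩
      obtain rfl : y = b j := Subtype.ext e
      simp at hy)
    have w3 : ∀ k, β (b k) w = if k = j then 1 else 0 := fun k => by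
      split_ifs with e
      · rw [e, w2]
      · exact w1 _ ⟨b k, by simp [e], rfl⟩
    obtain ⟨g, hg, e⟩ := tv (b i) ((hST _ (b i).2).resolve_left fun e => b.ne_zero i (Subtype.ext e)) w
      (by rw [w3, if_neg hij])
    refine ⟨⟨g, hg⟩, Subtype.ext ?_⟩
    ext r k
    have e1 : ρ ⟨g, hg⟩ (b k) = b k + β (b k) w • b i := Subtype.ext (e _ (b k).2)
    change LinearMap.toMatrixAlgEquiv b (ρ ⟨g, hg⟩) r k = _
    rw [LinearMap.toMatrixAlgEquiv_apply, e1, w3]
    simp [Matrix.SpecialLinearGroup.transvection, Matrix.transvection, Matrix.one_apply,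
      Matrix.single_apply, Finsupp.single_apply, eq_comm]
    split_ifs <;> simp_all

theorem full (ht : t ∈ T) (ht' : t' ∈ T) (hb : β t t' = 1) (hE : ∀ e ∈ E t, e = 0 ∨ e = t) :
    K = commutator (O q) ∧ ∀ v, v ≠ 0 → q v = 0 →
      v ∈ T ∧ (∀ e ∈ E v, e = 0 ∨ e = v) ∧ ∀ u, β v u = 0 → u ∈ U v := by
  have h1 : ∀ v ∈ T, (∀ e ∈ E v, e = 0 ∨ e = v) ∧ ∀ u, β v u = 0 → u ∈ U v := fun v hv => by
    have h2 : ∀ e ∈ E v, e = 0 ∨ e = v := fun e he => by
      obtain ⟨g, hg, rfl⟩ := h.tr t ht v hv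
      rw [← O_apply_inv_apply g e]
      rcases hE _ (h.eqE' hg ht he) with e | e <;> rw [e]
      exacts [.inl (map_zero _), .inr rfl]
    refine ⟨h2, fun u hu => ?_⟩
    obtain ⟨e, he, w, hw, rfl⟩ := h.sum hv hu
    rcases h2 e he with rfl | rfl
    exacts [(U _).add_mem (U _).zero_mem hw, (U _).add_mem (h.tU _ hv) hw]
  have hy : OrthE.Hyp q t t' := ⟨h.qt ht, h.qt ht', hb⟩
  have hW : ∃ w, β w t = 0 ∧ β w t' = 0 ∧ q w ≠ 0 := by
    by_contra hc
    push Not at hc
    have h2 := dim_iso h.nd (S := pv q t ⊓ pv q t') fun v hv w hw => bsing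
      (fun v hv => hc v (by rw [polar_comm]; exact hv.1) (by rw [polar_comm]; exact hv.2)) hv hw
    have h3 := dim_inf_pv (q := q) (pv q t) t'
    rw [dim_pv h.nd (h.ne t ht)] at h3
    omega
  have h2 : OrthE.E q ≤ K := hy.E_le h.nd hW K
    (fun w w1 _ => h.sieg t ht w ((h1 t ht).2 w (by rwa [polar_comm])))
    fun w _ w2 => h.sieg t' ht' w ((h1 t' ht').2 w (by rwa [polar_comm]))
  refine ⟨le_antisymm h.om (h.nd.E_eq_commutator_of_finite (by rw [dimV]; decide) ▸ h2),
    fun v v0 qv => ?_⟩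
  obtain ⟨g, hg, c, c0, e⟩ := hy.exists_E_singular h.nd hW (h.ne t ht) v0 (h.qt ht) qv
  rw [zmod2_ne_zero.1 c0, one_smul] at e
  have hv : v ∈ T := e ▸ h.inv g (h2 hg) t ht
  exact ⟨hv, h1 v hv⟩

end LD

theorem plus_or_minus (nd : Nondeg q) : (∃ a b c, TS3 q a b c) ∨
    Nonempty (commutator (O q) ≃* Cfsg.Omega (ZMod 2) (Cfsg.quadFormMinus 2 (ZMod 2) 1 1)) := by
  by_cases h : ∃ M : Sub, (∀ w ∈ M, q w = 0) ∧ dim M = 3
  · obtain ⟨M, h1, h2⟩ := h
    obtain ⟨a, -, b, -, c, -, h3⟩ := exists_ts3 h1 h2.ge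
    exact .inl ⟨a, b, c, h3⟩
  push Not at h
  obtain ⟨e, he⟩ := exists_equiv_qMinus nd (m := 2) dimV h anisotropic_one_one
  exact .inr ⟨commutatorCongr ((OCongr e he).symm.trans (matEquiv _ _ (qMinus_eq 2 1 1)).symm)⟩

end CfsgLib.LXQ
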