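import Cfsg.Agent.Lib.LXQ.B4
import Cfsg.Agent.Lib.LXQ.Ts
import Cfsg.Agent.Lib.LXQ.Tri
import Cfsg.Agent.Lib.LXQ.Plus2
import Cfsg.Agent.Lib.LXQ.A57
import Cfsg.Agent.Lib.LXQ.A12
import Cfsg.Agent.Lib.LXQ.Iso
import Cfsg.Agent.Lib.LXQ.Syl
import Cfsg.Agent.Lib.Held.X5
import Cfsg.Agent.Lib.GHM.Tools
import Cfsg.Agent.Lib.SylT.U5d
import Cfsg.Agent.S1719

/-!
# Simple groups with a large extraspecial subgroup of order `2^7`
-/

set_option autoImplicit false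

namespace CfsgLib.LXQ

open Subgroup QuadraticMap CfsgLib.ExtraTwo CfsgLib.LargeExtra CfsgLib.OrthE CfsgLib.W4 Cfsg

variable {G : Type*} [Group G] [Finite G] [IsSimpleGroup G] {z : G}

theorem Cd.held (c : Cd z) {ψ : c.K →* Held.X.L} (hψ : Function.Bijective ψ) :
    Nonempty (G ≃* Held.SL5) ∨ Nonempty (G ≃* M24) ∨ Nonempty (G ≃* Spor.He) := by
  have h := c.hyp
  have h1 : Held.X.Hyp (Qx z) z (ψ.comp c.ρ.rangeRestrict) := ⟨h.pre, h.card,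
    hψ.2.comp c.ρ.rangeRestrict_surjective, fun g =>
      (map_eq_one_iff ψ hψ.1).trans (Subtype.ext_iff.trans (c.ker g))⟩
  rcases h1.iso_or (ZStar.not_isolated_of_simple h.ncomm z) with ⟨⟨e⟩⟩ | ⟨E, hE, h16, hf⟩
  · exact Held.classify_simple rfl h.es.orderOf_eq e
  obtain ⟨P, h2, h3⟩ := h.pre.exists_sylow
  have h4 : ∀ a ∈ E, a * a = 1 := fun a ha => by
    by_cases e : a = 1
    exacts [by simp [e], h.sq ((hf a).2 ⟨ha, e⟩).1]
  obtain ⟨t, ht, t1, tz⟩ : ∃ t ∈ E, t ≠ 1 ∧ t ≠ z := by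
    by_contra! hn
    have := card_le_of_le (show E ≤ zpowers z from fun t ht => h.es.mem_zpowers.2 (by
      by_cases e : t = 1
      exacts [.inl e, .inr (hn t ht e)]))
    rw [h16, Nat.card_zpowers, h.es.orderOf_eq] at this
    omega
  obtain ⟨x, hx, e⟩ := h.es.exists_not_comm (hE ht) t1 tz
  refine (e (GHM.comm_of_sc h.ncomm (Tech.IsSylowIn.of_sylow_top P) (hE.trans h2)
    (fun e => t1 (mem_bot.1 (e ▸ ht))) (fun a ha b hb => ?_) (fun a ha g hg => ?_) (h2 (hE ht))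
    (h4 t ht) (h2 hx)).symm).elim
  · rw [← inv_eq_of_mul_eq_one_right (h4 _ (mul_mem ha hb)), mul_inv_rev,
      inv_eq_of_mul_eq_one_right (h4 a ha), inv_eq_of_mul_eq_one_right (h4 b hb)]
  · by_cases e : a = 1
    · simp [e]
    · exact ((hf _).1 ⟨isConj_conj ((hf a).2 ⟨ha, e⟩).1 g, mem_cent.1 (h3 hg)⟩).1

theorem Cd.suz (c : Cd z) (hF : generalizedFittingSubgroup (CC z) = pCore 2 (CC z))
    (hE : IsExtraspecial 2 (pCore 2 (CC z))) {t : G}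
    (ht : IsConj z t) (hQ : t ∈ Qx z) (hne : t ≠ z) :
    (Nonempty (G ≃* Held.SL5) ∨ Nonempty (G ≃* M24) ∨ Nonempty (G ≃* Spor.He)) ∨ Spor.IsoSuz G := by
  have h := c.hyp
  obtain ⟨T, E, U, ld, h1, h2⟩ := c.exists_ld ht hQ hne
  by_cases hp : ∀ a ∈ T, ∀ b ∈ T, polar c.q a b = 0
  · obtain ⟨ψ, hψ⟩ := ld.ts_iso h1 hp
    exact .inl (c.held hψ)
  push Not at hp
  obtain ⟨a, ha, b, hb, e⟩ := hp
  rw [zmod2_ne_zero] at e
  obtain ⟨hK, h3⟩ := ld.full ha hb e (ld.small ha hb e)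
  rcases plus_or_minus c.nd with ⟨_, _, _, h4⟩ | ⟨⟨ε⟩⟩
  · refine (plus_false c (fun x hx x2 x1 xz => ?_) h4).elim
    obtain ⟨k1, k2, k3⟩ := h3 (c.π x) (fun e => by simpa [x1, xz] using (c.co.ker x hx).1 e)
      ((c.co.sq x hx).2 x2)
    obtain ⟨k4, k5, k6⟩ := h2 x hx k1
    refine ⟨k4, hx, xz, fun y hy hy' => ?_, fun u hu => k6 u (k3 u hu)⟩
    rcases k2 _ ((k5 y hy).2 hy') with e | e
    · exact ((c.co.ker y hy).1 e).imp_right .inl
    · exact .inr (.inr ((c.co.eq_iff hx hy).1 e.symm))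
  have hk : pCore 2 (CC z) = c.ρ.ker := by ext g; exact ((c.ker g).trans coe_mem_amb).symm
  obtain ⟨g, rfl⟩ := isConj_iff.1 ht
  exact .inr (Agent.S1719.result z h.es.orderOf_eq _ hF hE ((card_amb _).symm.trans h.card)
    (((QuotientGroup.quotientMulEquivOfEq hk).trans (QuotientGroup.quotientKerEquivRange c.ρ)).trans
      ((MulEquiv.subgroupCongr hK).trans ε)) ⟨g, ⟨h.pre.le_cent hQ, coe_mem_amb.1 hQ⟩, hne⟩)

open SylT.TU in
theorem T3.psu {s : G} (p : T3 z s) : Nonempty (G ≃* PSU 5 Classical.GF4 2) := by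
  obtain ⟨c⟩ := p.hyp.exists_cd
  obtain ⟨φ, hφ⟩ := p.exists_hom
  obtain ⟨B, _, _, la⟩ := p.exists_la c
  obtain ⟨ψ, h1, h2⟩ := exists_U5
  have h3 : Nat.card φ.range = 1024 := (Nat.card_congr (φ.ofInjective hφ).toEquiv).symm.trans card_T
  have h4 : Tech.IsSylowIn 2 φ.range ⊤ := by
    refine ⟨le_top, .of_card (n := 10) h3, fun ⟨k, hk⟩ => la.not_dvd ?_⟩
    have h5 := (φ.range.card_mul_index).trans (CC z).card_mul_index.symm
    rw [relIndex_top_right] at hk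
    rw [h3, hk, c.card_cent] at h5
    exact (Nat.Coprime.pow_left 4 (Nat.coprime_two_left.2 p.hyp.pre.odd_index)).dvd_of_dvd_mul_right
      ⟨k, by linarith⟩
  exact s0513 Classical.card_GF4 h4.toSylowTop h2.toSylowTop
    ⟨(φ.ofInjective hφ).symm.trans (ψ.ofInjective h1)⟩

theorem Hyp.psu (h : Hyp z) (wc : WC z) : Nonempty (G ≃* PSU 5 Classical.GF4 2) := by
  obtain ⟨g, hg, hne⟩ : ∃ g : G, Commute z (g * z * g⁻¹) ∧ g * z * g⁻¹ ≠ z := by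
    by_contra! hn
    exact ZStar.not_isolated_of_simple h.ncomm z ⟨h.es.orderOf_eq, hn⟩
  have p : WA z (g * z * g⁻¹) := ⟨h, wc, isConj_iff.2 ⟨g, rfl⟩, hg.eq.symm, hne⟩
  by_contra hn
  refine p.not_t2 fun x y _ p' => ?_
  by_cases h1 : Phi (Qx x) x y
  · exact (p'.t2 h1).1
  by_cases h2 : Phi (Qx y) y x
  · exact (p'.symm.t2 h2).2
  exact (hn (T3.psu ⟨p', h1, h2⟩)).elim

end CfsgLib.LXQ
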