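import Cfsg.Agent.Lib.LXQ.Tri

/-! plans/LXQ.md, package PLUS1: the group `O₂⟨Q_z, Q_x⟩` when `Q_z ⊓ Q_x = ⟨z, x⟩` -/

set_option autoImplicit false

namespace CfsgLib.LXQ

open Subgroup QuadraticMap Module CfsgLib.ExtraTwo CfsgLib.LargeExtra CfsgLib.OrthE CfsgLib.W4

variable {G : Type*} [Group G] [Finite G]

namespace F1

variable {z x r r' a b : G} {c : Cd z} (h : F1 c x) {w w' : V}
include h

theorem pair : Pair (Qx z) (Qx x) z x := c.hyp.pair h.conj h.mem h.ne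

omit [Finite G] in
theorem qx : c.q (c.π x) = 0 := c.q_conj h.conj h.mem

omit [Finite G] in
theorem x0 : c.π x ≠ 0 := c.π_ne h.conj h.mem h.ne

theorem exists_b : ∃ b ∈ Qx x, b * z ≠ z * b :=
  let ⟨b, hb, e⟩ := h.pair.h1.es.exists_not_comm h.pair.zQ1 c.hyp.es.ne_one h.ne.symm; ⟨b, hb, e⟩

omit [Finite G] in
theorem exists_a : ∃ a ∈ Qx z, a * x ≠ x * a :=
  c.hyp.es.exists_not_comm h.mem (c.hyp.conj h.conj).es.ne_one h.ne

theorem conj_b (hb : b ∈ Qx x) (hbz : b * z ≠ z * b) (ha : a ∈ Qx z) (hax : a * x = x * a) :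
    ∃ r ∈ Qx x, r * z = z * r ∧ c.r r = eich c.q (c.π x) (c.π a) ∧ b * a * b⁻¹ = r * a := by
  have p := h.pair
  obtain ⟨hr, hz⟩ := p.symm.commutator_Q hb hax (p.h0.es.comm_z a ha)
  refine ⟨_, hr, hz, ?_, by group⟩
  set r := b * a * b⁻¹ * a⁻¹ with hr'
  obtain ⟨a0, ha0, e0⟩ := h.exists_a
  obtain ⟨h1, h2⟩ := c.sieg h.conj h.mem h.ne hr hz ha0 e0
  have hu : r * a0 * r⁻¹ * a0⁻¹ ∈ Qx z := mul_mem (p.h0.norm r hz a0 ha0) (inv_mem ha0)
  set u := r * a0 * r⁻¹ * a0⁻¹ with hu'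
  have hz' : r⁻¹ * z = z * r⁻¹ := mem_cent.1 (inv_mem (mem_cent.2 hz))
  have h3 := conj_mem_Qx (p.h1.es.conj_of_ne p.zQ1 hb hbz) ha
  rw [← p.comm] at h3
  have h4 := mul_mem (conj_mem_Qx (p.h0.es.conj_of_ne h.mem ha0 e0) (inv_mem hr)) h3
  have h5 := p.h0.norm _ hz' u hu
  rw [show a0 * r⁻¹ * a0⁻¹ * (b * a * b⁻¹) = r⁻¹ * u * r⁻¹⁻¹ * a by rw [hu', hr']; group] at h4
  have h6 : c.π (r⁻¹ * u * r⁻¹⁻¹ * a) = c.π u + c.π a := by
    rw [c.co.map_mul _ h5 _ ha, ← c.r_act hz' hu, c.r_inv hz, h2, eich_inv h.qx h1,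
      eich_apply_of_orth (by rwa [polar_comm]) (bself _)]
  rw [h2]
  rcases h.small _ (mul_mem h5 ha) ((mem_Qx_mul p (mul_mem h5 ha)).1 h4) with e | e | e | e <;>
    rw [e] at h6
  · rw [eq_of_add_eq_zero (h6.symm.trans c.co.map_one)]
  · rw [eq_of_add_eq_zero (h6.symm.trans c.co.map_z)]
  · rw [← eich_add_self h.qx h1, h6, ← add_assoc, vv, zero_add]
  · rw [c.co.map_mul_z h.mem] at h6
    rw [← eich_add_self h.qx h1, h6, ← add_assoc, vv, zero_add]

theorem aux (hr : r ∈ Qx x) (hb : b ∈ Qx x) (hbz : b * z ≠ z * b) (hax : a * x = x * a)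
    (e : b * a * b⁻¹ = r' * a) (hc : r * r' = r' * r) : r * a * r⁻¹ ≠ a * z := fun e' => by
  have p := h.pair
  have h1 : b * r * b⁻¹ * (r' * a) * (b * r * b⁻¹)⁻¹ = r' * a * (z * x) := by
    rw [← e, ← p.h1.es.conj_of_ne p.zQ1 hb hbz, conj_mul (a := a) (c := z), ← e']; group
  have h2 : r * (r' * a) * r⁻¹ = r' * a * z := by rw [← mul_assoc, hc, mul_assoc r' a, ← e']; group
  have h3 : x * (r' * a) * x⁻¹ = r' * a := by
    have := p.h1.es.comm_z b hb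
    rw [← e, ← mul_assoc, ← mul_assoc, ← this, mul_assoc b, ← hax, mul_assoc, mul_assoc, ← mul_inv_rev,
      ← this]
    group
  refine p.t_ne_one ?_
  rcases p.h1.es.conj hr hb with e1 | e1 <;> rw [e1] at h1
  · simpa [h2, mul_assoc] using h1.symm
  · rw [show r * x * (r' * a) * (r * x)⁻¹ = r * (x * (r' * a) * x⁻¹) * r⁻¹ by group, h3, h2] at h1
    simpa [mul_assoc] using h1.symm

theorem sq (hr : r ∈ Qx x) (hz : r * z = z * r) (hw : polar c.q (c.π x) w = 0)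
    (e : c.r r = eich c.q (c.π x) w) : r * r = 1 ↔ c.q w = 0 := by
  have p := h.pair
  obtain ⟨a0, ha0, e0⟩ := h.exists_a
  obtain ⟨h1, h2⟩ := c.sieg h.conj h.mem h.ne hr hz ha0 e0
  have hu : r * a0 * r⁻¹ * a0⁻¹ ∈ Qx z := mul_mem (p.h0.norm r hz a0 ha0) (inv_mem ha0)
  set u := r * a0 * r⁻¹ * a0⁻¹ with hu'
  have hux : u * x = x * u := ((c.co.polar_iff h.mem hu).1 h1).symm
  have h3 : c.q (c.π u) = c.q w := by
    rcases eich_inj c.nd h.qx hw h1 h.x0 (e.symm.trans h2) with e1 | e1 <;> rw [e1]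
    rw [qadd, h.qx, polar_comm, hw, add_zero, add_zero]
  have h4 : r * u * r⁻¹ = u := by
    refine ((c.r_fix hz hu).1 (by rw [h2, eich_apply_of_orth (by rwa [polar_comm]) (bself _)])).resolve_right ?_
    obtain ⟨b, hb, hbz⟩ := h.exists_b
    obtain ⟨r', hr', hz', e1, e2⟩ := h.conj_b hb hbz hu hux
    refine h.aux hr hb hbz hux e2 ?_
    have h5 : r * (r⁻¹ * r') = r⁻¹ * r' * r := by
      rcases h.small _ ((c.r_eq_iff hz hz').1 (h2.trans e1.symm)) (mul_mem (inv_mem hr) hr') with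
        e | e | e | e <;> rw [e]
      exacts [by group, hz, p.h1.es.comm_z r hr,
        by rw [← mul_assoc, p.h1.es.comm_z r hr, mul_assoc, hz, mul_assoc]]
    calc r * r' = r * (r * (r⁻¹ * r')) := by group
      _ = r' * r := by rw [h5]; group
  have h5 : u * u = r * r * (a0 * (r * r)⁻¹ * a0⁻¹) := by
    rw [show u * u = r * u * r⁻¹ * u by rw [h4], hu']; group
  rw [← h3, c.co.sq u hu, h5]
  rcases p.h1.es.sq hr with e1 | e1 <;> rw [e1]
  · simp
  · rw [← conj_inv, p.h0.es.conj_of_ne h.mem ha0 e0]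
    refine iff_of_false p.t_ne_one fun e => p.h0.es.ne_one ?_
    rw [mul_inv_eq_one] at e
    simpa using e.symm

theorem comm (hr : r ∈ Qx x) (hz : r * z = z * r) (hw : polar c.q (c.π x) w = 0)
    (e : c.r r = eich c.q (c.π x) w) (hr' : r' ∈ Qx x) (hz' : r' * z = z * r')
    (hw' : polar c.q (c.π x) w' = 0) (e' : c.r r' = eich c.q (c.π x) w') :
    r * r' = r' * r ↔ polar c.q w w' = 0 := by
  classical
  have k : ∀ {p : Prop} [Decidable p] {y : ZMod 2}, (p ↔ y = 0) → (if p then 0 else 1) = y :=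
    fun {p} _ {y} hp => by
      split_ifs with e
      exacts [(hp.1 e).symm, (zmod2_ne_zero.1 fun e' => e (hp.2 e')).symm]
  have h1 := h.pair.h1.es.sq_mul hr hr'
  rw [k (h.sq hr hz hw e), k (h.sq hr' hz' hw' e'), k (h.sq (w := w + w') (mul_mem hr hr')
    (mem_cent.1 (mul_mem (mem_cent.2 hz) (mem_cent.2 hz'))) (by rw [polar_add_right, hw, hw', add_zero])
    (by rw [c.r_mul hz hz', e, e', eich_mul h.qx hw hw'])), qadd, add_right_inj] at h1
  rw [h1]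
  split_ifs with e
  exacts [iff_of_true e rfl, iff_of_false e one_ne_zero]

theorem comm_A (hr : r ∈ Qx x) (hz : r * z = z * r) (hw : polar c.q (c.π x) w = 0)
    (e : c.r r = eich c.q (c.π x) w) (ha : a ∈ Qx z) (hax : a * x = x * a)
    (haw : polar c.q (c.π a) w = 0) : r * a = a * r := by
  have h1 := (c.co.polar_iff ha h.mem).2 hax
  refine comm_of_conj_eq (((c.r_fix hz ha).1 (by rw [e, eich_apply_of_orth h1 haw])).resolve_right ?_)
  obtain ⟨b, hb, hbz⟩ := h.exists_b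
  obtain ⟨r', hr', hz', e1, e2⟩ := h.conj_b hb hbz ha hax
  exact h.aux hr hb hbz hax e2 ((h.comm hr hz hw e hr' hz' (by rwa [polar_comm]) e1).2
    (by rwa [polar_comm]))

end F1

end CfsgLib.LXQ
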