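import Cfsg.Agent.Lib.LXQ.Tri

/-! plans/LXQ.md, common part of the packages A12 and A3: `σ = c.r s = eich n w` -/

set_option autoImplicit false

namespace CfsgLib.LXQ

open Subgroup QuadraticMap Module CfsgLib.ExtraTwo CfsgLib.LargeExtra CfsgLib.OrthE CfsgLib.W4
  CfsgLib.Small9

section Lin

variable {q : QuadraticForm (ZMod 2) V}

local notation "β" => polar q
local notation "dim" => finrank (ZMod 2)

/-- the line `⟨n, w⟩` -/
abbrev Ln (n w : V) : Sub := Submodule.span (ZMod 2) {n, w}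

theorem ln1 (n w : V) : n ∈ Ln n w := Submodule.subset_span (by simp)
theorem ln2 (n w : V) : w ∈ Ln n w := Submodule.subset_span (by simp)

theorem dim_Ln_le (n w : V) : dim (Ln n w) ≤ 2 := by
  have := card_le_of (S := Ln n w) [0, n, w, n + w] fun v hv => by simpa using mem_span2.1 hv
  by_contra h
  have := Nat.pow_le_pow_right two_pos (show 3 ≤ dim (Ln n w) by omega)
  simp at *; omega

theorem dim_Ln {n w : V} (h1 : n ≠ 0) (h2 : w ≠ 0) (h3 : w ≠ n) : dim (Ln n w) = 2 := by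
  refine le_antisymm (dim_Ln_le n w) (le_dim_of (k := 1) [0, n, w] ?_ ?_ (by simp))
  · simp only [List.nodup_cons, List.mem_cons, List.not_mem_nil, or_false, not_or, List.nodup_nil]
    grind
  · simp only [List.mem_cons, List.not_mem_nil, or_false]
    rintro v (rfl | rfl | rfl)
    exacts [Submodule.zero_mem _, ln1 _ _, ln2 _ _]

theorem b_Ln {n w v x : V} (h1 : β n v = 0) (h2 : β w v = 0) (hx : x ∈ Ln n w) : β x v = 0 := by
  rcases mem_span2.1 hx with rfl | rfl | rfl | rfl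
  exacts [polar_zero_left _ _, h1, h2, by rw [polar_add_left, h1, h2, add_zero]]

theorem mem_pp_Ln {n w v : V} : v ∈ pp q (Ln n w) ↔ β n v = 0 ∧ β w v = 0 :=
  ⟨fun h => ⟨h n (ln1 n w), h w (ln2 n w)⟩, fun h _ hx => b_Ln h.1 h.2 hx⟩

theorem Ln_eq {n w n' w' : V} (h1 : n' ∈ Ln n w) (h2 : w' ∈ Ln n w) (h3 : n' ≠ 0) (h4 : w' ≠ 0)
    (h5 : w' ≠ n') : Ln n' w' = Ln n w :=
  eq_of_dim (Submodule.span_le.2 (by rintro _ (rfl | rfl) <;> assumption))
    ((dim_Ln_le n w).trans (dim_Ln h3 h4 h5).ge)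

/-- a hyperplane `S` of `T` -/
theorem mem_hyp {S T : Sub} (h : S ≤ T) (hd : dim T ≤ dim S + 1) {a v : V} (ha : a ∈ T) (ha' : a ∉ S)
    (hv : v ∈ T) : v ∈ S ∨ v + a ∈ S := by
  have d1 := dim_lt (S' := S ⊔ Submodule.span _ {a}) le_sup_left
    (Submodule.mem_sup_right (Submodule.mem_span_singleton_self _)) ha'
  have d2 := eq_of_dim (S := S ⊔ Submodule.span _ {a}) (S' := T) (sup_le h (by simpa using ha)) (by omega)
  obtain ⟨s, hs, w, hw, rfl⟩ := Submodule.mem_sup.1 (d2.ge hv)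
  obtain ⟨k, rfl⟩ := Submodule.mem_span_singleton.1 hw
  rcases zmod2_cases k with rfl | rfl <;> simp only [zero_smul, one_smul, add_zero]
  exacts [.inl hs, .inr (by rwa [add_assoc, vv, add_zero])]

variable (nd : Nondeg q)
include nd

theorem mem_Ln {n w u : V} (h : ∀ v, β n v = 0 → β w v = 0 → β u v = 0) : u ∈ Ln n w := by
  by_contra hc
  obtain ⟨v, h1, h2⟩ := exists_sep nd hc
  rw [h v (h1 n (ln1 n w)) (h1 w (ln2 n w))] at h2
  exact zero_ne_one h2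

/-- an isometry fixing `δ` that is trivial on `⟨δ, ν⟩^⊥ / δ` is a Siegel transformation -/
theorem tool {g : O q} {δ ν : V} (h1 : q δ = 0) (h2 : q ν = 0) (h3 : β δ ν = 0) (h0 : δ ≠ 0)
    (hg : g.1 δ = δ) (h : ∀ v, β δ v = 0 → β ν v = 0 → g.1 v = v ∨ g.1 v = v + δ) :
    ∃ y, β δ y = 0 ∧ g = eich q δ y :=
  exists_eich nd h1 h0 hg fun v hv => triv_of_rank nd h1 h2 h3 (fun v hv => mem_Ln nd fun u u1 u2 => by
    have e1 := O_polar g v u
    have e2 := O_polar g v δ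
    rw [hg, polar_comm q v, hv] at e2
    rw [polar_add_left]
    rcases h u u1 u2 with e | e <;> rw [e] at e1
    · rw [e1, add_self_zmod2]
    · rw [polar_add_right, e2, add_zero] at e1
      rw [e1, add_self_zmod2]) hv

theorem card_le_eight {S : Sub} (h3 : dim S = 3) {n w : V} (qn : q n = 0) (n0 : n ≠ 0) (hn : n ∈ S)
    (hw : w ∉ S) (h1 : ∀ a ∈ S, β a n = 0) (h2 : ∀ a ∈ S, β a w = 0) {P : Subgroup (O q)}
    (hP : ∀ g ∈ P, (∀ a ∈ S, g.1 a = a) ∧ (g.1 w = w ∨ g.1 w = w + n)) : Nat.card P ≤ 8 := by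
  obtain ⟨x, x1, x2⟩ := exists_sep nd hw
  obtain ⟨v₀, hv⟩ := exists_b nd n0
  have nw := h2 n hn
  have nx := x1 n hn
  have hX : ∀ u, (∀ a ∈ S, β a u = 0) → β u w = 0 → β u x = 0 → u = 0 ∨ u = n := fun u hu u1 u2 => by
    have := dim_pp nd S
    obtain ⟨a, b, c, rfl⟩ := mem3 (S := pp q S) (by omega) h1 h2 x1 hu n0 (fun e => hw (e ▸ S.zero_mem))
      (fun e => hw (e ▸ hn)) (fun e => by simp [e] at x2) (fun e => by
        rw [e, polar_comm, nw] at x2; exact zero_ne_one x2) (fun e => by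
        rw [e, bself] at x2; exact zero_ne_one x2) (fun e => by
        rw [e, polar_add_right, bself, polar_comm, nw, add_zero] at x2; exact zero_ne_one x2)
    simp only [polar_add_left, polar_smul_left, nw, nx, bself, x2, polar_comm q x w, smul_eq_mul,
      mul_zero, mul_one, zero_add, add_zero] at u1 u2
    subst u1 u2
    rcases zmod2_cases a with rfl | rfl <;> simp
  have hm : ∀ g ∈ P, ∀ g' ∈ P, ∀ v, ∀ a ∈ S, β a (g.1 v + g'.1 v) = 0 := fun g hg g' hg' v a ha => by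
    have e1 := b_fix ((hP g hg).1 a ha) v
    have e2 := b_fix ((hP g' hg').1 a ha) v
    simp only [polar_add_right] at e1 e2 ⊢
    grind
  have hw' : ∀ g ∈ P, ∀ v, β n v = 0 → β (g.1 v) w = β v w := fun g hg v hv => by
    have e1 := O_polar g v w
    have e2 := O_polar g v n
    rw [(hP g hg).1 n hn, polar_comm q v, hv] at e2
    rcases (hP g hg).2 with e | e <;> rw [e] at e1
    · exact e1
    · rwa [polar_add_right, e2, add_zero] at e1
  simpa using Nat.card_le_card_of_injective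
    (fun g : P => (β (g.1.1 x) x, β (g.1.1 v₀) w, β (g.1.1 v₀) x)) fun g g' e => by
    simp only [Prod.mk.injEq] at e
    have hh := P.mul_mem (P.inv_mem g'.2) g.2
    set h := g'.1⁻¹ * g.1 with hd
    have hn' := (hP h hh).1 n hn
    have k : ∀ v, β (g.1.1 v) w = β (g'.1.1 v) w → β (g.1.1 v) x = β (g'.1.1 v) x →
        h.1 v = v ∨ h.1 v = v + n := fun v e1 e2 => by
      have e3 : h.1 v + v = (g'.1⁻¹).1 (g.1.1 v + g'.1.1 v) := by
        rw [map_add, O_inv_apply_apply]; rfl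
      rcases hX _ (hm _ g.2 _ g'.2 v) (by rw [polar_add_left, e1, add_self_zmod2])
        (by rw [polar_add_left, e2, add_self_zmod2]) with e | e <;> rw [e] at e3
      · rw [map_zero] at e3; exact .inl (eq_of_add_eq_zero e3)
      · rw [(hP _ (P.inv_mem g'.2)).1 n hn] at e3; exact .inr (by grind)
    have kx := k x (by rw [hw' _ g.2 x nx, hw' _ g'.2 x nx]) e.1
    obtain ⟨-, e1⟩ := eq_eich qn hn' (fun v hv => by
      have e1 := O_polar h v x
      have e2 := O_polar h v n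
      rw [hn', polar_comm q v, hv] at e2
      have := hX (h.1 v + v) (hm h hh 1 P.one_mem v)
        (by rw [polar_add_left, hw' h hh v hv, add_self_zmod2]) (by
          rw [polar_add_left]
          rcases kx with e | e <;> rw [e] at e1
          · rw [e1, add_self_zmod2]
          · rw [polar_add_right, e2, add_zero] at e1
            rw [e1, add_self_zmod2])
      grind) hv
    refine Subtype.ext (inv_mul_eq_one.1 ?_).symm
    rcases k v₀ e.2.1 e.2.2 with e2 | e2 <;> rw [e2] at e1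
    · rwa [vv, eich_zero_right] at e1
    · rwa [show v₀ + n + v₀ = n by grind, eich_self] at e1

end Lin

variable {G : Type*} [Group G]

/-- `s` acts on `Q_z / z` as `eich n w` -/
structure Sg {z : G} (c : Cd z) (s : G) (n w : V) : Prop extends WA z s where
  qn : c.q n = 0
  nw : polar c.q n w = 0
  n0 : n ≠ 0
  w0 : w ≠ 0
  wn : w ≠ n
  eq : c.r s = eich c.q n w

theorem WA.exists_sg [Finite G] [IsSimpleGroup G] {z s : G} (p : WA z s) (c : Cd z) :
    ∃ n w, Sg c s n w := by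
  obtain ⟨n, w, h⟩ := invol_eich c.nd (c.lk.om (c.r_mem s))
    (by rw [← c.r_mul p.comm p.comm, p.wp.ss, c.r_eq_one (by simp)]; exact one_mem _)
    fun e => p.wp.s_not_mem ((c.r_eq_one p.comm).1 e)
  exact ⟨n, w, p, h.1, h.2.1, h.2.2.1, h.2.2.2.1, h.2.2.2.2.1, h.2.2.2.2.2⟩

theorem mem_AA {z s x : G} : x ∈ AA z s ↔ x ∈ Qx z ∧ x * s = s * x := and_congr_right fun _ => mem_cent

namespace WA

variable {z s a b d : G} (p : WA z s) (c : Cd z)
include p

theorem hσ : ∀ x ∈ Qx z, ((c.r s).1 : V →ₗ[ZMod 2] V) (c.π x) = c.π (s * x * s⁻¹) :=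
  fun _ hx => c.r_act p.comm hx

theorem z_mem : z ∈ AA z s := mem_AA.2 ⟨p.hyp.es.mem, p.comm.symm⟩

theorem D_le_A (hd : d ∈ DD z s) : d ∈ AA z s := mem_AA.2 ⟨hd.1, p.wp.D_comm_s hd.2⟩

theorem comm_D (ha : a ∈ AA z s) (hb : b ∈ AA s z) : b * a * b⁻¹ * a⁻¹ ∈ DD z s :=
  p.wp.comm_mem ha.1 (mem_cent.1 ha.2) hb.1 (mem_cent.1 hb.2)

theorem π_D (hd : d ∈ DD z s) (h : c.π d = 0) : d = 1 :=
  ((c.co.ker d hd.1).1 h).resolve_right fun e => p.wp.z_not_mem (e ▸ hd.2)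

theorem π_inj {d' : G} (hd : d ∈ DD z s) (hd' : d' ∈ DD z s) (h : c.π d = c.π d') : d = d' :=
  mul_inv_eq_one.1 (p.π_D c (mul_mem hd (inv_mem hd')) (by
    rw [c.co.map_mul _ hd.1 _ (inv_mem hd'.1), c.co.map_inv hd'.1, h, vv]))

theorem q_D (hd : d ∈ DD z s) : c.q (c.π d) = 0 := (c.co.sq d hd.1).2 (p.wp.D_sq hd.1 hd.2)

theorem b_D (ha : a ∈ AA z s) (hd : d ∈ DD z s) : polar c.q (c.π a) (c.π d) = 0 :=
  (c.co.polar_iff ha.1 hd.1).2 (p.wp.D_comm_A hd.1 hd.2 ha.1 (mem_cent.1 ha.2))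

theorem fix_D (hb : b ∈ AA s z) (hd : d ∈ DD z s) : (c.r b).1 (c.π d) = c.π d :=
  (c.r_fix (mem_cent.1 hb.2) hd.1).2
    (.inl (conj_eq_of_comm (p.wp.D_comm_B hd.1 hd.2 hb.1 (mem_cent.1 hb.2))))

/-- `b` commutes with `a` iff it fixes `π a` -/
theorem fix_iff_comm (ha : a ∈ AA z s) (hb : b ∈ AA s z) :
    (c.r b).1 (c.π a) = c.π a ↔ b * a = a * b := by
  refine ⟨fun h => ?_, fun h => (c.r_fix (mem_cent.1 hb.2) ha.1).2 (.inl (conj_eq_of_comm h))⟩
  have := p.π_D c (p.comm_D ha hb) (by rw [c.π_comm (mem_cent.1 hb.2) ha.1, h, vv])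
  exact comm_of_conj_eq (mul_inv_eq_one.1 this)

theorem r_comm (hb : b ∈ AA s z) : c.r b * c.r s = c.r s * c.r b := by
  rw [← c.r_mul (mem_cent.1 hb.2) p.comm, ← c.r_mul p.comm (mem_cent.1 hb.2), p.wp.D_comm_s hb.1]

omit p in
/-- the image of `B` -/
theorem mem_Bbar {g : O c.q} :
    g ∈ ((Qx s).subgroupOf (CC z)).map c.ρ ↔ ∃ b ∈ AA s z, c.r b = g :=
  ⟨fun ⟨b, h, e⟩ => ⟨b, ⟨h, b.2⟩, (c.r_coe b).trans e⟩,
    fun ⟨b, h, e⟩ => ⟨⟨b, h.2⟩, h.1, (c.r_coe ⟨b, h.2⟩).symm.trans e⟩⟩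

theorem card_B : Nat.card (DD z s) * Nat.card (((Qx s).subgroupOf (CC z)).map c.ρ) =
    Nat.card (AA s z) := p.wp.card_B c.ρ c.ker

end WA

namespace Sg

variable {z s a b d x : G} {c : Cd z} {n w : V} (h : Sg c s n w)
include h

theorem app (v : V) : (c.r s).1 v =
    v + polar c.q v w • n + polar c.q v n • w + (c.q w * polar c.q v n) • n := by
  rw [h.eq, eich_eq h.qn h.nw]

theorem fix_iff {v : V} : (c.r s).1 v = v ↔ polar c.q n v = 0 ∧ polar c.q w v = 0 := by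
  rw [polar_comm _ n, polar_comm _ w]
  refine ⟨fun e => ?_, fun e => by rw [h.eq, eich_apply_of_orth e.1 e.2]⟩
  have := h.app v
  have := h.n0; have := h.w0; have := h.wn
  rcases zmod2_cases (polar c.q v w) with e1 | e1 <;> rcases zmod2_cases (polar c.q v n) with e2 | e2 <;>
    rcases zmod2_cases (c.q w) with e3 | e3 <;>
    simp only [e1, e2, e3, zero_smul, one_smul, mul_zero, mul_one, add_zero] at * <;> grind

theorem mov (v : V) : (c.r s).1 v + v ∈ Ln n w :=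
  mem_Ln c.nd fun u u1 u2 => by rw [polar_comm]; exact b_fix (h.fix_iff.2 ⟨u1, u2⟩) v

theorem dimC : finrank (ZMod 2) (pp c.q (Ln n w)) = 4 := by
  have := dim_pp c.nd (Ln n w)
  rw [dim_Ln h.n0 h.w0 h.wn] at this
  omega

theorem cardC : Nat.card (LinearMap.ker (((c.r s).1 : V →ₗ[ZMod 2] V) + LinearMap.id)) = 16 := by
  have : LinearMap.ker (((c.r s).1 : V →ₗ[ZMod 2] V) + LinearMap.id) = pp c.q (Ln n w) := by
    ext v
    rw [mem_pp_Ln, ← h.fix_iff, ← add_eq_zero_zmod2]; rfl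
  rw [this, card_eq, h.dimC]; rfl

theorem cardA_one (hφ : Phi (Qx z) z s) : Nat.card (AA z s) = 16 :=
  (h.wp.card_A_one hφ c.co (h.hσ c)).trans h.cardC

theorem cardA_zero (hφ : ¬ Phi (Qx z) z s) : Nat.card (AA z s) = 32 := by
  rw [h.wp.card_A_zero hφ c.co (h.hσ c), h.cardC]

theorem perp (ha : a ∈ AA z s) : polar c.q n (c.π a) = 0 ∧ polar c.q w (c.π a) = 0 :=
  h.fix_iff.1 ((c.r_fix h.comm ha.1).2 (.inl (conj_eq_of_comm (mem_cent.1 ha.2).symm)))

theorem exists_nn [Finite G] (hx : x ∈ Qx z) (hN : c.π x ∈ Ln n w) :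
    ∃ y ∈ Qx z, x = nn s y ∨ x = nn s y * z :=
  h.wp.exists_nn c.co (h.hσ c) hx fun y hy e => (c.co.polar_iff hy hx).1 (by
    rw [polar_comm]; exact b_Ln (h.fix_iff.1 e).1 (h.fix_iff.1 e).2 hN)

/-- `s` inverts the lifts of `N` -/
theorem inv_N [Finite G] (hx : x ∈ Qx z) (hN : c.π x ∈ Ln n w) : s * x * s⁻¹ = x⁻¹ := by
  obtain ⟨y, hy, rfl | rfl⟩ := h.exists_nn hx hN
  · exact h.wp.conj_nn_self y
  · rw [← conj_mul, h.wp.conj_nn_self, conj_eq_of_comm h.comm, mul_inv_rev, h.hyp.es.inv_eq,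
      h.hyp.es.comm_z _ (inv_mem (h.wp.nn_mem hy))]

theorem mem_A_iff [Finite G] (hx : x ∈ Qx z) (hN : c.π x ∈ Ln n w) :
    x ∈ AA z s ↔ c.q (c.π x) = 0 := by
  rw [mem_AA, c.co.sq x hx, and_iff_right hx, eq_comm, ← mul_inv_eq_iff_eq_mul, h.inv_N hx hN,
    inv_eq_iff_mul_eq_one]

theorem N_inv (hb : b ∈ AA s z) {v : V} (hv : v ∈ Ln n w) : (c.r b).1 v ∈ Ln n w :=
  mem_Ln c.nd fun u u1 u2 => by
    have e : (c.r s).1 (((c.r b)⁻¹).1 u) = ((c.r b)⁻¹).1 u := by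
      rw [← O_mul_apply, ← (Commute.inv_left (h.r_comm c hb)).eq, O_mul_apply, h.fix_iff.2 ⟨u1, u2⟩]
    rw [O_polar_left]
    exact b_Ln (h.fix_iff.1 e).1 (h.fix_iff.1 e).2 hv

theorem rebase (qw : c.q w = 0) {n' w' : V} (h1 : n' ∈ Ln n w) (h2 : w' ∈ Ln n w) (h3 : n' ≠ 0)
    (h4 : w' ≠ 0) (h5 : w' ≠ n') : Sg c s n' w' := by
  have hq : ∀ v ∈ Ln n w, c.q v = 0 := fun v hv => by
    rcases mem_span2.1 hv with rfl | rfl | rfl | rfl
    exacts [map_zero _, h.qn, qw, by rw [qadd, h.qn, qw, h.nw]; rfl]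
  have e := Ln_eq h1 h2 h3 h4 h5
  refine ⟨h.toWA, hq _ h1, bsing hq h1 h2, h3, h4, h5, ?_⟩
  refine (fix_perp c.nd (hq _ h1) (hq _ h2) (bsing hq h1 h2) h3 fun v v1 v2 => ?_).resolve_left
    fun e => h.wp.s_not_mem ((c.r_eq_one h.comm).1 e)
  exact h.fix_iff.2 ⟨b_Ln v1 v2 (e.ge (ln1 n w)), b_Ln v1 v2 (e.ge (ln2 n w))⟩

end Sg

theorem WA.cardA_ge [Finite G] [IsSimpleGroup G] {z s : G} (p : WA z s) : 16 ≤ Nat.card (AA z s) := by
  obtain ⟨c⟩ := p.hyp.exists_cd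
  obtain ⟨n, w, h⟩ := p.exists_sg c
  by_cases hφ : Phi (Qx z) z s
  · exact (h.cardA_one hφ).ge
  · rw [h.cardA_zero hφ]; decide

end CfsgLib.LXQ
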